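import Mathlib

/-!
# Reduction of `p`-local subgroups to standard ones (part S of S5740)
-/

set_option autoImplicit false

namespace H21.LpS
open Subgroup

universe u
variable {X : Type u} [Group X]

theorem coatom_conj (P : Subgroup X) (g : X)
    (h : ¬ IsCoatom (normalizer ((P.map (MulAut.conj g).toMonoidHom : Subgroup X) : Set X))) :
    ¬ IsCoatom (normalizer (P : Set X)) := by
  intro hc
  apply h
  rw [← Subgroup.map_equiv_normalizer_eq P (MulAut.conj g)]
  exact ((MulAut.conj g).mapSubgroup.isCoatom_iff _).2 hc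

theorem conj_le [Finite X] (p k : ℕ) (hp : p.Prime) (Q : Subgroup X) (hQ : Nat.card Q = p ^ k)
    (hn : ¬ p ^ (k + 1) ∣ Nat.card X) (P : Subgroup X) (hP : IsPGroup p P) :
    ∃ g : X, P.map (MulAut.conj g).toMonoidHom ≤ Q := by
  haveI : Fact p.Prime := ⟨hp⟩
  obtain ⟨S, hS⟩ := hP.exists_le_sylow
  obtain ⟨S', hS'⟩ := (IsPGroup.of_card hQ).exists_le_sylow
  obtain ⟨g, hg⟩ := MulAction.exists_smul_eq X S S'
  obtain ⟨m, hm⟩ := (IsPGroup.iff_card).1 S'.isPGroup'
  have hmk : m ≤ k := by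
    by_contra hlt
    apply hn
    exact (pow_dvd_pow p (by omega)).trans (hm ▸ Subgroup.card_subgroup_dvd_card (S' : Subgroup X))
  have hQS : Q = (S' : Subgroup X) := by
    apply Subgroup.eq_of_le_of_card_ge hS'
    rw [hm, hQ]
    exact Nat.pow_le_pow_right hp.pos hmk
  refine ⟨g, ?_⟩
  rw [hQS, ← hg]
  rintro _ ⟨x, hx, rfl⟩
  rw [Sylow.coe_subgroup_smul]
  exact Subgroup.smul_mem_pointwise_smul x (MulAut.conj g) _ (hS hx)

theorem map_ne_bot (P : Subgroup X) (g : X) (hP : P ≠ ⊥) : P.map (MulAut.conj g).toMonoidHom ≠ ⊥ := by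
  intro h
  apply hP
  rwa [Subgroup.map_eq_bot_iff_of_injective _ (MulAut.conj g).injective] at h

theorem eq_of_prime [Finite X] {p : ℕ} (hp : p.Prime) {P Q : Subgroup X} (hQ : Nat.card Q = p) (h : P ≤ Q) (hP : P ≠ ⊥) :
    P = Q := by
  have hd : Nat.card P ∣ p := hQ ▸ Subgroup.card_dvd_of_le h
  rcases (Nat.dvd_prime hp).1 hd with h1 | h1
  · exact absurd (Subgroup.card_eq_one.1 h1) hP
  · exact Subgroup.eq_of_le_of_card_ge h (by rw [h1, hQ])

theorem clos_eq [Finite X] {P : Subgroup X} (hP : Nat.card P = 7) {v : X} (hv : v ∈ P) (h1 : v ≠ 1) :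
    P = closure {v, v} := by
  symm
  apply eq_of_prime (by norm_num : Nat.Prime 7) hP
  · rw [Subgroup.closure_le]
    rintro w (rfl | rfl) <;> exact hv
  · intro h
    apply h1
    have : v ∈ (closure {v, v} : Subgroup X) := Subgroup.subset_closure (by simp)
    rwa [h, Subgroup.mem_bot] at this

theorem mem_clos {x y : X} (hc : Commute x y) (hx : x ^ 7 = 1) (hy : y ^ 7 = 1) {w : X}
    (hw : w ∈ (closure {x, y} : Subgroup X)) : ∃ a b : ℕ, w = x ^ a * y ^ b := by
  induction hw using Subgroup.closure_induction with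
  | mem z hz =>
    rcases hz with rfl | rfl
    · exact ⟨1, 0, by simp⟩
    · exact ⟨0, 1, by simp⟩
  | one => exact ⟨0, 0, by simp⟩
  | mul z w _ _ hz hw =>
    obtain ⟨a, b, rfl⟩ := hz
    obtain ⟨c, d, rfl⟩ := hw
    refine ⟨a + c, b + d, ?_⟩
    rw [pow_add, pow_add, mul_assoc, mul_assoc, ← mul_assoc (y ^ b), ← (hc.pow_pow c b).eq, mul_assoc]
  | inv z _ hz =>
    obtain ⟨a, b, rfl⟩ := hz
    refine ⟨6 * a, 6 * b, ?_⟩
    rw [inv_eq_iff_mul_eq_one, mul_assoc, ← mul_assoc (y ^ b), ← (hc.pow_pow (6 * a) b).eq, mul_assoc, ← pow_add,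
      ← mul_assoc, ← pow_add, show a + 6 * a = 7 * a by ring, show b + 6 * b = 7 * b by ring, pow_mul, pow_mul, hx, hy]
    simp

theorem pow_mod7 {x : X} (hx : x ^ 7 = 1) (n : ℕ) : x ^ n = x ^ (n % 7) := by
  conv_lhs => rw [← Nat.div_add_mod n 7, pow_add, pow_mul, hx, one_pow, one_mul]

theorem inv7 (a : ℕ) (ha : a % 7 ≠ 0) : ∃ c : ℕ, (a * c) % 7 = 1 := by
  have h7 : a % 7 < 7 := Nat.mod_lt _ (by norm_num)
  have key : ∀ r < 7, r ≠ 0 → ∃ c < 7, (r * c) % 7 = 1 := by decide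
  obtain ⟨c, -, hc⟩ := key _ h7 ha
  exact ⟨c, by rw [Nat.mul_mod, Nat.mul_mod_mod]; exact hc⟩

theorem s : ∀ (X : Type u) [Group X], Nat.card X = 2 ^ 36 * 3 ^ 9 * 5 ^ 2 * 7 ^ 2 * 11 * 13 * 17 * 19 →
  (∀ p ∈ [11, 13, 17, 19], ∃ P : Subgroup X, Nat.card P = p ∧ ¬ IsCoatom (normalizer (P : Set X))) →
  (∃ x y : X, Commute x y ∧ x ^ 7 = 1 ∧ y ^ 7 = 1 ∧ Nat.card (closure {x, y} : Subgroup X) = 49 ∧
    ¬ IsCoatom (normalizer ((closure {x, y} : Subgroup X) : Set X)) ∧ ¬ IsCoatom (normalizer ((closure {y, y} : Subgroup X) : Set X)) ∧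
      ∀ i < 7, ¬ IsCoatom (normalizer ((closure {x * y ^ i, x * y ^ i} : Subgroup X) : Set X))) →
  ∀ p : ℕ, p.Prime → 5 < p → ∀ P : Subgroup X, IsPGroup p P → P ≠ ⊥ → ¬ IsCoatom (normalizer (P : Set X)) := by
  intro X _ hX h1 h7 p hp h5 P hP hP1
  haveI : Finite X := Nat.finite_of_card_ne_zero (by rw [hX]; norm_num)
  haveI : Fact p.Prime := ⟨hp⟩
  have hpd : p ∣ 2 ^ 36 * 3 ^ 9 * 5 ^ 2 * 7 ^ 2 * 11 * 13 * 17 * 19 := by
    obtain ⟨n, hn⟩ := (IsPGroup.iff_card).1 hP
    have hn0 : n ≠ 0 := by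
      rintro rfl
      exact hP1 (Subgroup.card_eq_one.1 (by simpa using hn))
    rw [← hX]
    exact (dvd_pow_self p hn0).trans (hn ▸ Subgroup.card_subgroup_dvd_card P)
  have hcases : p = 7 ∨ p ∈ [11, 13, 17, 19] := by
    have e : ∀ q k : ℕ, q.Prime → p ∣ q ^ k → p = q := fun q k hq h =>
      (Nat.prime_dvd_prime_iff_eq hp hq).1 (hp.dvd_of_dvd_pow h)
    have e1 : ∀ q : ℕ, q.Prime → p ∣ q → p = q := fun q hq h => (Nat.prime_dvd_prime_iff_eq hp hq).1 h
    simp only [hp.dvd_mul] at hpd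
    rcases hpd with ((((((h | h) | h) | h) | h) | h) | h) | h
    · have := e 2 36 (by norm_num) h; omega
    · have := e 3 9 (by norm_num) h; omega
    · have := e 5 2 (by norm_num) h; omega
    · exact Or.inl (e 7 2 (by norm_num) h)
    · have := e1 11 (by norm_num) h; subst this; simp
    · have := e1 13 (by norm_num) h; subst this; simp
    · have := e1 17 (by norm_num) h; subst this; simp
    · have := e1 19 (by norm_num) h; subst this; simp
  rcases hcases with rfl | hm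
  · obtain ⟨x, y, hc, hx, hy, h49, hn1, hn2, hn3⟩ := h7
    obtain ⟨g, hg⟩ := conj_le 7 2 hp _ (by rw [h49]; norm_num) (by rw [hX]; norm_num) P hP
    apply coatom_conj P g
    have hne := map_ne_bot P g hP1
    generalize P.map (MulAut.conj g).toMonoidHom = P' at hg hne ⊢
    have hd : Nat.card P' ∣ 7 ^ 2 := by
      have := Subgroup.card_dvd_of_le hg
      rwa [h49] at this
    obtain ⟨j, hj, hcard⟩ := (Nat.dvd_prime_pow hp).1 hd
    interval_cases j
    · exact absurd (Subgroup.card_eq_one.1 (by simpa using hcard)) hne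
    · have hc7 : Nat.card P' = 7 := by simpa using hcard
      obtain ⟨⟨w, hw⟩, hw1⟩ := (Subgroup.ne_bot_iff_exists_ne_one).1 hne
      have hw1' : w ≠ 1 := fun h => hw1 (Subtype.ext h)
      obtain ⟨a, b, rfl⟩ := mem_clos hc hx hy (hg hw)
      by_cases ha : a % 7 = 0
      · rw [pow_mod7 hx a, ha, pow_zero, one_mul] at hw hw1'
        have hb : b % 7 ≠ 0 := by
          intro hb
          apply hw1'
          rw [pow_mod7 hy b, hb, pow_zero]
        obtain ⟨c, hc'⟩ := inv7 b hb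
        have hyP : y ∈ P' := by
          have := P'.pow_mem hw c
          rwa [← pow_mul, pow_mod7 hy, hc', pow_one] at this
        have hy1 : y ≠ 1 := by
          rintro rfl
          exact hw1' (one_pow _)
        rw [clos_eq hc7 hyP hy1]
        exact hn2
      · obtain ⟨c, hc'⟩ := inv7 a ha
        have he : (x ^ a * y ^ b) ^ c = x * y ^ (b * c % 7) := by
          rw [(hc.pow_pow a b).mul_pow, ← pow_mul, ← pow_mul, pow_mod7 hx, hc', pow_one, pow_mod7 hy (b * c)]
        have hvP : x * y ^ (b * c % 7) ∈ P' := he ▸ P'.pow_mem hw c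
        have hv1 : x * y ^ (b * c % 7) ≠ 1 := by
          rw [← he]
          intro h0
          apply hw1'
          have h7w : (x ^ a * y ^ b) ^ 7 = 1 := by
            rw [(hc.pow_pow a b).mul_pow, ← pow_mul, ← pow_mul, mul_comm a, mul_comm b, pow_mul, pow_mul, hx, hy]
            simp
          have h2 : (x ^ a * y ^ b) ^ (a * c) = 1 := by rw [mul_comm a c, pow_mul, h0, one_pow]
          rwa [pow_mod7 h7w, hc', pow_one] at h2
        rw [clos_eq hc7 hvP hv1]
        exact hn3 _ (Nat.mod_lt _ (by norm_num))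
    · have : P' = closure {x, y} := Subgroup.eq_of_le_of_card_ge hg (by rw [h49, hcard]; norm_num)
      rw [this]
      exact hn1
  · obtain ⟨Q, hQ, hn⟩ := h1 p hm
    have hnd : ¬ p ^ (1 + 1) ∣ Nat.card X := by
      rw [hX]
      simp only [List.mem_cons, List.not_mem_nil, or_false] at hm
      rcases hm with rfl | rfl | rfl | rfl <;> norm_num
    obtain ⟨g, hg⟩ := conj_le p 1 hp Q (by rw [hQ, pow_one]) hnd P hP
    apply coatom_conj P g
    rw [eq_of_prime hp hQ hg (map_ne_bot P g hP1)]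
    exact hn

end H21.LpS
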