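import Cfsg.Agent.L.Fz0

/-! Part X of S5446/S5448: the neighbourhood of an element of `D` is two cliques. -/

set_option autoImplicit false
open Subgroup

namespace H21.Fz
open L.Fz
universe u
variable {G : Type u} [Group G] {A M B : Subgroup G} {D : Set G} {z : G}

theorem cm (h : Cf A M B D z) {x y : G} (hx : x ∈ A) (hy : y ∈ A) : x * y = y * x := by
  have e := h.sq _ (mul_mem hx hy)
  have a := inv_eq_of_mul_eq_one_right (h.sq x hx)
  have b := inv_eq_of_mul_eq_one_right (h.sq y hy)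
  rw [← inv_eq_of_mul_eq_one_right e, mul_inv_rev, a, b]

theorem cn (h : Cf A M B D z) (k : Kb M B D z) (n : Nb B D z) {t u : G} (ht : t ∈ D) (hu : u ∈ D) (ne : t ≠ u) (nd : t * u ∉ D) :
    (∀ s ∈ D, s * t ∈ D → s * u ∈ D → s * t * u ∈ D) ∧ {s | s ∈ D ∧ s * t ∈ D ∧ s * u ∈ D}.ncard = 4 := by
  have tA := (h.DA t ht).1
  have uA := (h.DA u hu).1
  obtain ⟨m, mM, e⟩ := h.trZ (t * u) (mul_mem tA uA) (fun e => ne (by
    rw [← inv_eq_of_mul_eq_one_right e]; exact (inv_eq_of_mul_eq_one_right (h.sq t tA)).symm)) nd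
  obtain ⟨φ, hφ⟩ : ∃ φ : G ≃* G, ∀ x, φ x = m⁻¹ * x * m⁻¹⁻¹ := ⟨MulAut.conj m⁻¹, fun _ => rfl⟩
  have pD : ∀ x, φ x ∈ D ↔ x ∈ D := fun x => ⟨fun a => by
    have := h.Dc m mM _ a
    rwa [hφ, show m * (m⁻¹ * x * m⁻¹⁻¹) * m⁻¹ = x by group] at this, fun a => by rw [hφ]; exact h.Dc _ (inv_mem mM) _ a⟩
  have pz : φ t * φ u = z := by rw [← map_mul, ← e, hφ]; group
  have tt : φ t * φ t = 1 := by rw [← map_mul, h.sq t tA, map_one]
  have pu : φ u = φ t * z := by rw [← pz, ← mul_assoc, tt, one_mul]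
  have tB : φ t ∈ B := n.a _ ((pD t).2 ht) (pu ▸ (pD u).2 hu)
  have sB : ∀ s, s * t ∈ D → s * u ∈ D → φ s ∈ B := fun s a b => by
    have : φ s * φ t ∈ B := n.a _ (by rw [← map_mul]; exact (pD _).2 a) (by rw [mul_assoc, ← pu, ← map_mul]; exact (pD _).2 b)
    have := mul_mem this tB
    rwa [mul_assoc, tt, mul_one] at this
  refine ⟨fun s hs a b => (pD _).1 ?_, ?_⟩
  · rw [map_mul, map_mul, mul_assoc, pz]
    exact h.Bz _ ((pD s).2 hs) (sB s a b)
  · refine Eq.trans ?_ ((Set.ncard_preimage_of_injective_subset_range (s := {s | s ∈ D ∧ s ∈ B ∧ s * φ t ∈ D}) φ.injective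
      (by rw [φ.surjective.range_eq]; exact Set.subset_univ _)).trans (k.c4 (φ t) ((pD t).2 ht) tB))
    congr 1
    ext s
    simp only [Set.mem_setOf_eq, Set.mem_preimage, ← map_mul, pD]
    refine ⟨fun ⟨a, b, c⟩ => ⟨a, sB s b c, b⟩, fun ⟨a, b, c⟩ => ⟨a, c, (pD _).1 ?_⟩⟩
    rw [map_mul, pu, ← mul_assoc]
    exact h.Bz _ (by rw [← map_mul]; exact (pD _).2 c) (mul_mem b tB)

theorem four (h : Cf A M B D z) (k : Kb M B D z) (n : Nb B D z) {t u s r : G} (ht : t ∈ D) (hu : u ∈ D) (ne : t ≠ u) (nd : t * u ∉ D)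
    (hs : s ∈ D) (st : s * t ∈ D) (su : s * u ∈ D) (hr : r ∈ D) (rt : r * t ∈ D) (ru : r * u ∈ D) :
    r = s ∨ r = s * t ∨ r = s * u ∨ r = s * t * u := by
  obtain ⟨c1, c2⟩ := cn h k n ht hu ne nd
  have tA := (h.DA t ht).1
  have uA := (h.DA u hu).1
  have tt := h.sq t tA
  have uu := h.sq u uA
  have stu := c1 s hs st su
  have e1 : s * t * t = s := by rw [mul_assoc, tt, mul_one]
  have e2 : s * u * u = s := by rw [mul_assoc, uu, mul_one]
  have e3 : s * u * t = s * t * u := by rw [mul_assoc, mul_assoc, cm h uA tA]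
  have e4 : s * t * u * t = s * u := by rw [← e3, mul_assoc, tt, mul_one]
  have e5 : s * t * u * u = s * t := by rw [mul_assoc, uu, mul_one]
  have n1 : s ≠ s * t := fun e => (h.DA t ht).2 (by simpa using e)
  have n2 : s ≠ s * u := fun e => (h.DA u hu).2 (by simpa using e)
  have n3 : s ≠ s * t * u := fun e => ne (by
    have : s * u = s * t := by rw [← e5, ← e]
    exact (mul_left_cancel this).symm)
  have n4 : s * t ≠ s * u := fun e => ne (mul_left_cancel e)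
  have n5 : s * t ≠ s * t * u := fun e => (h.DA u hu).2 (by simpa using e)
  have n6 : s * u ≠ s * t * u := fun e => n1 (mul_right_cancel e)
  have sub : ({s, s * t, s * u, s * t * u} : Set G) ⊆ {s | s ∈ D ∧ s * t ∈ D ∧ s * u ∈ D} := by
    rintro _ (rfl | rfl | rfl | rfl)
    · exact ⟨hs, st, su⟩
    · exact ⟨st, e1.symm ▸ hs, stu⟩
    · exact ⟨su, e3.symm ▸ stu, e2.symm ▸ hs⟩
    · exact ⟨stu, e4.symm ▸ su, e5.symm ▸ st⟩
  have c4 : ({s, s * t, s * u, s * t * u} : Set G).ncard = 4 := Set.ncard_eq_four.2 ⟨_, _, _, _, n1, n2, n3, n4, n5, n6, rfl⟩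
  have := Set.eq_of_subset_of_ncard_le sub (by rw [c2, c4]) (Set.finite_of_ncard_ne_zero (by rw [c2]; norm_num))
  have hr' : r ∈ ({s, s * t, s * u, s * t * u} : Set G) := by rw [this]; exact ⟨hr, rt, ru⟩
  simpa using hr'

theorem one [Finite G] (h : Cf A M B D z) (k : Kb M B D z) (n : Nb B D z) {t : G} (ht : t ∈ D) {s r : G} (hs : s ∈ D) (hr : r ∈ D)
    (st : s * t ∈ D) (rt : r * t ∈ D) (n1 : r ≠ s) (n2 : r ≠ s * t) : s * r ∈ D ↔ s * r * t ∉ D := by
  classical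
  have := Fintype.ofFinite G
  have tA := (h.DA t ht).1
  have tt := h.sq t tA
  have d1 : (1 : G) ∉ D := fun a => (h.DA 1 a).2 rfl
  obtain ⟨N, hN, cN⟩ : ∃ N : Finset G, (∀ x, x ∈ N ↔ x ∈ D ∧ x * t ∈ D) ∧ N.card = 44 :=
    ⟨{s | s ∈ D ∧ s * t ∈ D}.toFinset, fun x => by simp, by rw [← Set.ncard_eq_toFinset_card', n.b t ht]⟩
  obtain ⟨E, hE, cE⟩ : ∃ E : Finset G, (∀ x, x ∈ E ↔ x ∈ D) ∧ E.card = 276 :=
    ⟨D.toFinset, fun x => by simp, by rw [← Set.ncard_eq_toFinset_card', n.d]⟩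
  have hU : ∀ x, x ∈ (E \ N).erase t ↔ x ≠ t ∧ x ∈ D ∧ x * t ∉ D := fun x => by
    rw [Finset.mem_erase, Finset.mem_sdiff, hE, hN]; tauto
  have cU : ((E \ N).erase t).card = 231 := by
    rw [Finset.card_erase_of_mem (by rw [Finset.mem_sdiff, hE, hN, tt]; tauto),
      Finset.card_sdiff_of_subset (fun x a => (hE x).2 ((hN x).1 a).1), cE, cN]
  generalize (E \ N).erase t = U at hU cU
  let W : Finset (Σ _ : G, G) := U.sigma fun u => {s | s ∈ D ∧ s * t ∈ D ∧ s * u ∈ D}.toFinset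
  have hW : ∀ x, x ∈ W ↔ (x.1 ≠ t ∧ x.1 ∈ D ∧ x.1 * t ∉ D) ∧ x.2 ∈ D ∧ x.2 * t ∈ D ∧ x.2 * x.1 ∈ D := fun x => by
    simp only [W, Finset.mem_sigma, hU, Set.mem_toFinset, Set.mem_setOf_eq]
  have cW : W.card = 924 := by
    rw [Finset.card_sigma, Finset.sum_congr rfl (g := fun _ => 4) fun u hu => by
      obtain ⟨a, b, c⟩ := (hU u).1 hu
      rw [← Set.ncard_eq_toFinset_card']
      exact (cn h k n ht b a.symm (by rwa [cm h tA (h.DA u b).1])).2]
    simp [cU]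
  let T : Finset (Σ _ : G, G) := N.sigma fun s => (N.erase s).erase (s * t)
  have hT : ∀ x, x ∈ T ↔ (x.1 ∈ D ∧ x.1 * t ∈ D) ∧ x.2 ≠ x.1 * t ∧ x.2 ≠ x.1 ∧ x.2 ∈ D ∧ x.2 * t ∈ D := fun x => by
    simp only [T, Finset.mem_sigma, Finset.mem_erase, hN]
  have cT : T.card = 1848 := by
    rw [Finset.card_sigma, Finset.sum_congr rfl (g := fun _ => 42) fun s hs => by
      obtain ⟨a, b⟩ := (hN s).1 hs
      rw [Finset.card_erase_of_mem (Finset.mem_erase.2 ⟨fun e => (h.DA t ht).2 (by simpa using e),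
        (hN _).2 ⟨b, by rwa [mul_assoc, tt, mul_one]⟩⟩), Finset.card_erase_of_mem hs, cN]]
    simp [cN]
  let g1 : (Σ _ : G, G) → (Σ _ : G, G) := fun x => ⟨x.2, x.2 * x.1⟩
  let g2 : (Σ _ : G, G) → (Σ _ : G, G) := fun x => ⟨x.2, x.2 * x.1 * t⟩
  have i1 : Function.Injective g1 := by
    rintro ⟨a, b⟩ ⟨c, d⟩ e
    simp only [g1, Sigma.mk.injEq, heq_eq_eq] at e
    obtain ⟨rfl, e⟩ := e
    rw [mul_left_cancel e]
  have i2 : Function.Injective g2 := by
    rintro ⟨a, b⟩ ⟨c, d⟩ e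
    simp only [g2, Sigma.mk.injEq, heq_eq_eq] at e
    obtain ⟨rfl, e⟩ := e
    rw [mul_left_cancel (mul_right_cancel e)]
  have tri : ∀ u s, u ≠ t → u ∈ D → u * t ∉ D → s ∈ D → s * t ∈ D → s * u ∈ D → s * u * t ∈ D := fun u s a b c d e f =>
    (cn h k n b ht a c).1 s d f e
  have sub : W.image g1 ∪ W.image g2 ⊆ T := by
    intro y hy
    rw [Finset.mem_union, Finset.mem_image, Finset.mem_image] at hy
    rcases hy with ⟨⟨u, s⟩, hx, rfl⟩ | ⟨⟨u, s⟩, hx, rfl⟩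
    · obtain ⟨⟨a, b, c⟩, d, e, f⟩ := (hW _).1 hx
      exact (hT _).2 ⟨⟨d, e⟩, fun q => a (mul_left_cancel q), fun q => (h.DA u b).2 (by simpa [g1] using q), f, tri u s a b c d e f⟩
    · obtain ⟨⟨a, b, c⟩, d, e, f⟩ := (hW _).1 hx
      refine (hT _).2 ⟨⟨d, e⟩, fun q => (h.DA u b).2 (by simpa [g2] using q), fun q => a ?_, tri u s a b c d e f, ?_⟩
      · have q' : s * u * t = s := q
        have : s * u = s * t := by
          calc s * u = s * u * t * t := by rw [mul_assoc (s * u), tt, mul_one]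
            _ = s * t := by rw [q']
        exact mul_left_cancel this
      · show s * u * t * t ∈ D
        rwa [mul_assoc, tt, mul_one]
  have dis : Disjoint (W.image g1) (W.image g2) := by
    rw [Finset.disjoint_left]
    intro y h1 h2
    obtain ⟨⟨u, s⟩, hx, rfl⟩ := Finset.mem_image.1 h1
    obtain ⟨⟨u', s'⟩, hx', e⟩ := Finset.mem_image.1 h2
    simp only [g1, g2, Sigma.mk.injEq, heq_eq_eq] at e
    obtain ⟨rfl, e⟩ := e
    rw [mul_assoc] at e
    exact ((hW _).1 hx').1.2.2 (by rw [show u' * t = u from mul_left_cancel e]; exact ((hW _).1 hx).1.2.1)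
  have eq := Finset.eq_of_subset_of_card_le sub (by
    rw [Finset.card_union_of_disjoint dis, Finset.card_image_of_injective _ i1, Finset.card_image_of_injective _ i2, cW, cT])
  have m : (⟨s, r⟩ : Σ _ : G, G) ∈ W.image g1 ∪ W.image g2 := by rw [eq]; exact (hT _).2 ⟨⟨hs, st⟩, n2, n1, hr, rt⟩
  have ss := h.sq s (h.DA s hs).1
  rw [Finset.mem_union, Finset.mem_image, Finset.mem_image] at m
  rcases m with ⟨⟨u, s'⟩, hx, e⟩ | ⟨⟨u, s'⟩, hx, e⟩
  · simp only [g1, Sigma.mk.injEq, heq_eq_eq] at e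
    obtain ⟨rfl, rfl⟩ := e
    obtain ⟨⟨a, b, c⟩, -⟩ := (hW _).1 hx
    rw [← mul_assoc, ss, one_mul]
    exact iff_of_true b c
  · simp only [g2, Sigma.mk.injEq, heq_eq_eq] at e
    obtain ⟨rfl, rfl⟩ := e
    obtain ⟨⟨a, b, c⟩, -⟩ := (hW _).1 hx
    rw [← mul_assoc, ← mul_assoc, ss, one_mul, mul_assoc, tt, mul_one]
    exact iff_of_false c (not_not.2 b)

theorem x : XStmt.{u} := by
  intro G _ _ A M B D z h k n
  refine ⟨fun t ht s hs r hr st rt n1 n2 => one h k n ht hs hr st rt n1 n2, fun t ht s hs r hr w hw st rt wt n1 n2 n3 sr sw => ?_⟩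
  by_contra nd
  have tA := (h.DA t ht).1
  have rA := (h.DA r hr).1
  have wA := (h.DA w hw).1
  have tt := h.sq t tA
  rcases four h k n hr hw n3 nd ht (by rwa [cm h tA rA]) (by rwa [cm h tA wA]) hs sr sw with e | e | e | e
  · rw [e, tt] at st
    exact (h.DA 1 st).2 rfl
  · exact n1 (by rw [e, cm h tA rA, mul_assoc, tt, mul_one])
  · exact n2 (by rw [e, cm h tA wA, mul_assoc, tt, mul_one])
  · rw [e, mul_assoc t, cm h tA (mul_mem rA wA), mul_assoc, tt, mul_one] at st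
    exact nd st

end H21.Fz
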