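import Mathlib
import Cfsg.Agent.H21.Prim
import Cfsg.Agent.H21.GWLin
import Cfsg.Agent.H21.Contrib
import Cfsg.Agent.H12.BrCount
import Cfsg.Agent.H05.Brauer

/-!
Primitive idempotents of `F[G]` and irreducible Brauer characters (namespace H21).
* `Pm π β ε` : `ε` is a primitive idempotent of type `β` for the Wedderburn data `π`;
  `exists_pm_le`, `Pm.equiv`, `Pm.loc`, `Pm.exists_inv`, `exists_full`.
* `t1 M θ ε` (value of a class function on a lift of the idempotent `ε`), `exists_t1_eq_sum`.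
* `IB p π ε φ` : Brauer characters `φ β` dual to the idempotents `ε β`; `exists_ib`, `IB.apply_reg`,
  `IB.isGen`, `ibr π B`, `IB.blockRank_eq`, `IB.exists_inv` (integral left inverse of the
  decomposition matrix).
* `finrank_le_of_lift`, `finrank_eq_of_lift`, `corner`, `finrank_corner` (Cartan invariants),
  `finrank_le_card` (dimension of the centre of a block).
-/

set_option autoImplicit false
set_option linter.unusedSectionVars false
set_option linter.unusedVariables false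

namespace H21
open H05 Cfsg H20 MonoidAlgebra Classical H12.Ri Matrix
open scoped ComplexConjugate

variable {M : Ideal AlgInt} [hMm : M.IsMaximal] {G : Type*} [Group G] [Finite G] {p : ℕ}
  {n : ℕ} {d : Fin n → ℕ} {π : (Res M)[G] →ₐ[Res M] Π i, Matrix (Fin (d i)) (Fin (d i)) (Res M)}

/-- primitive idempotent of type `β` -/
structure Pm (π : (Res M)[G] →ₐ[Res M] Π i, Matrix (Fin (d i)) (Fin (d i)) (Res M)) (β : Fin n)
    (ε : (Res M)[G]) : Prop where
  sq : ε * ε = ε
  ex : ∃ v w, w ⬝ᵥ v = 1 ∧ π ε = Pi.single β (vecMulVec v w)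

variable {β γ : Fin n} {ε ε' : (Res M)[G]}

theorem wed_eq_zero (h : Wed π) (h2 : ε * ε = ε) (h0 : π ε = 0) : ε = 0 :=
  IsIdempotentElem.eq_zero_of_isNilpotent h2 (h.nil ε h0)

theorem wed_eq_of_le (h : Wed π) (h2 : ε * ε = ε) (h2' : ε' * ε' = ε') (h1 : ε * ε' = ε')
    (h1' : ε' * ε = ε') (h0 : π ε' = π ε) : ε' = ε := by
  refine (sub_eq_zero.1 (wed_eq_zero h ?_ ?_)).symm
  · rw [sub_mul, mul_sub, mul_sub, h2, h1, h1', h2']; abel
  · rw [map_sub, h0, sub_self]

theorem pow_succ_of_idem {A : Type*} [Monoid A] {a : A} (h : a * a = a) (m : ℕ) :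
    a ^ (m + 1) = a := IsIdempotentElem.pow_succ_eq m h

/-- an element of `ε R ε` with the same image as `ε` has a power equal to `ε` -/
theorem wed_pow (hM : IsPModular p M) (h : Wed π) (h2 : ε * ε = ε) {a : (Res M)[G]}
    (h1 : ε * a = a) (h1' : a * ε = a) (h0 : π a = π ε) : ∃ m, a ^ (m + 1) = ε := by
  obtain ⟨m, hm⟩ := exists_pow_idem hM a
  refine ⟨m, wed_eq_of_le h h2 hm ?_ ?_ ?_⟩
  · rw [pow_succ', ← mul_assoc, h1]
  · rw [pow_succ, mul_assoc, h1']
  · rw [map_pow, h0, ← map_pow, pow_succ_of_idem h2]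

theorem single_mul_single' {A B : Matrix (Fin (d β)) (Fin (d β)) (Res M)} :
    (Pi.single β A * Pi.single β B : Π i, Matrix (Fin (d i)) (Fin (d i)) (Res M)) =
      Pi.single β (A * B) := (Pi.single_mul _ _ _).symm

theorem mul_single' (X : Π i, Matrix (Fin (d i)) (Fin (d i)) (Res M))
    (A : Matrix (Fin (d β)) (Fin (d β)) (Res M)) :
    X * Pi.single β A = Pi.single β (X β * A) := by
  ext1 i
  by_cases hi : i = β
  · subst hi; simp
  · simp [Pi.single_eq_of_ne hi]

theorem single_mul' (X : Π i, Matrix (Fin (d i)) (Fin (d i)) (Res M))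
    (A : Matrix (Fin (d β)) (Fin (d β)) (Res M)) :
    Pi.single β A * X = Pi.single β (A * X β) := by
  ext1 i
  by_cases hi : i = β
  · subst hi; simp
  · simp [Pi.single_eq_of_ne hi]

theorem exists_pm_le (hM : IsPModular p M) (h : Wed π) (h2 : ε * ε = ε) (h0 : π ε β ≠ 0) :
    ∃ ε', Pm π β ε' ∧ ε * ε' = ε' ∧ ε' * ε = ε' := by
  set E := π ε β with hE
  have EE : E * E = E := by rw [hE, ← Pi.mul_apply, ← map_mul, h2]
  obtain ⟨i, j, hij⟩ : ∃ i j, E i j ≠ 0 := by
    by_contra hc; push Not at hc; exact h0 (Matrix.ext hc)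
  let v : Fin (d β) → Res M := fun a => E a j
  let w : Fin (d β) → Res M := (E i j)⁻¹ • fun a => E i a
  have hwv : w ⬝ᵥ v = 1 := by
    have : (fun a => E i a) ⬝ᵥ v = (E * E) i j := rfl
    rw [smul_dotProduct, this, EE, smul_eq_mul, inv_mul_cancel₀ hij]
  have hv : E *ᵥ v = v := by
    ext a; exact congrFun (congrFun EE a) j
  have hw : w ᵥ* E = w := by
    rw [smul_vecMul]; congr 1; ext a; exact congrFun (congrFun EE i) a
  obtain ⟨r, hr⟩ := h.surj (Pi.single β (vecMulVec v w))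
  obtain ⟨m, hm⟩ := exists_pow_idem hM (ε * r * ε)
  have hp : π (ε * r * ε) = Pi.single β (vecMulVec v w) := by
    rw [map_mul, map_mul, hr, mul_single', single_mul', ← hE, mul_vecMulVec, vecMulVec_mul, hv, hw]
  refine ⟨_, ⟨hm, v, w, hwv, ?_⟩, ?_, ?_⟩
  · rw [map_pow, hp, pow_succ_of_idem]
    rw [single_mul_single', vecMulVec_mul_vecMulVec, hwv]; simp
  · rw [pow_succ', ← mul_assoc, ← mul_assoc, ← mul_assoc, h2]
  · rw [pow_succ, mul_assoc, mul_assoc _ ε ε, h2]

theorem exists_pm (hM : IsPModular p M) (h : Wed π) (β : Fin n) : ∃ ε, Pm π β ε := by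
  haveI : Nonempty (Fin (d β)) := ⟨⟨0, h.pos β⟩⟩
  obtain ⟨e, he, -⟩ := exists_pm_le hM h (mul_one 1) (β := β) (by rw [map_one]; exact one_ne_zero)
  exact ⟨e, he⟩

theorem Pm.ne (h : Pm π β ε) : π ε β ≠ 0 := by
  obtain ⟨v, w, hwv, e⟩ := h.ex
  rw [e, Pi.single_eq_same]
  intro h0
  have := congrArg Matrix.trace h0
  rw [trace_vecMulVec, dotProduct_comm, hwv, trace_zero] at this
  exact one_ne_zero this

theorem Pm.ne_zero (h : Pm π β ε) : ε ≠ 0 := fun h0 => h.ne (by rw [h0, map_zero]; rfl)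

theorem Pm.of_ne (h : Pm π β ε) (hne : γ ≠ β) : π ε γ = 0 := by
  obtain ⟨v, w, hwv, e⟩ := h.ex
  rw [e, Pi.single_eq_of_ne hne]

theorem Pm.trace (h : Pm π β ε) (γ : Fin n) : (π ε γ).trace = if γ = β then 1 else 0 := by
  split_ifs with hh
  · subst hh
    obtain ⟨v, w, hwv, e⟩ := h.ex
    rw [e, Pi.single_eq_same, trace_vecMulVec, dotProduct_comm, hwv]
  · rw [h.of_ne hh, trace_zero]

theorem Pm.equiv (hM : IsPModular p M) (h : Wed π) (h1 : Pm π β ε) (h2 : Pm π β ε') :
    ∃ x y, x * y = ε ∧ y * x = ε' ∧ ε * x = x ∧ x * ε' = x ∧ ε' * y = y ∧ y * ε = y := by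
  obtain ⟨v, w, hwv, e⟩ := h1.ex
  obtain ⟨v', w', hwv', e'⟩ := h2.ex
  obtain ⟨r, hr⟩ := h.surj (Pi.single β (vecMulVec v w'))
  obtain ⟨s, hs⟩ := h.surj (Pi.single β (vecMulVec v' w))
  set a := ε * r * ε' with ha
  set b := ε' * s * ε with hb
  have a1 : ε * a = a := by rw [ha, ← mul_assoc, ← mul_assoc, h1.sq]
  have a2 : a * ε' = a := by rw [ha, mul_assoc, h2.sq]
  have b1 : ε' * b = b := by rw [hb, ← mul_assoc, ← mul_assoc, h2.sq]
  have b2 : b * ε = b := by rw [hb, mul_assoc, h1.sq]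
  have pa : π a = Pi.single β (vecMulVec v w') := by
    simp [ha, e, e', hr, single_mul_single', vecMulVec_mul_vecMulVec, hwv, hwv']
  have pb : π b = Pi.single β (vecMulVec v' w) := by
    simp [hb, e, e', hs, single_mul_single', vecMulVec_mul_vecMulVec, hwv, hwv']
  have pab : π (a * b) = π ε := by
    simp [pa, pb, e, single_mul_single', vecMulVec_mul_vecMulVec, hwv']
  have pba : π (b * a) = π ε' := by
    simp [pa, pb, e', single_mul_single', vecMulVec_mul_vecMulVec, hwv]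
  clear_value a b
  obtain ⟨m, hm⟩ := wed_pow hM h h1.sq (a := a * b) (by rw [← mul_assoc, a1])
    (by rw [mul_assoc, b2]) pab
  have xy : a * (b * (a * b) ^ m) = ε := by rw [← mul_assoc, ← pow_succ', hm]
  have y2 : b * (a * b) ^ m * ε = b * (a * b) ^ m := by
    have : Commute ε (a * b) := by
      rw [Commute, SemiconjBy, ← mul_assoc, a1, mul_assoc, b2]
    rw [mul_assoc, ← (this.pow_right m).eq, ← mul_assoc, b2]
  have y1 : ε' * (b * (a * b) ^ m) = b * (a * b) ^ m := by rw [← mul_assoc, b1]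
  refine ⟨a, b * (a * b) ^ m, xy, wed_eq_of_le h h2.sq ?_ ?_ ?_ ?_, a1, a2, y1, y2⟩
  · rw [mul_assoc, ← mul_assoc a, xy, a1]
  · rw [← mul_assoc, y1]
  · rw [mul_assoc, a2]
  · rw [mul_assoc, mul_pow_mul]
    rw [← mul_assoc, ← pow_succ', map_pow, pba, ← map_pow, pow_succ_of_idem h2.sq]

theorem Pm.loc (h : Pm π β ε) (a : (Res M)[G]) : ∃ c : Res M, π (ε * a * ε) = c • π ε := by
  obtain ⟨v, w, hwv, e⟩ := h.ex
  refine ⟨w ⬝ᵥ (π a β *ᵥ v), ?_⟩
  rw [map_mul, map_mul, e, single_mul', single_mul_single', ← Pi.single_smul, vecMulVec_mul,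
    vecMulVec_mul_vecMulVec, vecMulVec_smul, dotProduct_mulVec]

/-- units of the local ring `ε R ε` -/
theorem wed_inv (hM : IsPModular p M) (h : Wed π) (h2 : ε * ε = ε) {a : (Res M)[G]}
    (h1 : ε * a = a) (h1' : a * ε = a) {c : Res M} (hc : c ≠ 0) (h0 : π a = c • π ε) :
    ∃ b, a * b = ε ∧ b * a = ε ∧ ε * b = b ∧ b * ε = b := by
  obtain ⟨m, hm⟩ := wed_pow hM h h2 (a := c⁻¹ • a) (by rw [mul_smul_comm, h1])
    (by rw [smul_mul_assoc, h1']) (by rw [map_smul, h0, smul_smul, inv_mul_cancel₀ hc, one_smul])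
  have hc : Commute ε (c⁻¹ • a) := by
    rw [Commute, SemiconjBy, mul_smul_comm, smul_mul_assoc, h1, h1']
  refine ⟨c⁻¹ • (ε * (c⁻¹ • a) ^ m), ?_, ?_, ?_, ?_⟩
  · rw [mul_smul_comm, ← mul_assoc, h1', ← smul_mul_assoc, ← pow_succ', hm]
  · rw [smul_mul_assoc, mul_assoc, ← mul_smul_comm, ← mul_smul_comm, ← pow_succ, hm, h2]
  · rw [mul_smul_comm, ← mul_assoc, h2]
  · rw [smul_mul_assoc, mul_assoc, ← (hc.pow_right m).eq, ← mul_assoc, h2]

/-- if `f` is only seen by the simple module `β` then the primitive idempotent `ε` is full -/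
theorem exists_full (hM : IsPModular p M) (h : Wed π) (hε : Pm π β ε) {f : (Res M)[G]}
    (h2 : f * f = f) (hf : ∀ γ, γ ≠ β → π f γ = 0) :
    ∃ a b : Fin (d β) → (Res M)[G], ∑ j, a j * b j = f ∧ (∀ j, a j * ε = a j) ∧
      (∀ j, ε * b j = b j) ∧ (∀ j, f * a j = a j) ∧ ∀ j, b j * f = b j := by
  obtain ⟨v, w, hwv, e⟩ := hε.ex
  choose r hr using fun j : Fin (d β) => h.surj (Pi.single β (vecMulVec (Pi.single j 1) w))
  choose s hs using fun j : Fin (d β) => h.surj (Pi.single β (vecMulVec v (Pi.single j 1)))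
  set t := ∑ j, f * r j * ε * (ε * s j * f) with ht
  have t1 : f * t = t := by
    rw [ht, Finset.mul_sum]; simp only [← mul_assoc, h2]
  have t2 : t * f = t := by
    rw [ht, Finset.sum_mul]; simp only [mul_assoc, h2]
  have pt : π t = π f := by
    have e1 : π t = π f * (∑ j, π (r j) * π ε * π ε * π (s j)) * π f := by
      rw [ht, map_sum, Finset.mul_sum, Finset.sum_mul]
      simp only [map_mul, mul_assoc]
    have e2 : ∑ j, π (r j) * π ε * π ε * π (s j) = Pi.single β 1 := by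
      simp only [hr, hs, e, single_mul_single', vecMulVec_mul_vecMulVec, hwv, one_smul]
      ext1 γ
      rw [Finset.sum_apply]
      by_cases hh : γ = β
      · subst hh
        simp only [Pi.single_eq_same]
        ext a b
        simp [Matrix.sum_apply, vecMulVec_apply, Pi.single_apply, Matrix.one_apply, eq_comm]
      · simp [Pi.single_eq_of_ne hh]
    rw [e1, e2, mul_single', single_mul', mul_one, ← Pi.mul_apply, ← map_mul, h2]
    ext1 γ
    by_cases hh : γ = β
    · subst hh; simp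
    · rw [Pi.single_eq_of_ne hh, hf γ hh]
  obtain ⟨m, hm⟩ := wed_pow hM h h2 t1 t2 pt
  have hc : Commute f t := by rw [Commute, SemiconjBy, t1, t2]
  refine ⟨fun j => f * r j * ε, fun j => ε * s j * f * t ^ m, ?_, fun j => ?_, fun j => ?_,
    fun j => ?_, fun j => ?_⟩
  · refine Eq.trans ?_ ((pow_succ' t m).symm.trans hm)
    conv_rhs => arg 1; rw [ht]
    rw [Finset.sum_mul]; simp only [mul_assoc]
  · rw [mul_assoc, hε.sq]
  · simp only [← mul_assoc, hε.sq]
  · simp only [← mul_assoc, h2]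
  · rw [mul_assoc, ← (hc.pow_right m).eq, ← mul_assoc, mul_assoc _ f f, h2]

theorem wed_cen (h : Wed π) {z : (Res M)[G]} (hz : IsCen z) (β : Fin n) :
    ∃ c : Res M, π z β = c • 1 := by
  have : π z β ∈ Set.range (Matrix.scalar (Fin (d β))) := by
    refine Matrix.mem_range_scalar_of_commute_single fun i j _ => ?_
    obtain ⟨r, hr⟩ := h.surj (Pi.single β (Matrix.single i j 1))
    have := congrFun (congrArg π (hz.comm r)) β
    simp only [map_mul, hr, Pi.mul_apply, Pi.single_eq_same] at this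
    exact this.symm
  obtain ⟨c, hc⟩ := this
  exact ⟨c, by rw [← hc, Matrix.scalar_apply, smul_one_eq_diagonal]⟩

theorem wed_cen_idem (h : Wed π) {z : (Res M)[G]} (hz : IsCen z) (h2 : z * z = z) (β : Fin n) :
    π z β = 0 ∨ π z β = 1 := by
  haveI : Nonempty (Fin (d β)) := ⟨⟨0, h.pos β⟩⟩
  obtain ⟨c, hc⟩ := wed_cen h hz β
  have e : π z β * π z β = π z β := by rw [← Pi.mul_apply, ← map_mul, h2]
  rw [hc, smul_mul_assoc, one_mul, smul_smul] at e
  have e := smul_left_injective _ one_ne_zero e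
  rcases eq_zero_or_one_of_sq_eq_self ((sq c).trans e) with h0 | h0
  · left; rw [hc, h0, zero_smul]
  · right; rw [hc, h0, one_smul]

theorem Pm.mul_of_zero (h : Wed π) (hε : Pm π β ε) {z : (Res M)[G]} (hz : IsCen z) (h2 : z * z = z)
    (h0 : π z β = 0) : z * ε = 0 := by
  obtain ⟨v, w, hwv, e⟩ := hε.ex
  refine wed_eq_zero h ?_ ?_
  · rw [mul_assoc, ← mul_assoc ε, ← hz.comm, mul_assoc, hε.sq, ← mul_assoc, h2]
  · rw [map_mul, e, mul_single', h0, zero_mul, Pi.single_zero]

theorem Pm.mul_of_one (h : Wed π) (hε : Pm π β ε) {z : (Res M)[G]} (hz : IsCen z) (h2 : z * z = z)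
    (h0 : π z β = 1) : z * ε = ε := by
  have := hε.mul_of_zero h (isCen_one.sub hz) (IsIdempotentElem.one_sub h2)
    (by rw [map_sub, map_one, Pi.sub_apply, h0]; exact sub_self _)
  rw [sub_mul, one_mul, sub_eq_zero] at this
  exact this.symm

omit hMm in
theorem cInv_triv {k : Type*} [CommRing k] (a : k[G]) : CInv {1} a := fun u hu g => by
  rw [Set.mem_singleton_iff.1 hu, one_mul, inv_one, mul_one]

variable (M) in
/-- the value of a class function on a lift of an idempotent -/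
noncomputable def t1 (θ : G → ℂ) (ε : (Res M)[G]) : ℂ := tau M θ 1 ε

variable {θ : G → ℂ}

theorem t1_eq (hθ : IsClassFunction G θ) {j : ℂ[G]} (hj : IsInt M j) (jj : j * j = j) :
    t1 M θ (redA M j) = ev θ j := by
  rw [t1, tau_eq hθ hj jj (cInv_triv j), ← one_def, one_mul]

theorem exists_lift1 (h2 : ε * ε = ε) : ∃ e, IsInt M e ∧ e * e = e ∧ redA M e = ε := by
  obtain ⟨e, a1, a2, -, a3⟩ := exists_lift h2 (cInv_triv ε)
  exact ⟨e, a1, a2, a3⟩

theorem t1_zero (hθ : IsClassFunction G θ) : t1 M θ 0 = 0 := tau_zero hθ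

theorem t1_sum_left {ι : Type*} (s : Finset ι) (c : ι → ℂ) {θ : ι → G → ℂ}
    (hθ : ∀ i ∈ s, IsClassFunction G (θ i)) (h2 : ε * ε = ε) :
    t1 M (∑ i ∈ s, c i • θ i) ε = ∑ i ∈ s, c i * t1 M (θ i) ε := by
  obtain ⟨j, a1, a2, rfl⟩ := exists_lift1 h2
  rw [t1_eq (IsClassFunction.sum s fun i hi => (hθ i hi).smul _) a1 a2, ev_sum_left]
  exact Finset.sum_congr rfl fun i hi => by rw [ev_smul_left, t1_eq (hθ i hi) a1 a2]

theorem exists_nat_t1 (hθ : IsCharacter G θ) (h2 : ε * ε = ε) : ∃ m : ℕ, t1 M θ ε = m := by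
  obtain ⟨j, a1, a2, rfl⟩ := exists_lift1 h2
  rw [t1_eq hθ.isClassFunction a1 a2]
  exact exists_nat_ev hθ a2

theorem t1_eB {A : Set (IrrCharacter G)} (hA : IsInt M (idem A)) (χ : IrrCharacter G)
    (h2 : ε * ε = ε) :
    t1 M (χ : G → ℂ) (eB M A * ε) = if χ ∈ A then t1 M (χ : G → ℂ) ε else 0 := by
  obtain ⟨j, a1, a2, rfl⟩ := exists_lift1 h2
  rw [eB, ← redA_mul hA a1, t1_eq χ.2.isClassFunction (hA.mul a1), t1_eq χ.2.isClassFunction a1 a2]
  · split_ifs with hh
    exacts [ev_idem_mul_of_mem hh j, ev_idem_mul_of_notMem hh j]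
  · rw [mul_assoc, ← mul_assoc j, ← (isCen_idem A).comm, mul_assoc, a2, ← mul_assoc, idem_mul_self]

theorem Pm.t1_eq (hM : IsPModular p M) (h : Wed π) (h1 : Pm π β ε) (h2 : Pm π β ε')
    (hθ : IsClassFunction G θ) : t1 M θ ε = t1 M θ ε' := by
  obtain ⟨x, y, rfl, rfl, -⟩ := h1.equiv hM h h2
  exact tau_equiv hθ (cInv_triv _) (cInv_triv _) h1.sq h2.sq

theorem exists_t1_eq_sum (hM : IsPModular p M) (h : Wed π) {e : Fin n → (Res M)[G]}
    (he : ∀ β, Pm π β (e β)) (h2 : ε * ε = ε) :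
    ∃ r : Fin n → ℕ, (∀ β, r β = 0 ↔ π ε β = 0) ∧
      ∀ θ, IsClassFunction G θ → t1 M θ ε = ∑ β, r β * t1 M θ (e β) := by
  generalize hN : Module.finrank (Res M) (LinearMap.range (LinearMap.mulLeft (Res M) ε)) = N
  induction N using Nat.strong_induction_on generalizing ε with
  | _ N ih =>
  by_cases h0 : π ε = 0
  · obtain rfl := wed_eq_zero h h2 h0
    exact ⟨0, fun β => by simp, fun θ hθ => by simp [t1_zero hθ]⟩
  obtain ⟨β, hβ⟩ := Function.ne_iff.1 h0
  obtain ⟨ε', a1, a2, a3⟩ := exists_pm_le hM h h2 hβ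
  have b1 : (ε - ε') * (ε - ε') = ε - ε' := by
    rw [sub_mul, mul_sub, mul_sub, h2, a2, a3, a1.sq]; abel
  have hlt : LinearMap.range (LinearMap.mulLeft (Res M) (ε - ε')) <
      LinearMap.range (LinearMap.mulLeft (Res M) ε) := by
    refine lt_of_le_of_ne ?_ fun hh => a1.ne_zero ?_
    · rintro _ ⟨x, rfl⟩
      exact ⟨(ε - ε') * x, by
        simp only [LinearMap.mulLeft_apply]; rw [← mul_assoc, mul_sub, h2, a2]⟩
    · obtain ⟨x, hx⟩ : ε' ∈ LinearMap.range (LinearMap.mulLeft (Res M) (ε - ε')) :=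
        hh ▸ ⟨ε', a2⟩
      rw [LinearMap.mulLeft_apply] at hx
      rw [← a1.sq]
      nth_rewrite 2 [← hx]
      rw [← mul_assoc, mul_sub, a3, a1.sq, sub_self, zero_mul]
  obtain ⟨r, r1, r2⟩ := ih _ (hN ▸ Submodule.finrank_lt_finrank_of_lt hlt) b1 rfl
  refine ⟨r + Pi.single β 1, fun γ => ?_, fun θ hθ => ?_⟩
  · by_cases hh : γ = β
    · subst hh; simpa using hβ
    · rw [Pi.add_apply, Pi.single_eq_of_ne hh, add_zero, r1, map_sub, Pi.sub_apply, a1.of_ne hh,
        sub_zero]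
  · rw [t1, tau_sub hθ h2 (cInv_triv _) a1.sq (cInv_triv _) a2 a3]
    change t1 M θ ε' + t1 M θ (ε - ε') = _
    rw [r2 θ hθ, a1.t1_eq hM h (he β) hθ]
    simp only [Pi.add_apply, Nat.cast_add, add_mul, Finset.sum_add_distrib]
    rw [add_comm]
    congr 1
    rw [Finset.sum_eq_single β (fun γ _ hh => by simp [Pi.single_eq_of_ne hh]) (by simp)]
    simp

theorem red_ev (hθ : ∀ g, MemLocalRing M (θ g)) {a : ℂ[G]} (ha : IsInt M a) :
    red M (ev θ a) = ev (fun g => red M (θ g)) (redA M a) := by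
  haveI := Fintype.ofFinite G
  rw [ev_eq_sum, ev_eq_sum, red_sum fun g _ => ring_mul (ha g) (hθ g)]
  exact Finset.sum_congr rfl fun g _ => by rw [red_mul (ha g) (hθ g), coeff_redA]

theorem ev_trace (β : Fin n) (a : (Res M)[G]) :
    ev (fun g => (π (single g 1) β).trace) a = (π a β).trace := by
  haveI := Fintype.ofFinite G
  conv_rhs => rw [eq_sum_single a]
  simp only [ev_eq_sum, map_sum, map_smul, Finset.sum_apply, trace_sum, Pi.smul_apply, trace_smul,
    smul_eq_mul]

theorem trace_pReg (hM : IsPModular p M) (β : Fin n) (g : G) :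
    (π (single (pReg p g) 1) β).trace = (π (single g 1) β).trace := by
  haveI : Fact p.Prime := ⟨hM.1⟩
  haveI := charP_Res hM
  obtain ⟨k, hk⟩ := orderOf_pPart p g
  have hc : Commute (single (pPart p g) (1 : Res M) - 1) (single (pReg p g) 1) := by
    refine Commute.sub_left ?_ (Commute.one_left _)
    rw [Commute, SemiconjBy, single_mul_single, single_mul_single, (commute_pPart_pReg p g).eq]
  have h1 : IsNilpotent (single (pPart p g) (1 : Res M) - 1) := by
    haveI : CharP (Res M)[G] p := charP_of_injective_algebraMap' (Res M) p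
    refine ⟨p ^ k, ?_⟩
    rw [sub_pow_char_pow_of_commute _ _ (Commute.one_right _), single_pow, ← hk, pow_orderOf_eq_one,
      one_pow, one_pow, ← one_def, sub_self]
  have h2 := ((hc.isNilpotent_mul_right h1).map π).map (Pi.evalRingHom _ β)
  have h3 := (Matrix.isNilpotent_trace_of_isNilpotent h2).eq_zero
  rw [sub_mul, single_mul_single, pPart_mul_pReg, one_mul, one_mul, map_sub, map_sub] at h3
  rw [trace_sub] at h3
  exact (sub_eq_zero.1 h3).symm

/-- Brauer characters dual to a family of primitive idempotents -/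
structure IB (p : ℕ) (π : (Res M)[G] →ₐ[Res M] Π i, Matrix (Fin (d i)) (Fin (d i)) (Res M))
    (e : Fin n → (Res M)[G]) (φ : Fin n → G → ℂ) : Prop where
  mod : IsPModular p M
  wed : Wed π
  pm : ∀ β, Pm π β (e β)
  cls : ∀ β, IsClassFunction G (φ β)
  reg : ∀ β g, φ β (pReg p g) = φ β g
  dual : ∀ β γ, t1 M (φ β) (e γ) = if β = γ then 1 else 0

theorem exists_ib (hM : IsPModular p M) (h : Wed π) {e : Fin n → (Res M)[G]}
    (he : ∀ β, Pm π β (e β)) : ∃ φ, IB p π e φ := by
  haveI : Fact p.Prime := ⟨hM.1⟩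
  let θ : Fin n → G → ℂ := fun β g => sec M (π (single g 1) β).trace
  have hθ : ∀ β, IsClassFunction G (θ β) := fun β g x => by
    simp only [θ]
    congr 1
    have e1 : single (x * g * x⁻¹) (1 : Res M) = single x 1 * (single g 1 * single x⁻¹ 1) := by
      simp [single_mul_single, mul_assoc]
    rw [e1, map_mul, Pi.mul_apply, trace_mul_comm, ← Pi.mul_apply, ← map_mul]
    simp [single_mul_single, mul_assoc]
  let U : Matrix (Fin n) (Fin n) ℂ := fun β γ => t1 M (θ β) (e γ)
  have hU : IsUnit U := isUnit_matrix_of_mod (M := M) U fun β γ => by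
    obtain ⟨j, a1, a2, a3⟩ := exists_lift1 (he γ).sq
    have r1 : MemLocalRing M (ev (θ β) j) := ring_ev (fun g => ring_sec _) a1
    have r2 : MemLocalRing M ((1 : Matrix (Fin n) (Fin n) ℂ) β γ) := by
      rw [Matrix.one_apply]; split_ifs; exacts [ring_one, ring_zero]
    simp only [U]
    rw [← a3, t1_eq (hθ β) a1 a2, ← red_eq_iff r1 r2, red_ev (fun g => ring_sec _) a1, a3]
    simp only [θ, red_sec]
    rw [ev_trace, (he γ).trace, Matrix.one_apply]
    split_ifs; exacts [red_one.symm, red_zero.symm]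
  refine ⟨fun β => ∑ γ, U⁻¹ β γ • θ γ, hM, h, he,
    fun β => IsClassFunction.sum _ fun γ _ => (hθ γ).smul _, fun β g => ?_, fun β γ => ?_⟩
  · simp only [Finset.sum_apply, Pi.smul_apply, θ, trace_pReg hM]
  · rw [t1_sum_left _ _ (fun γ _ => hθ γ) (he γ).sq, ← Matrix.one_apply,
      ← Matrix.nonsing_inv_mul U ((Matrix.isUnit_iff_isUnit_det U).1 hU)]
    rfl

theorem exists_ib' (hM : IsPModular p M) (G : Type*) [Group G] [Finite G] :
    ∃ (n : ℕ) (d : Fin n → ℕ)
      (π : (Res M)[G] →ₐ[Res M] Π i, Matrix (Fin (d i)) (Fin (d i)) (Res M))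
      (e : Fin n → (Res M)[G]) (φ : Fin n → G → ℂ), IB p π e φ := by
  obtain ⟨n, d, π, h⟩ := exists_wed (Res M) G
  choose e he using exists_pm hM h
  obtain ⟨φ, hφ⟩ := exists_ib hM h he
  exact ⟨n, d, π, e, φ, hφ⟩

theorem isInt_idem_of_not_dvd (hM : IsPModular p M) {L : Type*} [Group L] [Finite L]
    (hL : ¬ p ∣ Nat.card L) (χ : IrrCharacter L) : IsInt M (idem {χ}) := fun g => by
  rw [coeff_idem, blockCoeff_singleton]
  exact ring_mul (ring_inv_natCast hM hL) (ring_mul (ring_irr χ 1) (ring_conj_irr χ g))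

variable {e : Fin n → (Res M)[G]} {φ : Fin n → G → ℂ}

/-- the value on the idempotent of a character of a `p'`-subgroup -/
theorem IB.ev_inc (h : IB p π e φ) {L : Subgroup G} (hL : ¬ p ∣ Nat.card L) (χ : IrrCharacter L) :
    ∃ r : Fin n → ℕ, ∀ θ, IsClassFunction G θ →
      ev (fun x : L => θ x) (idem {χ}) = ∑ β, r β * t1 M θ (e β) := by
  have a1 := (isInt_idem_of_not_dvd h.mod hL χ).inc
  have a2 : inc L (idem {χ}) * inc L (idem {χ}) = inc L (idem {χ}) := by
    rw [← map_mul, idem_mul_self]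
  obtain ⟨r, -, hr⟩ := exists_t1_eq_sum h.mod h.wed h.pm (ε := redA M (inc L (idem {χ})))
    (by rw [← redA_mul a1 a1, a2])
  exact ⟨r, fun θ hθ => by rw [← hr θ hθ, t1_eq hθ a1 a2, H20.ev_inc]⟩

theorem IB.apply_reg (h : IB p π e φ) (hθ : IsClassFunction G θ) {g : G} (hg : ¬ p ∣ orderOf g) :
    θ g = ∑ β, t1 M θ (e β) * φ β g := by
  have key : ∃ c : Fin n → ℂ, ∀ θ, IsClassFunction G θ → θ g = ∑ β, t1 M θ (e β) * c β := by
    let L := Subgroup.zpowers g
    have hL : ¬ p ∣ Nat.card L := by rwa [Nat.card_zpowers]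
    let x : L := ⟨g, Subgroup.mem_zpowers g⟩
    choose r hr using h.ev_inc hL
    have hx : IsCen (single x (1 : ℂ)) :=
      isCen_single (Subgroup.mem_center_iff.2 fun y => mul_comm' y x) 1
    refine ⟨fun β => ∑ χ : IrrCharacter L, omega (χ : L → ℂ) (single x 1) * r χ β, fun θ hθ => ?_⟩
    have := congrArg (ev fun x : L => θ x) (eq_sum_omega_smul_idem hx)
    rw [ev_single, one_mul, map_sum] at this
    simp only [map_smul, hr _ θ hθ, smul_eq_mul, Finset.mul_sum] at this ⊢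
    rw [Finset.sum_comm] at this
    exact this.trans (Finset.sum_congr rfl fun _ _ => Finset.sum_congr rfl fun _ _ => by ring)
  obtain ⟨c, hc⟩ := key
  rw [hc θ hθ]
  refine Finset.sum_congr rfl fun β _ => ?_
  rw [hc _ (h.cls β)]
  simp [h.dual]

theorem IB.isGen (h : IB p π e φ) (β : Fin n) : IsGeneralizedCharacter G (φ β) := by
  haveI : Fact p.Prime := ⟨h.mod.1⟩
  haveI := Fintype.ofFinite G
  refine isGeneralizedCharacter_of_classInner (h.cls β) fun χ hχ => ?_
  refine AddSubgroup.closure_induction (p := fun ψ _ => ∃ m : ℤ, classInner (φ β) ψ = m) ?_ ?_ ?_ ?_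
    (brauer_induction_mem hχ.isCharacter.isGeneralizedCharacter)
  · rintro _ ⟨⟨E, l⟩, ⟨q, hq, hE⟩, rfl⟩
    haveI := hE.isNilpotent hq
    haveI := Fintype.ofFinite E
    obtain ⟨Q, hQ⟩ := exists_dec (p := p) E
    rw [H06.frobenius_reciprocity_right _ _ _ (h.cls β)]
    have hmul : ∀ g ∈ E, ∀ x ∈ E, pReg p (g * x) = pReg p g * pReg p x := fun g hg x hx => by
      have := (Subgroup.mem_centralizer_iff.1 (hQ.reg g hg) _ (Q.inv_mem (hQ.part x hx)))
      rw [pReg, hQ.mul g hg x hx, _root_.mul_inv_rev, mul_assoc, ← mul_assoc _ g, ← pReg, ← mul_assoc,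
        this, mul_assoc, ← pReg]
    by_cases hl : ∃ u : E, (u : G) ∈ Q ∧ l u ≠ 1
    · obtain ⟨u, hu, hl⟩ := hl
      refine ⟨0, ?_⟩
      have hu1 : pReg p (u : G) = 1 := pReg_eq_one_iff.2 (by
        obtain ⟨k, hk⟩ := IsPGroup.iff_orderOf.1 hQ.pg ⟨u, hu⟩
        exact ⟨k, by rw [← hk, ← Subgroup.orderOf_coe]⟩)
      have e1 : ∑ x : E, φ β x * conj (l x : ℂ) = conj (l u : ℂ) * ∑ x : E, φ β x * conj (l x : ℂ) := by
        rw [Finset.mul_sum, ← Equiv.sum_comp (Equiv.mulLeft u)]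
        refine Finset.sum_congr rfl fun x _ => ?_
        rw [Equiv.coe_mulLeft, Subgroup.coe_mul, ← h.reg, hmul _ u.2 _ x.2, hu1, one_mul, h.reg,
          map_mul, Units.val_mul, map_mul]
        ring
      have e2 : conj (l u : ℂ) ≠ 1 := fun hh => hl (Units.ext (by simpa using congrArg conj hh))
      have e3 : ∑ x : E, φ β x * conj (l x : ℂ) = 0 := by
        by_contra h0
        exact e2 (mul_right_cancel₀ h0 (e1.symm.trans (one_mul _).symm))
      simp only [classInner, e3, mul_zero, Int.cast_zero]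
    · push Not at hl
      let ρ : E →* G := MonoidHom.mk' (fun x => pReg p x) fun x y => hmul _ x.2 _ y.2
      have hle : ρ.range ≤ E := by rintro _ ⟨x, rfl⟩; exact pReg_mem p x.2
      have hL : ¬ p ∣ Nat.card ρ.range := fun hd => by
        obtain ⟨⟨_, x, rfl⟩, hx⟩ := exists_prime_orderOf_dvd_card' p hd
        exact not_dvd_orderOf_pReg p (x : G) (by
          rw [← Subgroup.orderOf_coe] at hx; exact hx.symm.dvd)
      haveI := Fintype.ofFinite ρ.range
      let l' : ρ.range →* ℂˣ := l.comp (Subgroup.inclusion hle)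
      obtain ⟨r, hr⟩ := h.ev_inc hL ⟨_, isIrrCharacter_monoidHom l'⟩
      refine ⟨r β, ?_⟩
      have e1 := hr _ (h.cls β)
      rw [ev_idem_singleton] at e1
      simp only [h.dual, map_one, Units.val_one, one_mul, mul_ite, mul_one, mul_zero,
        Finset.sum_ite_eq, Finset.mem_univ, if_true] at e1
      rw [Int.cast_natCast, ← e1, ← classInner_comp_of_surjective _ _ ρ.rangeRestrict
        ρ.rangeRestrict_surjective]
      congr 1
      · ext x; exact (h.reg β x).symm
      · ext x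
        have : x = ⟨pPart p x, pPart_mem p x.2⟩ * ⟨pReg p x, pReg_mem p x.2⟩ :=
          Subtype.ext (pPart_mul_pReg p _).symm
        conv_lhs => rw [this, map_mul, hl _ (hQ.part _ x.2), one_mul]
        rfl
  · exact ⟨0, by simp [classInner_zero_right]⟩
  · rintro a b _ _ ⟨m, hm⟩ ⟨m', hm'⟩
    exact ⟨m + m', by rw [classInner_add_right, hm, hm', Int.cast_add]⟩
  · rintro a _ ⟨m, hm⟩
    exact ⟨-m, by rw [classInner_neg_right, hm, Int.cast_neg]⟩

/-- the simple modules belonging to a (union of) block(s) -/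
noncomputable def ibr (π : (Res M)[G] →ₐ[Res M] Π i, Matrix (Fin (d i)) (Fin (d i)) (Res M))
    (A : Set (IrrCharacter G)) : Finset (Fin n) := Finset.univ.filter fun β => π (eB M A) β = 1

variable {A : Set (IrrCharacter G)}

theorem mem_ibr : β ∈ ibr π A ↔ π (eB M A) β = 1 := by simp [ibr]

theorem ibr_of_notMem (h : Wed π) (hA : IsInt M (idem A)) (hβ : β ∉ ibr π A) :
    π (eB M A) β = 0 :=
  (wed_cen_idem h (isCen_eB A) (eB_mul_self' hA) β).resolve_right (mem_ibr.not.1 hβ)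

theorem Pm.eB_mul (h : Wed π) (hε : Pm π β ε) (hA : IsInt M (idem A)) (hβ : β ∈ ibr π A) :
    eB M A * ε = ε := hε.mul_of_one h (isCen_eB A) (eB_mul_self' hA) (mem_ibr.1 hβ)

theorem Pm.mem_ibr (h : Wed π) (hε : Pm π β ε) (hA : IsInt M (idem A)) (h1 : eB M A * ε ≠ 0) :
    β ∈ ibr π A := by
  by_contra hβ
  exact h1 (hε.mul_of_zero h (isCen_eB A) (eB_mul_self' hA) (ibr_of_notMem h hA hβ))

theorem Pm.t1_of_notMem (h : Wed π) (hε : Pm π β ε) (hA : IsInt M (idem A)) {χ : IrrCharacter G}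
    (hχ : χ ∈ A) (hβ : β ∉ ibr π A) : t1 M (χ : G → ℂ) ε = 0 := by
  have := t1_eB hA χ hε.sq
  rw [if_pos hχ, hε.mul_of_zero h (isCen_eB A) (eB_mul_self' hA) (ibr_of_notMem h hA hβ),
    t1_zero χ.2.isClassFunction] at this
  exact this.symm

theorem Pm.t1_of_mem (h : Wed π) (hε : Pm π β ε) (hA : IsInt M (idem A)) {χ : IrrCharacter G}
    (hχ : χ ∉ A) (hβ : β ∈ ibr π A) : t1 M (χ : G → ℂ) ε = 0 := by
  have := t1_eB hA χ hε.sq
  rwa [if_neg hχ, hε.eB_mul h hA hβ] at this

theorem IB.apply_mem (h : IB p π e φ) (hA : IsInt M (idem A)) {χ : IrrCharacter G} (hχ : χ ∈ A)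
    {g : G} (hg : ¬ p ∣ orderOf g) :
    (χ : G → ℂ) g = ∑ β ∈ ibr π A, t1 M (χ : G → ℂ) (e β) * φ β g := by
  rw [h.apply_reg χ.2.isClassFunction hg]
  exact (Finset.sum_subset (Finset.subset_univ _) fun β _ hβ => by
    rw [(h.pm β).t1_of_notMem h.wed hA hχ hβ, zero_mul]).symm

theorem IB.indep (h : IB p π e φ) {s : Finset (Fin n)} {c : Fin n → ℂ}
    (hc : ∀ g, ¬ p ∣ orderOf g → ∑ β ∈ s, c β * φ β g = 0) : ∀ β ∈ s, c β = 0 := fun γ hγ => by
  haveI : Fact p.Prime := ⟨h.mod.1⟩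
  have e1 : ∑ β ∈ s, c β • φ β = 0 := funext fun g => by
    simpa [h.reg] using hc _ (not_dvd_orderOf_pReg p g)
  have e2 := t1_sum_left s c (fun β _ => h.cls β) (h.pm γ).sq
  obtain ⟨j, a1, a2, a3⟩ := exists_lift1 (h.pm γ).sq
  rw [e1, ← a3, t1_eq isCharacter_zero.isClassFunction a1 a2, ev_zero_left, a3] at e2
  simpa [h.dual, hγ] using e2.symm

/-- `t1` only depends on the values on `p`-regular elements -/
theorem IB.t1_congr (h : IB p π e φ) {θ θ' : G → ℂ} (hθ : IsClassFunction G θ)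
    (hθ' : IsClassFunction G θ') (hh : ∀ g, ¬ p ∣ orderOf g → θ g = θ' g) (β : Fin n) :
    t1 M θ (e β) = t1 M θ' (e β) :=
  sub_eq_zero.1 (h.indep (s := Finset.univ) (c := fun β => t1 M θ (e β) - t1 M θ' (e β))
    (fun g hg => by
      simp only [sub_mul, Finset.sum_sub_distrib]
      rw [← h.apply_reg hθ hg, ← h.apply_reg hθ' hg, hh g hg, sub_self]) β (Finset.mem_univ β))

/-- integral left inverse of the decomposition matrix -/
theorem IB.exists_inv [Fintype G] (h : IB p π e φ) (hA : IsInt M (idem A)) (hβ : β ∈ ibr π A) :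
    ∃ z : IrrCharacter G → ℤ, (∀ γ, ∑ χ with χ ∈ A, (z χ : ℂ) * t1 M (χ : G → ℂ) (e γ) =
      if β = γ then 1 else 0) ∧ ∀ g, ¬ p ∣ orderOf g →
        φ β g = ∑ χ with χ ∈ A, (z χ : ℂ) * (χ : G → ℂ) g := by
  obtain ⟨z, hz⟩ := isGeneralizedCharacter_iff_exists_int.1 (h.isGen β)
  have key : ∀ γ, ∑ χ with χ ∈ A, (z χ : ℂ) * t1 M (χ : G → ℂ) (e γ) =
      if β = γ then 1 else 0 := fun γ => by
    by_cases hγ : γ ∈ ibr π A
    · rw [← h.dual, hz, t1_sum_left _ _ (fun χ _ => χ.2.isClassFunction) (h.pm γ).sq]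
      exact Finset.sum_subset (Finset.subset_univ _) fun χ _ hχ => by
        rw [(h.pm γ).t1_of_mem h.wed hA (by simpa using hχ) hγ, mul_zero]
    · rw [if_neg fun hh : β = γ => hγ (hh ▸ hβ)]
      exact Finset.sum_eq_zero fun χ hχ => by
        rw [(h.pm γ).t1_of_notMem h.wed hA (by simpa using hχ) hγ, mul_zero]
  refine ⟨z, key, fun g hg => ?_⟩
  rw [Finset.sum_congr rfl fun χ _ => by rw [h.apply_reg χ.2.isClassFunction hg, Finset.mul_sum],
    Finset.sum_comm]
  simp only [← mul_assoc, ← Finset.sum_mul, key]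
  simp

theorem IB.blockRank_eq (h : IB p π e φ) (hA : IsInt M (idem A)) :
    blockRank p A = (ibr π A).card := by
  haveI := Fintype.ofFinite G
  have hli : LinearIndependent ℂ fun β : ibr π A => pRegularPart p (φ β) := by
    rw [Fintype.linearIndependent_iff]
    intro c hc β
    have := h.indep (s := ibr π A) (c := fun β => if hβ : β ∈ ibr π A then c ⟨β, hβ⟩ else 0)
      (fun g hg => by
        rw [← Finset.sum_coe_sort]
        simpa [pRegularPart_of_not_dvd _ hg] using congrFun hc g) β β.2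
    simpa using this
  rw [← Fintype.card_coe, ← finrank_span_eq_card hli, blockRank]
  refine congrArg (fun S : Submodule ℂ (G → ℂ) => Module.finrank ℂ S) ?_
  refine le_antisymm (Submodule.span_le.2 ?_) (Submodule.span_le.2 ?_)
  · rintro _ ⟨χ, hχ, rfl⟩
    have : pRegularPart p (χ : G → ℂ) =
        ∑ β : ibr π A, t1 M (χ : G → ℂ) (e β) • pRegularPart p (φ β) := by
      simp only [← pRegularPart_smul, ← pRegularPart_sum]
      refine pRegularPart_congr fun g hg => ?_
      rw [h.apply_mem hA hχ hg, ← Finset.sum_coe_sort]; simp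
    simp only [this]
    exact Submodule.sum_mem _ fun β _ => Submodule.smul_mem _ _ (Submodule.subset_span ⟨β, rfl⟩)
  · rintro _ ⟨β, rfl⟩
    obtain ⟨z, -, hz⟩ := h.exists_inv hA β.2
    have : pRegularPart p (φ β) = ∑ χ with χ ∈ A, (z χ : ℂ) • pRegularPart p (χ : G → ℂ) := by
      simp only [← pRegularPart_smul, ← pRegularPart_sum]
      refine pRegularPart_congr fun g hg => ?_
      rw [hz g hg]; simp
    simp only [this]
    exact Submodule.sum_mem _ fun χ hχ => Submodule.smul_mem _ _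
      (Submodule.subset_span ⟨χ, by simpa using hχ, rfl⟩)

theorem IB.exists_nat_one (h : IB p π e φ) (β : Fin n) : ∃ m : ℕ, 0 < m ∧ φ β 1 = m := by
  obtain ⟨r, r1, r2⟩ := exists_t1_eq_sum h.mod h.wed h.pm (mul_one 1)
  haveI : Nonempty (Fin (d β)) := ⟨⟨0, h.wed.pos β⟩⟩
  refine ⟨r β, Nat.pos_of_ne_zero ((r1 β).not.2 (by rw [map_one]; exact one_ne_zero)), ?_⟩
  have := r2 _ (h.cls β)
  rw [← redA_one, t1_eq (h.cls β) isInt_one (mul_one 1), ev_one] at this
  simpa [h.dual] using this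

/-- linear independence modulo the local ideal implies linear independence -/
theorem finrank_le_of_lift {S : Submodule ℂ ℂ[G]} {T : Submodule (Res M) (Res M)[G]}
    (h : ∀ x ∈ T, ∃ a ∈ S, IsInt M a ∧ redA M a = x) :
    Module.finrank (Res M) T ≤ Module.finrank ℂ S := by
  haveI := Fintype.ofFinite G
  let b := Module.finBasis (Res M) T
  choose a a1 a2 a3 using fun i => h (b i) (b i).2
  obtain ⟨f, hf⟩ := T.subtype.exists_leftInverse_of_injective T.ker_subtype
  let θ : Fin (Module.finrank (Res M) T) → G → ℂ := fun i g => sec M (b.repr (f (single g 1)) i)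
  let U : Matrix _ _ ℂ := fun i j => ev (θ j) (a i)
  have hU : IsUnit U := isUnit_matrix_of_mod (M := M) U fun i j => by
    have r1 : MemLocalRing M (ev (θ j) (a i)) := ring_ev (fun g => ring_sec _) (a2 i)
    have r2 : MemLocalRing M ((1 : Matrix _ _ ℂ) i j) := by
      rw [Matrix.one_apply]; split_ifs; exacts [ring_one, ring_zero]
    simp only [U]
    rw [← red_eq_iff r1 r2, red_ev (fun g => ring_sec _) (a2 i), a3]
    simp only [θ, red_sec]
    have e1 : ∀ x, ev (fun g => b.repr (f (single g 1)) j) x = b.repr (f x) j := fun x => by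
      conv_rhs => rw [eq_sum_single x]
      simp only [ev_eq_sum, map_sum, map_smul, Finsupp.coe_finset_sum, Finset.sum_apply,
        Finsupp.coe_smul, Pi.smul_apply, smul_eq_mul]
    have e2 : f (b i) = b i := congrFun (congrArg DFunLike.coe hf) (b i)
    rw [e1, e2, b.repr_self, Matrix.one_apply, Finsupp.single_apply]
    split_ifs; exacts [red_one.symm, red_zero.symm]
  have hli : LinearIndependent ℂ fun i => (⟨a i, a1 i⟩ : S) := by
    rw [Fintype.linearIndependent_iff]
    intro c hc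
    have : c ᵥ* U = 0 := funext fun j => by
      have := congrArg (fun x : S => ev (θ j) x) hc
      simpa [map_sum, vecMul, dotProduct, U] using this
    exact congrFun (Matrix.vecMul_injective_of_isUnit hU (this.trans (zero_vecMul U).symm))
  simpa using hli.fintype_card_le_finrank

/-- the dimension of the range of an idempotent operator is preserved by reduction -/
theorem finrank_eq_of_lift {S : ℂ[G] →ₗ[ℂ] ℂ[G]} {T : (Res M)[G] →ₗ[Res M] (Res M)[G]}
    (hS : ∀ a, S (S a) = S a) (h : ∀ a, IsInt M a → IsInt M (S a) ∧ redA M (S a) = T (redA M a)) :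
    Module.finrank (Res M) (LinearMap.range T) = Module.finrank ℂ (LinearMap.range S) := by
  haveI := Fintype.ofFinite G
  have h1 := finrank_le_of_lift (M := M) (S := LinearMap.range S) (T := LinearMap.range T) (by
    rintro _ ⟨x, rfl⟩
    obtain ⟨a1, a2⟩ := h _ (isInt_liftA x)
    exact ⟨_, ⟨_, rfl⟩, a1, by rw [a2, redA_liftA]⟩)
  have h2 := finrank_le_of_lift (M := M) (S := LinearMap.ker S) (T := LinearMap.ker T) (by
    intro x hx
    obtain ⟨a1, a2⟩ := h _ (isInt_liftA x)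
    refine ⟨liftA M x - S (liftA M x), by rw [LinearMap.mem_ker, map_sub, hS, sub_self],
      (isInt_liftA x).sub a1, ?_⟩
    rw [redA_sub (isInt_liftA x) a1, a2, redA_liftA, LinearMap.mem_ker.1 hx, sub_zero])
  have h3 := S.finrank_range_add_finrank_ker
  have h4 := T.finrank_range_add_finrank_ker
  rw [Module.finrank_eq_card_basis (MonoidAlgebra.basis G ℂ)] at h3
  rw [Module.finrank_eq_card_basis (MonoidAlgebra.basis G (Res M))] at h4
  omega

/-- the corner `i R j` as a subspace -/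
noncomputable def corner {k : Type*} [CommRing k] (i j : k[G]) : Submodule k k[G] :=
  LinearMap.range ((LinearMap.mulLeft k i).comp (LinearMap.mulRight k j))

omit hMm in
theorem mem_corner {k : Type*} [CommRing k] {i j x : k[G]} (hi : i * i = i) (hj : j * j = j) :
    x ∈ corner i j ↔ i * x = x ∧ x * j = x := by
  constructor
  · rintro ⟨y, rfl⟩
    simp only [LinearMap.comp_apply, LinearMap.mulLeft_apply, LinearMap.mulRight_apply]
    exact ⟨by rw [← mul_assoc, hi], by rw [mul_assoc, mul_assoc, hj]⟩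
  · rintro ⟨h1, h2⟩
    exact ⟨x, by simp [h1, h2]⟩

/-- Cartan invariants -/
theorem finrank_corner (h2 : ε * ε = ε) (h2' : ε' * ε' = ε') :
    (Module.finrank (Res M) (corner ε ε') : ℂ) =
      ∑ χ : IrrCharacter G, t1 M (χ : G → ℂ) ε * t1 M (χ : G → ℂ) ε' := by
  haveI := Fintype.ofFinite G
  obtain ⟨i, a1, a2, rfl⟩ := exists_lift1 h2
  obtain ⟨j, b1, b2, rfl⟩ := exists_lift1 h2'
  simp only [fun χ : IrrCharacter G => t1_eq χ.2.isClassFunction a1 a2,
    fun χ : IrrCharacter G => t1_eq χ.2.isClassFunction b1 b2]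
  set S := (LinearMap.mulLeft ℂ i).comp (LinearMap.mulRight ℂ j) with hS
  have SS : ∀ a, S (S a) = S a := fun a => by
    simp only [hS, LinearMap.comp_apply, LinearMap.mulLeft_apply, LinearMap.mulRight_apply]
    rw [← mul_assoc, ← mul_assoc, a2, mul_assoc, mul_assoc, b2]
  rw [corner, finrank_eq_of_lift SS fun a ha => ⟨a1.mul (ha.mul b1), by
    simp only [hS, LinearMap.comp_apply, LinearMap.mulLeft_apply, LinearMap.mulRight_apply]
    rw [redA_mul a1 (ha.mul b1), redA_mul ha b1]⟩,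
    ← (LinearMap.IsIdempotentElem.isProj_range S (LinearMap.ext SS)).trace, sum_ev_mul_ev,
    LinearMap.trace_eq_matrix_trace ℂ (MonoidAlgebra.basis G ℂ), Matrix.trace,
    ← Equiv.sum_comp (Equiv.inv G)]
  refine Finset.sum_congr rfl fun g _ => ?_
  rw [cjA_eq, mul_assoc, mul_assoc, coeff_single_mul_apply]
  simp [LinearMap.toMatrix_apply, hS]
  rfl

/-- the centre of a block has dimension at most the number of characters -/
theorem finrank_le_card (hA : IsInt M (idem A)) {T : Submodule (Res M) (Res M)[G]}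
    (hT : ∀ z ∈ T, IsCen z ∧ eB M A * z = z) : Module.finrank (Res M) T ≤ Nat.card A := by
  haveI := Fintype.ofFinite A
  refine (finrank_le_of_lift (M := M)
    (S := Submodule.span ℂ (Set.range fun χ : A => idem {χ.1})) fun z hz => ?_).trans
    ((finrank_range_le_card _).trans Nat.card_eq_fintype_card.ge)
  obtain ⟨a, a1, a2, rfl⟩ := exists_cen_lift (hT z hz).1
  refine ⟨idem A * a, ?_, hA.mul a2, by rw [redA_mul hA a2]; exact (hT _ hz).2⟩
  rw [eq_sum_omega_smul_idem ((isCen_idem A).mul a1)]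
  refine Submodule.sum_mem _ fun χ _ => ?_
  by_cases hχ : χ ∈ A
  · exact Submodule.smul_mem _ _ (Submodule.subset_span ⟨⟨χ, hχ⟩, rfl⟩)
  · rw [omega_mul χ.2 (isCen_idem A), omega_idem_of_notMem hχ, zero_mul, zero_smul]
    exact zero_mem _

end H21
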