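import Cfsg.Agent.H24.Sym6

/-!
Blocks of symmetric groups, refined rank bound (namespace `H21.An`).
* `CP p w` coloured partitions, `cov_three` (there are fewer than `p ^ w / 2` of them for `3 ≤ w`)
* `range_le_span`, `two_mul_blockRank_lt`
-/

set_option autoImplicit false
set_option linter.unusedSectionVars false
set_option linter.unusedVariables false

open MvPolynomial Finset Equiv Cfsg H05 H20 H21 H24.Sym

namespace H21.An

/-- coloured partitions -/
def CP (p w : ℕ) : Set (Multiset (ℕ × ℕ)) :=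
  {s | (∀ x ∈ s, x.1 ∈ Ico 1 p ∧ 0 < x.2) ∧ (s.map Prod.snd).sum = w}

/-- coloured partitions without parts of size one -/
def EP (p w : ℕ) : Set (Multiset (ℕ × ℕ)) := {s | s ∈ CP p w ∧ ∀ x ∈ s, 2 ≤ x.2}

/-- covered by a finite set of size at most `c` -/
def Cov {α : Type*} (S : Set α) (c : ℕ) : Prop := ∃ t : Finset α, S ⊆ t ∧ #t ≤ c

variable {p w c d : ℕ}

theorem CP.split {s : Multiset (ℕ × ℕ)} (h : s ∈ CP p (w + 1)) :
    s ∈ EP p (w + 1) ∨ ∃ r ∈ Ico 1 p, ∃ s' ∈ CP p w, s = (r, 1) ::ₘ s' := by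
  by_cases e : ∀ x ∈ s, 2 ≤ x.2
  · exact .inl ⟨h, e⟩
  push Not at e
  obtain ⟨⟨r, k⟩, hx, e⟩ := e
  obtain ⟨s', rfl⟩ := Multiset.exists_cons_of_mem hx
  have h1 := h.1 _ hx
  obtain rfl : k = 1 := by simp only at h1 e; omega
  exact .inr ⟨r, h1.1, s', ⟨fun x hx => h.1 x (Multiset.mem_cons_of_mem hx), by have := h.2; simp at this; omega⟩, rfl⟩

theorem cov_succ (h : Cov (CP p w) c) (h' : Cov (EP p (w + 1)) d) : Cov (CP p (w + 1)) ((p - 1) * c + d) := by
  classical
  obtain ⟨t, h1, h2⟩ := h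
  obtain ⟨t', h3, h4⟩ := h'
  refine ⟨(Ico 1 p ×ˢ t).image (fun x => (x.1, 1) ::ₘ x.2) ∪ t', fun s hs => ?_, (card_union_le _ _).trans
    (Nat.add_le_add (card_image_le.trans (by simpa using Nat.mul_le_mul_left _ h2)) h4)⟩
  rcases CP.split hs with e | ⟨r, hr, s', hs', rfl⟩
  · exact mem_union_right _ (h3 e)
  · exact mem_union_left _ (mem_image.2 ⟨(r, s'), mem_product.2 ⟨hr, h1 hs'⟩, rfl⟩)

theorem cov_E (h : Cov (CP p w) c) : Cov (EP p (w + 1)) c := by
  classical
  obtain ⟨t, h1, h2⟩ := h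
  let g : Multiset (ℕ × ℕ) → Multiset (ℕ × ℕ) := fun s =>
    if h : ∃ x ∈ s, ∀ y ∈ s.erase x, x.2 < y.2 then (h.choose.1, h.choose.2 + 1) ::ₘ s.erase h.choose else 0
  refine ⟨t.image g, fun s hs => ?_, card_image_le.trans h2⟩
  obtain ⟨x, hx, hm⟩ := exists_min_image s.toFinset Prod.snd (by
    rw [Multiset.toFinset_nonempty]; rintro rfl; simpa using hs.1.2)
  obtain ⟨s', rfl⟩ := Multiset.exists_cons_of_mem (Multiset.mem_toFinset.1 hx)
  have h3 := hs.2 x (Multiset.mem_cons_self _ _)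
  have h4 : ∀ y ∈ ((x.1, x.2 - 1) ::ₘ s').erase (x.1, x.2 - 1), (x.1, x.2 - 1).2 < y.2 := fun y hy => by
    rw [Multiset.erase_cons_head] at hy
    have := hm y (by simp [hy])
    simp only; omega
  refine mem_image.2 ⟨(x.1, x.2 - 1) ::ₘ s', h1 ⟨fun y hy => ?_, ?_⟩, ?_⟩
  · rcases Multiset.mem_cons.1 hy with rfl | hy
    · exact ⟨(hs.1.1 x (Multiset.mem_cons_self _ _)).1, by simp only; omega⟩
    · exact hs.1.1 y (Multiset.mem_cons_of_mem hy)
  · have := hs.1.2
    simp at this ⊢; omega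
  · have h5 : ∃ y ∈ (x.1, x.2 - 1) ::ₘ s', ∀ z ∈ ((x.1, x.2 - 1) ::ₘ s').erase y, y.2 < z.2 :=
      ⟨_, Multiset.mem_cons_self _ _, h4⟩
    have h6 : h5.choose = (x.1, x.2 - 1) := by
      by_contra e
      exact lt_asymm (h4 _ ((Multiset.mem_erase_of_ne e).2 h5.choose_spec.1))
        (h5.choose_spec.2 _ ((Multiset.mem_erase_of_ne (Ne.symm e)).2 (Multiset.mem_cons_self _ _)))
    simp only [g, dif_pos h5, h6, Multiset.erase_cons_head]
    rw [Nat.sub_add_cancel (by omega)]

theorem cov_E_small (h : w + 1 ≤ 3) : Cov (EP p (w + 1)) (p - 1) := by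
  classical
  refine ⟨(Ico 1 p).image fun r => {(r, w + 1)}, fun s hs => ?_, card_image_le.trans (by simp)⟩
  have h1 := Multiset.card_nsmul_le_sum (s := s.map Prod.snd) (a := 2) (by simpa using fun b a => hs.2 (a, b))
  have h2 := hs.1.2
  obtain ⟨x, rfl⟩ := Multiset.card_eq_one.1 (show s.card = 1 by
    have : s.card ≠ 0 := fun e => by simp [Multiset.card_eq_zero.1 e] at h2
    simp at h1; omega)
  exact mem_image.2 ⟨x.1, (hs.1.1 x (by simp)).1, by simp at h2; simp [← h2]⟩

theorem cov_two : Cov (CP p 2) ((p - 1 + 1).choose 2 + (p - 1)) := by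
  classical
  obtain ⟨t, h1, h2⟩ := cov_E_small (p := p) (w := 1) (by omega)
  refine ⟨(Ico 1 p).sym2.image (Sym2.lift ⟨fun a b => {(a, 1), (b, 1)}, fun a b => Multiset.pair_comm _ _⟩) ∪ t,
    fun s hs => ?_, (card_union_le _ _).trans (Nat.add_le_add (card_image_le.trans (by simp [card_sym2])) h2)⟩
  rcases CP.split hs with e | ⟨r, hr, s', hs', rfl⟩
  · exact mem_union_right _ (h1 e)
  rcases CP.split hs' with e | ⟨r', hr', s'', hs'', rfl⟩
  · obtain ⟨x, hx⟩ := Multiset.exists_mem_of_ne_zero (s := s') (by rintro rfl; simpa using e.1.2)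
    have := Multiset.single_le_sum (fun _ _ => Nat.zero_le _) _ (Multiset.mem_map_of_mem Prod.snd hx)
    have := e.2 x hx
    have := e.1.2
    omega
  obtain rfl : s'' = 0 := Multiset.eq_zero_of_forall_notMem fun x hx => by
    have := Multiset.single_le_sum (fun _ _ => Nat.zero_le _) _ (Multiset.mem_map_of_mem Prod.snd hx)
    have := (hs''.1 x hx).2
    have := hs''.2
    omega
  exact mem_union_left _ (mem_image.2 ⟨s(r, r'), mk_mem_sym2_iff.2 ⟨hr, hr'⟩, rfl⟩)

theorem cov_three (hp : 0 < p) (hw : 3 ≤ w) : ∃ c, Cov (CP p w) c ∧ 2 * c < p ^ w := by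
  induction w, hw using Nat.le_induction with
  | base =>
    refine ⟨_, cov_succ cov_two (cov_E_small le_rfl), ?_⟩
    obtain ⟨m, rfl⟩ := Nat.exists_eq_add_one_of_ne_zero hp.ne'
    have : 2 * (m + 1).choose 2 = (m + 1) * m := by
      rw [Nat.choose_two_right]; exact Nat.two_mul_div_two_of_even (Nat.even_mul_pred_self _)
    simp only [Nat.add_sub_cancel]
    nlinarith
  | succ w hw ih =>
    obtain ⟨c, h1, h2⟩ := ih
    refine ⟨_, cov_succ h1 (cov_E h1), ?_⟩
    obtain ⟨m, rfl⟩ := Nat.exists_eq_add_one_of_ne_zero hp.ne'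
    rw [pow_succ, Nat.add_sub_cancel]
    nlinarith

variable {n : ℕ}

/-- partial power sums -/
noncomputable def PS (ε : Fin n → ℕ) (x : ℕ × ℕ) : MvPolynomial (Fin n) ℂ := ∑ i with ε i = x.1, X i ^ x.2

theorem range_le_span {V : Type*} [AddCommGroup V] [Module ℂ V] {ε q0 : Fin n → ℕ}
    (hp : 0 < p) (hε : ∀ i, ε i < p) (h0 : Core ε q0) (w : ℕ) (φ : MvPolynomial (Fin n) ℂ →ₗ[ℂ] V)
    (ha : ∀ τ : Perm (Fin n), ε ∘ τ = ε → ∀ g, φ (rename τ g) = (Perm.sign τ : ℤ) • φ g)
    (hb : ∀ k, 0 < k → ∀ g, φ (psum (Fin n) ℂ k * g) = 0)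
    (hs : ∀ d : Fin n →₀ ℕ, φ (monomial d 1) ≠ 0 → ∑ i, d i = ∑ i, q0 i + w) :
    LinearMap.range φ ≤ Submodule.span ℂ ((fun s : Multiset (ℕ × ℕ) =>
      φ ((s.map (PS ε)).prod * monomial (Finsupp.equivFunOnFinite.symm q0) 1)) '' CP p w) := by
  induction w using Nat.strong_induction_on generalizing φ with
  | _ w ih =>
  have hrange : ∀ (ψ : MvPolynomial (Fin n) ℂ →ₗ[ℂ] V) (T : Submodule ℂ V), (∀ d, ψ (monomial d 1) ∈ T) →
      LinearMap.range ψ ≤ T := fun ψ T h => by
    rintro _ ⟨g, rfl⟩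
    induction g using MvPolynomial.induction_on' with
    | monomial u a => rw [show monomial u a = a • monomial u (1 : ℂ) by simp [smul_monomial], map_smul]; exact T.smul_mem _ (h u)
    | add g g' h1 h2 => rw [map_add]; exact T.add_mem h1 h2
  have hinj : ∀ ψ : MvPolynomial (Fin n) ℂ →ₗ[ℂ] V,
      (∀ τ : Perm (Fin n), ε ∘ τ = ε → ∀ g, ψ (rename τ g) = (Perm.sign τ : ℤ) • ψ g) →
      ∀ d : Fin n →₀ ℕ, ψ (monomial d 1) ≠ 0 → ∀ i j, ε i = ε j → d i = d j → i = j := fun ψ hψ d hd i j e e' => by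
    by_contra hij
    have := hψ (swap i j) (funext fun k => apply_swap_eq_self e k) (monomial d 1)
    rw [rename_monomial, show d.mapDomain (swap i j) = d from Finsupp.ext fun k => by
      rw [Finsupp.mapDomain_equiv_apply, symm_swap]; exact apply_swap_eq_self e' k, Perm.sign_swap hij] at this
    refine hd ?_
    have h2 : (2 : ℂ) • ψ (monomial d 1) = 0 := by rw [two_smul]; nth_rw 1 [this]; simp
    simpa using h2
  rcases Nat.eq_zero_or_pos w with rfl | hw
  · refine hrange φ _ fun d => ?_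
    by_cases hd : φ (monomial d 1) = 0
    · simp [hd]
    have h1 := core_rho (hinj φ ha d hd)
    have h2 : rho ε d = d := funext fun i => (sum_eq_sum_iff_of_le fun i _ => h1.le lt_of_rho_lt i).1
      (le_antisymm (sum_le_sum fun i _ => h1.le lt_of_rho_lt i) ((hs d hd).trans_le (h0.sum_le h1.1))) i (mem_univ _)
    obtain ⟨τ, h3, h4⟩ := h1.exists_perm h0
    rw [show monomial d (1 : ℂ) = rename τ (monomial (Finsupp.equivFunOnFinite.symm q0) 1) by
      rw [rename_monomial]; congr 2; ext i; simp [h4, h2], ha τ h3]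
    refine zsmul_mem (Submodule.subset_span ?_) _
    exact ⟨0, by simp [CP], by simp⟩
  set T := Submodule.span ℂ ((fun s : Multiset (ℕ × ℕ) =>
      φ ((s.map (PS ε)).prod * monomial (Finsupp.equivFunOnFinite.symm q0) 1)) '' CP p w)
  let ψ : ℕ × ℕ → MvPolynomial (Fin n) ℂ →ₗ[ℂ] V := fun x => φ ∘ₗ LinearMap.mulLeft ℂ (PS ε x)
  have hψa : ∀ x, ∀ τ : Perm (Fin n), ε ∘ τ = ε → ∀ g, ψ x (rename τ g) = (Perm.sign τ : ℤ) • ψ x g := fun x τ hτ g => by
    have : rename τ (PS ε x) = PS ε x := by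
      simp only [PS, map_sum, map_pow, rename_X]
      exact sum_bijective τ τ.bijective (fun i => by simp [show ε (τ i) = ε i from congrFun hτ i]) fun _ _ => rfl
    simp only [ψ, LinearMap.comp_apply, LinearMap.mulLeft_apply]
    rw [← ha τ hτ, map_mul (rename τ), this]
  have hψs : ∀ x, ∀ d : Fin n →₀ ℕ, ψ x (monomial d 1) ≠ 0 → ∑ i, d i + x.2 = ∑ i, q0 i + w := fun x d hd => by
    simp only [ψ, PS, LinearMap.comp_apply, LinearMap.mulLeft_apply, sum_mul, map_sum] at hd
    obtain ⟨i, -, hi⟩ := exists_ne_zero_of_sum_ne_zero hd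
    rw [X_pow_eq_monomial, monomial_mul, one_mul] at hi
    rw [← hs _ hi]; simp [sum_add_distrib, add_comm, Finsupp.single_apply]
  have hT0 : ∀ r k g, r ∈ Ico 1 p → ψ (r, k + 1) g ∈ T := fun r k g hr => by
    by_cases hk : k < w
    · refine (ih (w - 1 - k) (by omega) _ (hψa _) (fun l hl g => by
        simp only [ψ, LinearMap.comp_apply, LinearMap.mulLeft_apply]; rw [mul_left_comm, hb l hl]) (fun d hd => by
          have := hψs _ d hd
          simp only at *; omega)).trans (Submodule.span_mono ?_) ⟨g, rfl⟩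
      rintro _ ⟨s, hs, rfl⟩
      refine ⟨(r, k + 1) ::ₘ s, ⟨fun y hy => ?_, by have := hs.2; simp at this ⊢; omega⟩, by simp [ψ, mul_assoc]⟩
      rcases Multiset.mem_cons.1 hy with rfl | hy
      exacts [⟨hr, Nat.succ_pos _⟩, hs.1 y hy]
    · refine hrange _ T (fun d => ?_) ⟨g, rfl⟩
      by_cases hd : ψ (r, k + 1) (monomial d 1) = 0
      · simp [hd]
      have := hψs _ d hd
      have := h0.sum_le (hinj _ (hψa _) d hd)
      omega
  have hT : ∀ r k g, r < p → ψ (r, k + 1) g ∈ T := fun r k g hr => by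
    rcases Nat.eq_zero_or_pos r with rfl | h
    · have h1 := hb (k + 1) (by omega) g
      rw [psum, ← sum_fiberwise_of_maps_to (g := ε) (t := range p) (fun i _ => mem_range.2 (hε i)), range_eq_Ico,
        sum_eq_sum_Ico_succ_bot hr, add_mul, map_add, sum_mul (Ico _ _), map_sum] at h1
      exact (show ψ (0, k + 1) g = _ from eq_neg_of_add_eq_zero_left h1) ▸ T.neg_mem (T.sum_mem fun r hr => hT0 r k g hr)
    · exact hT0 r k g (mem_Ico.2 ⟨h, hr⟩)
  refine hrange φ T fun d => ?_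
  by_cases hd : φ (monomial d 1) = 0
  · simp [hd]
  obtain ⟨i, hi⟩ : ∃ i, #{j | ε j = ε i} ≤ d i := by
    by_contra! h
    have := Core.sum_le (q := d) ⟨hinj φ ha d hd, h⟩ h0.1
    have := hs d hd
    omega
  let I : Ideal (MvPolynomial (Fin n) ℂ) := Ideal.span (Set.range fun k => PS ε (ε i, k + 1))
  have h1 : X i ^ #{j | ε j = ε i} ∈ I := by
    have := pow_card_eq_zero (fun j : {j // ε j = ε i} => Ideal.Quotient.mk I (X j.1)) (fun k hk => by
      obtain ⟨k, rfl⟩ := Nat.exists_eq_add_one_of_ne_zero hk.ne'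
      simp only [← map_pow, ← map_sum]
      rw [Ideal.Quotient.eq_zero_iff_mem, ← sum_subtype (univ.filter fun j => ε j = ε i) (by simp) (fun j => X j ^ (k + 1))]
      exact Ideal.subset_span ⟨k, rfl⟩) ⟨i, rfl⟩
    rwa [← map_pow, Ideal.Quotient.eq_zero_iff_mem, Fintype.card_subtype] at this
  have h2 : ∀ z ∈ I, ∀ g, φ (z * g) ∈ T := fun z hz => by
    induction hz using Submodule.span_induction with
    | mem z hz => obtain ⟨k, rfl⟩ := hz; exact fun g => hT _ k g (hε i)
    | zero => simp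
    | add x y _ _ h1 h2 => exact fun g => by rw [add_mul, map_add]; exact T.add_mem (h1 g) (h2 g)
    | smul a x _ h => exact fun g => by rw [smul_eq_mul, mul_comm a, mul_assoc]; exact h _
  have := h2 _ h1 (monomial (d - Finsupp.single i #{j | ε j = ε i}) 1)
  rwa [X_pow_eq_monomial, monomial_mul, one_mul, add_tsub_cancel_of_le (Finsupp.single_le_iff.2 hi)] at this

theorem blockRank_le_cov (hp : p.Prime) {B : Set (IrrCharacter (Perm (Fin n)))} {S : Fin n → ℕ}
    (hS : S ∈ SS n (n + ∑ i : Fin n, i.val))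
    (hw : ∑ i, S i / p = ∑ i, rho (fun i => S i % p) (fun i => S i / p) i + w)
    (hB : ∀ T ∈ SS n (n + ∑ i : Fin n, i.val), ∀ χ ∈ B, χ.1 = chi n T → ct p T = ct p S) (hc : Cov (CP p w) c) :
    blockRank p B ≤ c := by
  classical
  let φ : MvPolynomial (Fin n) ℂ →ₗ[ℂ] (Perm (Fin n) → ℂ) :=
    (basisMonomials _ ℂ).constr ℂ fun d => pRegularPart p (chi n fun i => S i % p + p * d i)
  have hφ : ∀ d, φ (monomial d 1) = pRegularPart p (chi n fun i => S i % p + p * d i) := fun d =>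
    (basisMonomials _ ℂ).constr_basis ℂ _ d
  have hchi : ∀ (b : Fin n → ℕ) (τ : Perm (Fin n)), chi n (b ∘ τ) = ((Perm.sign τ : ℤ) : ℂ) • chi n b := fun b τ => by
    ext σ; simp [chi, XS, (alt_PP σ).cf_comp]
  have h3 : ∀ b : Fin n → ℕ, ∑ i, b i = ∑ i, b i % p + p * ∑ i, b i / p := fun b => by
    simp [mul_sum, ← sum_add_distrib, Nat.mod_add_div]
  obtain ⟨t, ht, hc⟩ := hc
  refine (Submodule.finrank_mono ((Submodule.span_le.2 ?_).trans ((range_le_span hp.pos
    (fun i => Nat.mod_lt (S i) hp.pos) (core_rho (q := fun i => S i / p) fun i j e e' => (mem_SS.1 hS).2.injective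
      (by rw [← Nat.mod_add_div (S i) p, e, e', Nat.mod_add_div])) w φ (fun τ hτ g => ?_) (fun k hk g => ?_)
      fun d hd => ?_).trans (Submodule.span_mono ((Set.image_mono ht).trans_eq coe_image.symm))))).trans
      ((finrank_span_finset_le_card _).trans (card_image_le.trans hc))
  · rintro _ ⟨χ, hχ, rfl⟩
    obtain ⟨T, hT, e⟩ := exists_chi_eq χ
    obtain ⟨τ, hτ⟩ := exists_equiv_fib (fun i => S i % p) (fun i => T i % p) fun r => (congrFun (hB T hT χ hχ e) r).symm
    refine ⟨((Perm.sign τ : ℤ) : ℂ) • monomial (Finsupp.equivFunOnFinite.symm fun i => T (τ i) / p) 1, ?_⟩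
    simp only [map_smul, hφ, ← pRegularPart_smul, ← hτ, Finsupp.equivFunOnFinite_symm_apply_apply, Nat.mod_add_div, e]
    rw [show (fun i => T (τ i)) = T ∘ τ from rfl, hchi, smul_smul]; simp [← Int.cast_mul]
  · induction g using MvPolynomial.induction_on' with
    | monomial d a =>
      rw [show monomial d a = a • monomial d (1 : ℂ) by simp [smul_monomial], map_smul, map_smul, map_smul, smul_comm,
        rename_monomial, hφ, hφ, ← Int.cast_smul_eq_zsmul ℂ, ← pRegularPart_smul ((Perm.sign τ : ℤ) : ℂ), ← Perm.sign_inv, ← hchi]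
      congr 3; ext i
      simp [Finsupp.mapDomain_equiv_apply, ← show S (τ (τ.symm i)) % p = S (τ.symm i) % p from congrFun hτ _]
    | add g g' h1 h2 => simp only [map_add, h1, h2, smul_add]
  · induction g using MvPolynomial.induction_on' with
    | monomial d a =>
      rw [show monomial d a = a • monomial d (1 : ℂ) by simp [smul_monomial], mul_smul_comm, map_smul, psum, sum_mul, map_sum]
      simp only [X_pow_eq_monomial, monomial_mul, one_mul, hφ]
      refine smul_eq_zero_of_right _ (funext fun σ => ?_)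
      simp only [Finset.sum_apply, pRegularPart_apply, Pi.zero_apply]
      split_ifs with h
      · simp
      have := sum_cf_eq_zero (k := p * k) (hp.two_le.trans (Nat.le_mul_of_pos_right p hk)) (σ := σ)
        (fun h' => h ((dvd_mul_right p k).trans (Perm.dvd_of_mem_cycleType h'))) fun i => S i % p + p * d i
      rw [← Int.cast_zero, ← this, Int.cast_sum]
      refine sum_congr rfl fun i _ => ?_
      simp only [chi]; congr 2; ext j
      by_cases e : j = i <;> simp [e, mul_add]; ring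
    | add g g' h1 h2 => simp only [mul_add, map_add, h1, h2, add_zero]
  · by_contra h
    refine hd (hφ d ▸ funext fun σ => ?_)
    have := h3 S
    rw [(mem_SS.1 hS).1] at this
    simp [pRegularPart_apply, chi, XS_eq_zero (b := fun i => S i % p + p * d i) (Ω := Fin n) (by
      rw [sum_add_distrib, ← mul_sum, Fintype.card_fin, this, hw]
      simpa [hp.ne_zero] using h)]

end H21.An
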