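import Cfsg.Agent.H20.Pim
import Cfsg.Agent.H20.Cover
import Cfsg.Agent.S4432
import Cfsg.Agent.S0174

/-!
Ranks of blocks of subgroups of index two (namespace `H21.An`).
* `ib_perm` (an involutory automorphism permutes the Brauer characters), `rank_le_two_mul`
* `res_of_index_two`, `rank_le_of_covers`, `rank_le_of_covers'`
-/

set_option autoImplicit false
set_option linter.unusedSectionVars false
set_option linter.unusedVariables false

open Finset Cfsg H05 H20 H21 MonoidAlgebra H12.Ri Classical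

namespace H21.An

variable {M : Ideal AlgInt} [hMm : M.IsMaximal] {G : Type*} [Group G] [Finite G] {p : ℕ}

theorem ib_perm {n : ℕ} {d : Fin n → ℕ} {π : (Res M)[G] →ₐ[Res M] Π i, Matrix (Fin (d i)) (Fin (d i)) (Res M)}
    {e : Fin n → (Res M)[G]} {φ : Fin n → G → ℂ} (h : IB p π e φ) (σ : G →* G) (hσ : ∀ g, IsConj g (σ (σ g))) :
    ∃ τ : Fin n → Fin n, (∀ β, τ (τ β) = β) ∧ ∀ β g, ¬ p ∣ orderOf g → φ β (σ g) = φ (τ β) g := by
  choose r r1 r2 using fun γ => exists_t1_eq_sum h.mod h.wed h.pm (ε := push σ (e γ)) (by rw [← map_mul, (h.pm γ).sq])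
  have h1 : ∀ β γ, t1 M (fun g => φ β (σ g)) (e γ) = r γ β := fun β γ => by
    rw [t1_comp σ (h.cls β) (h.pm γ).sq, r2 γ _ (h.cls β)]; simp [h.dual]
  have h2 : ∀ β γ, ∑ δ, r γ δ * r δ β = if β = γ then 1 else 0 := fun β γ => by
    have := t1_comp σ ((h.cls β).comp σ) (h.pm γ).sq
    rw [r2 γ _ ((h.cls β).comp σ), show (fun g => φ β (σ (σ g))) = φ β from funext fun g => by
      obtain ⟨c, hc⟩ := isConj_iff.1 (hσ g); rw [← hc, h.cls], h.dual] at this
    simp only [h1] at this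
    exact_mod_cast this.symm
  have h3 : ∀ β, ∃ δ, r β δ ≠ 0 ∧ r δ β = 1 := fun β => by
    obtain ⟨δ, -, hδ⟩ := exists_ne_zero_of_sum_ne_zero ((h2 β β).trans_ne (by simp))
    have := single_le_sum (f := fun δ => r β δ * r δ β) (fun _ _ => Nat.zero_le _) (mem_univ δ)
    rw [h2, if_pos rfl] at this
    exact ⟨δ, left_ne_zero_of_mul hδ, Nat.eq_one_of_mul_eq_one_left (le_antisymm this (Nat.pos_of_ne_zero hδ))⟩
  choose τ t1 t2 using h3
  have h4 : ∀ β γ, r γ β ≠ 0 → γ = τ β := fun β γ hγ => by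
    by_contra e
    have := single_le_sum (f := fun δ => r γ δ * r δ (τ β)) (fun _ _ => Nat.zero_le _) (mem_univ β)
    rw [h2, if_neg (Ne.symm e)] at this
    exact mul_ne_zero hγ (t1 β) (by omega)
  refine ⟨τ, fun β => (h4 _ _ (t1 β)).symm, fun β g hg => ?_⟩
  rw [h.apply_reg ((h.cls β).comp σ) hg, sum_eq_single (τ β) (fun γ _ e => by
    rw [h1, not_not.1 fun e' => e (h4 _ _ e')]; simp) (by simp), h1, t2]; simp

theorem rank_le_two_mul (hM : IsPModular p M) {B : Set (IrrCharacter G)} (hB : IsInt M (idem B)) (σ : G ≃* G)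
    (hσ : ∀ g, IsConj g (σ (σ g))) (W : Submodule ℂ (G → ℂ))
    (hW : ∀ χ ∈ B, pRegularPart p (fun g => χ.1 g + χ.1 (σ g)) ∈ W) : blockRank p B ≤ 2 * Module.finrank ℂ W := by
  haveI := Fintype.ofFinite G
  obtain ⟨n, d, π, e, φ, h⟩ := exists_ib' hM G
  obtain ⟨τ, h1, h2⟩ := ib_perm h σ hσ
  let J := (ibr π B).filter fun β => β ≤ τ β ∨ τ β ∉ ibr π B
  have h3 : ∀ β ∈ ibr π B, pRegularPart p (φ β + φ (τ β)) ∈ W := fun β hβ => by
    obtain ⟨z, -, hz⟩ := h.exists_inv hB hβ
    rw [show pRegularPart p (φ β + φ (τ β)) = ∑ χ with χ ∈ B, (z χ : ℂ) • pRegularPart p (fun g => χ.1 g + χ.1 (σ g)) by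
      simp only [← pRegularPart_smul, ← pRegularPart_sum]
      refine pRegularPart_congr fun g hg => ?_
      rw [Pi.add_apply, ← h2 β g hg, hz g hg, hz _ (by simpa using hg)]; simp [mul_add, sum_add_distrib]]
    exact W.sum_mem fun χ hχ => W.smul_mem _ (hW χ (mem_filter.1 hχ).2)
  have h4 : LinearIndependent ℂ fun β : J => (⟨_, h3 β (mem_filter.1 β.2).1⟩ : W) := by
    rw [Fintype.linearIndependent_iff]
    intro c hc β
    let c' : Fin n → ℂ := fun β => if hβ : β ∈ J then c ⟨β, hβ⟩ else 0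
    have := h.indep (s := univ) (c := fun β => c' β + c' (τ β)) (fun g hg => by
      have h5 : ∑ β, c' (τ β) * φ β g = ∑ β, c' β * φ (τ β) g :=
        Fintype.sum_bijective τ (Function.Involutive.bijective h1) _ _ fun β => by rw [h1]
      simp only [add_mul, sum_add_distrib, h5]
      rw [← sum_add_distrib, ← sum_subset (subset_univ J) fun β _ hβ => by simp [c', hβ], ← sum_coe_sort]
      simpa [pRegularPart_of_not_dvd _ hg, c', mul_add] using congrFun (congrArg Subtype.val hc) g) β (mem_univ _)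
    by_cases e : τ β ∈ J
    · have h5 : τ β = β := by
        have a := mem_filter.1 β.2
        have b := mem_filter.1 e
        rw [h1] at b
        exact le_antisymm (b.2.resolve_right (not_not.2 a.1)) (a.2.resolve_right (not_not.2 b.1))
      simpa [h5, c'] using this
    · simpa [c', e] using this
  have h5 := h4.fintype_card_le_finrank
  have h6 : #(ibr π B) ≤ #J + #J := (card_le_card (t := J ∪ J.image τ) fun β hβ => by
    by_cases e : β ∈ J
    · exact mem_union_left _ e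
    simp only [J, mem_filter, hβ, true_and, not_or, not_not, not_le] at e
    exact mem_union_right _ (mem_image.2 ⟨τ β, mem_filter.2 ⟨e.2, .inl (by rw [h1]; exact e.1.le)⟩, h1 β⟩)).trans
      ((card_union_le _ _).trans (Nat.add_le_add_left card_image_le _))
  rw [h.blockRank_eq hB]
  rw [Fintype.card_coe] at h5
  omega

variable {N : Subgroup G} [hN : N.Normal]

theorem res_of_index_two (h2 : N.index = 2) {s : G} (hs : s ∉ N) {χ : IrrCharacter G} {θ : IrrCharacter N}
    (h : Over N χ.1 θ) : (∃ c : ℂ, ∀ x : N, θ.1 x + θ.1 (MulAut.conjNormal s x) = c * χ.1 x) ∧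
      ((∃ u, u ∉ N ∧ χ.1 u ≠ 0) → ∃ c : ℂ, ∀ x : N, θ.1 x = c * χ.1 x) := by
  haveI := Fintype.ofFinite G
  have h0 := over_iff.1 h
  have h1 := Cfsg.Agent.S0174.result N hN _ χ.2 _ θ.2 h0
  obtain ⟨m, hm⟩ := (χ.2.isCharacter.comp N.subtype).exists_classInner_eq_nat θ.2.isCharacter
  change classInner (fun x : N => χ.1 x) θ.1 = m at hm
  let θ' := irrComap (MulAut.conjNormal s : N ≃* N) θ
  rw [show {ψ : N → ℂ | ∃ g : G, ψ = fun n : N => θ.1 ⟨g * n * g⁻¹, hN.conj_mem n n.2 g⟩} = {θ.1, θ'.1} by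
    ext ψ
    refine ⟨?_, ?_⟩
    · rintro ⟨g, rfl⟩
      by_cases hg : g ∈ N
      · exact .inl (funext fun x => θ.2.isClassFunction x ⟨g, hg⟩)
      · have h3 : g * s⁻¹ ∈ N := (Subgroup.mul_mem_iff_of_index_two h2).2 (by simp [hg, hs])
        refine .inr (funext fun x => (congrArg θ.1 (Subtype.ext ?_)).trans
          (θ.2.isClassFunction (MulAut.conjNormal s x) ⟨_, h3⟩))
        simp [mul_assoc]
    · rintro (rfl | rfl)
      exacts [⟨1, by simp⟩, ⟨s, rfl⟩], hm] at h1
  rw [hm] at h0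
  by_cases e : θ.1 = θ'.1
  · rw [← e, Set.pair_eq_singleton, finsum_mem_singleton] at h1
    have h3 : ∀ x : N, θ.1 x = (m : ℂ)⁻¹ * χ.1 x := fun x => by rw [congrFun h1 x]; simp [h0]
    exact ⟨⟨2 * (m : ℂ)⁻¹, fun x => by rw [show θ.1 (MulAut.conjNormal s x) = θ.1 x from (congrFun e x).symm, h3]; ring⟩,
      fun _ => ⟨_, h3⟩⟩
  rw [finsum_mem_pair e] at h1
  refine ⟨⟨(m : ℂ)⁻¹, fun x => by rw [congrFun h1 x]; simp [h0]; rfl⟩, fun ⟨u, hu, h3⟩ => absurd ?_ h3⟩
  have h4 : (classInner (fun x : N => χ.1 x) fun x : N => χ.1 x).re = m * m * 2 := by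
    rw [h1, classInner_smul_left, classInner_natCast_smul_right, classInner_add_left, classInner_add_right,
      classInner_add_right, θ.2.classInner_self, θ'.2.classInner_self, θ.2.classInner_of_ne θ'.2 e,
      θ'.2.classInner_of_ne θ.2 (Ne.symm e)]
    simp; ring
  have h5 := congrArg Complex.re χ.2.classInner_self
  rw [classInner_self_re, inv_mul_eq_iff_eq_mul₀ (by simp)] at h4 h5
  rw [← sum_subtype (univ.filter (· ∈ N)) (by simp) fun g => ‖χ.1 g‖ ^ 2] at h4
  rw [← sum_filter_add_sum_filter_not univ (· ∈ N), h4, ← N.card_mul_index, h2] at h5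
  have h6 := single_le_sum (s := univ.filter (· ∉ N)) (f := fun g => ‖χ.1 g‖ ^ 2) (fun _ _ => by positivity)
    (a := u) (by simpa using hu)
  have h7 : (1 : ℝ) ≤ m * m := by exact_mod_cast Nat.mul_pos (Nat.pos_of_ne_zero (by simpa using h0)) (Nat.pos_of_ne_zero (by simpa using h0))
  have h8 : (0 : ℝ) ≤ Nat.card N := by positivity
  simp only [Complex.one_re, Nat.cast_mul, Nat.cast_ofNat] at h5 h6
  have : ‖χ.1 u‖ ^ 2 ≤ 0 := by nlinarith
  simpa using this.antisymm (by positivity)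

variable (p) in
/-- span of the restrictions -/
noncomputable def resSp (N : Subgroup G) (B : Set (IrrCharacter G)) : Submodule ℂ (N → ℂ) :=
  (Submodule.span ℂ ((fun χ : IrrCharacter G => pRegularPart p (χ : G → ℂ)) '' B)).map (LinearMap.funLeft ℂ ℂ Subtype.val)

theorem finrank_resSp (B : Set (IrrCharacter G)) : Module.finrank ℂ (resSp p N B) ≤ blockRank p B :=
  Submodule.finrank_map_le _ _

theorem mem_resSp {B : Set (IrrCharacter G)} {χ : IrrCharacter G} (hχ : χ ∈ B) {f : N → ℂ} {c : ℂ}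
    (h : ∀ x : N, f x = c * χ.1 x) : pRegularPart p f ∈ resSp p N B :=
  ⟨c • pRegularPart p χ.1, Submodule.smul_mem _ _ (Submodule.subset_span ⟨χ, hχ, rfl⟩), funext fun x => by
    simp [LinearMap.funLeft_apply, pRegularPart_apply, h]⟩

variable {B : Set (IrrCharacter G)} {b : Set (IrrCharacter N)}

theorem exists_over_mem (hM : IsPModular p M) (hB : IsPBlock M B) (hb : IsPBlock M b) (h : Covers N B b)
    {θ : IrrCharacter N} (hθ : θ ∈ b) : ∃ χ ∈ B, Over N χ.1 θ := by
  haveI := Fintype.ofFinite G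
  haveI : Fact p.Prime := ⟨hM.1⟩
  simpa only [over_iff] using Cfsg.Agent.S4432.result p M hM N B hB b hb (covers_iff.1 h) θ hθ

theorem rank_le_of_covers (hM : IsPModular p M) (h2 : N.index = 2) (hB : IsPBlock M B) (hb : IsPBlock M b)
    (h : Covers N B b) : blockRank p b ≤ 2 * blockRank p B := by
  obtain ⟨s, hs⟩ : ∃ s, s ∉ N := by
    by_contra! e
    simp [(Subgroup.eq_top_iff' N).2 e] at h2
  refine (rank_le_two_mul hM hb.isInt_idem (MulAut.conjNormal s) (fun g => isConj_iff.2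
    ⟨⟨s * s, (Subgroup.mul_mem_iff_of_index_two h2).2 Iff.rfl⟩, Subtype.ext (by simp [mul_assoc])⟩) (resSp p N B)
    fun θ hθ => ?_).trans (Nat.mul_le_mul_left _ (finrank_resSp B))
  obtain ⟨χ, hχ, e⟩ := exists_over_mem hM hB hb h hθ
  obtain ⟨c, hc⟩ := (res_of_index_two h2 hs e).1
  exact mem_resSp hχ hc

theorem rank_le_of_covers' (hM : IsPModular p M) (h2 : N.index = 2) (hB : IsPBlock M B) (hb : IsPBlock M b)
    (h : Covers N B b) (hu : ∀ χ ∈ B, ∃ u, u ∉ N ∧ χ.1 u ≠ 0) : blockRank p b ≤ blockRank p B := by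
  refine (Submodule.finrank_mono (Submodule.span_le.2 ?_)).trans (finrank_resSp (N := N) B)
  rintro _ ⟨θ, hθ, rfl⟩
  obtain ⟨χ, hχ, e⟩ := exists_over_mem hM hB hb h hθ
  obtain ⟨c, hc⟩ := (res_of_index_two h2 (hu χ hχ).choose_spec.1 e).2 (hu χ hχ)
  exact mem_resSp hχ hc

end H21.An
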