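import Cfsg.Agent.H21.An1
import Cfsg.Agent.H21.DefectVal

/-!
Defect groups of blocks of symmetric groups (namespace `H21.An`).
* `Wt` (weight), `supp_le` (Murnaghan–Nakayama vanishing), `Wt.congr`
* `defect_struct` (the defect group is a Sylow subgroup of the symmetric group on `p * w` points)
-/

set_option autoImplicit false
set_option linter.unusedSectionVars false
set_option linter.unusedVariables false

open MvPolynomial Finset Equiv Cfsg H05 H20 H21 H24.Sym

namespace H21.An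

variable {n p w : ℕ}

theorem mem_of_pow_mem' {G : Type*} [Group G] {H : Subgroup G} {x : G} {k : ℕ} (h : x ^ k ∈ H)
    (hc : k.Coprime (orderOf x)) : x ∈ H := (Subgroup.zpowers_le.2 h) (mem_zpowers_pow_iff.2 hc)

theorem sum_mod_div (p : ℕ) (b : Fin n → ℕ) : ∑ i, b i = ∑ i, b i % p + p * ∑ i, b i / p := by
  simp [mul_sum, ← sum_add_distrib, Nat.mod_add_div]

theorem mn_bound {ι : Type*} {ε q0 : Fin n → ℕ} (h0 : Core ε q0) (s : Finset ι) (k : ι → ℕ) (hk : ∀ i ∈ s, p ∣ k i)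
    {g : MvPolynomial (Fin n) ℤ} (hg : Alt g) (b : Fin n → ℕ) (hb : ∀ i, b i % p = ε i)
    (h : cf b ((∏ i ∈ s, psum (Fin n) ℤ (k i)) * g) ≠ 0) : ∑ i, ε i + p * ∑ i, q0 i + ∑ i ∈ s, k i ≤ ∑ i, b i := by
  classical
  induction s using Finset.induction_on generalizing b with
  | empty =>
    have h1 : Function.Injective b := by_contra fun e => h (by simpa using hg.cf_eq_zero e)
    have := Nat.mul_le_mul_left p (h0.sum_le (q' := fun i => b i / p) fun i j e e' => h1 (by
      rw [← Nat.mod_add_div (b i) p, hb, e, e', ← hb, Nat.mod_add_div]))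
    rw [sum_mod_div p b]; simpa [hb] using this
  | insert a s ha ih =>
    rw [prod_insert ha, mul_assoc, cf_psum_mul] at h
    obtain ⟨i, -, hi⟩ := exists_ne_zero_of_sum_ne_zero h
    split_ifs at hi with e
    · have := ih (fun j hj => hk j (mem_insert_of_mem hj)) _ (fun j => by
        obtain ⟨c, hc⟩ := hk a (mem_insert_self _ _)
        by_cases e' : j = i
        · subst e'; rw [Function.update_self, hc, Nat.sub_mul_mod (hc ▸ e), hb]
        · simp [e', hb]) hi
      rw [sum_update_of_mem (mem_univ i), sdiff_singleton_eq_erase] at this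
      rw [sum_insert ha, ← add_sum_erase _ b (mem_univ i)]
      omega
    · exact absurd rfl hi

/-- the weight of a configuration -/
def Wt (p : ℕ) (S : Fin n → ℕ) (w : ℕ) : Prop := ∑ i, S i / p = ∑ i, rho (fun i => S i % p) (fun i => S i / p) i + w

theorem core_of_inj (p : ℕ) {S : Fin n → ℕ} (hS : Function.Injective S) :
    Core (fun i => S i % p) (rho (fun i => S i % p) fun i => S i / p) :=
  core_rho fun i j e e' => hS (by rw [← Nat.mod_add_div (S i) p, e, e', Nat.mod_add_div])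

theorem supp_le (hp : p.Prime) {S : Fin n → ℕ} (hS : Function.Injective S) (hw : Wt p S w) {g x : Perm (Fin n)}
    (h : XS S g ≠ 0) (hx : x ∈ Subgroup.zpowers g) {j : ℕ} (hj : orderOf x = p ^ j) : #x.support ≤ p * w := by
  have h1 := mn_bound (core_of_inj p hS) (g.cycleFactorsFinset.filter fun c => p ∣ #c.support) (fun c => #c.support)
    (fun c hc => (mem_filter.1 hc).2) (g := ((∏ c ∈ g.cycleFactorsFinset with ¬ p ∣ #c.support, psum _ ℤ #c.support) *
      psum _ ℤ 1 ^ (n - g.cycleType.sum)) * alt Fin.val) ((alt_alt _).mul fun τ => by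
      simp only [map_mul, map_prod, map_pow, rename_psum]) S (fun _ => rfl) (by
    rw [← mul_assoc, ← mul_assoc, prod_filter_mul_prod_filter_not, mul_comm]
    rw [XS, PP_cycleType, Fintype.card_fin] at h
    convert h
    rw [Perm.cycleType_def, Multiset.map_map]; rfl)
  rw [sum_mod_div p S, hw, mul_add] at h1
  refine ((card_le_card fun a ha => ?_).trans card_biUnion_le).trans
    (show ∑ c ∈ g.cycleFactorsFinset with p ∣ #c.support, #c.support ≤ _ by omega)
  have h2 : ∀ l : ℕ, (g ^ l) a = a → (x ^ l) a = a := fun l hl => by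
    obtain ⟨k, rfl⟩ := hx
    simp only
    rw [← zpow_natCast, ← zpow_mul, mul_comm, zpow_mul, zpow_natCast]
    exact Perm.zpow_apply_eq_self_of_apply_eq_self hl k
  have h3 : a ∈ g.support := Perm.mem_support.2 fun e => Perm.mem_support.1 ha (by simpa using h2 1 (by simpa using e))
  refine mem_biUnion.2 ⟨g.cycleOf a, mem_filter.2 ⟨Perm.cycleOf_mem_cycleFactorsFinset_iff.2 h3, by_contra fun e => ?_⟩,
    Perm.mem_support_cycleOf_iff.2 ⟨.rfl, h3⟩⟩
  refine Perm.mem_support.1 ha (mem_of_pow_mem' (H := MulAction.stabilizer _ a) (h2 #(g.cycleOf a).support ?_)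
    (hj ▸ ((hp.coprime_iff_not_dvd.2 e).symm.pow_right j)))
  rw [← Perm.pow_mod_card_support_cycleOf_self_apply, Nat.mod_self]; rfl

theorem Wt.congr {S T : Fin n → ℕ} {d w' : ℕ} (hp : 0 < p) (hS : S ∈ SS n d) (hT : T ∈ SS n d) (h : ct p S = ct p T)
    (h1 : Wt p S w) (h2 : Wt p T w') : w = w' := by
  obtain ⟨τ, hτ⟩ := exists_equiv_fib (fun i => S i % p) (fun i => T i % p) fun r => congrFun h r
  have a := core_of_inj p (mem_SS.1 hS).2.injective
  have b := core_of_inj p (mem_SS.1 hT).2.injective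
  have c := a.sum_le (q' := rho (fun i => T i % p) (fun i => T i / p) ∘ τ) fun i j e e' =>
    τ.injective (b.1 _ _ (by simpa [hτ] using e) e')
  have c' := b.sum_le (q' := rho (fun i => S i % p) (fun i => S i / p) ∘ τ.symm) fun i j e e' =>
    τ.symm.injective (a.1 _ _ (by simpa [← hτ] using e) e')
  have e1 : ∑ i, T i % p = ∑ i, S i % p := by rw [← Equiv.sum_comp τ]; simp [hτ]
  have e2 := sum_mod_div p S
  rw [(mem_SS.1 hS).1, ← (mem_SS.1 hT).1, sum_mod_div p T, e1, add_right_inj, Nat.mul_right_inj hp.ne', h1, h2] at e2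
  simp only [Function.comp_apply] at c c'
  rw [Equiv.sum_comp τ (rho _ _)] at c
  rw [Equiv.sum_comp τ.symm (rho _ _)] at c'
  omega

theorem exists_conj_supp {A F : Finset (Fin n)} (h : #A ≤ #F) : ∃ g : Perm (Fin n), ∀ a ∈ A, g a ∈ F := by
  obtain ⟨F', h1, h2⟩ := exists_subset_card_eq h
  obtain ⟨g, hg⟩ := Perm.exists_map_finset_eq A F' h2.symm
  exact ⟨g, fun a ha => h1 (hg ▸ mem_map_of_mem _ ha)⟩

theorem exists_u [hp : Fact p.Prime] {F : Finset (Fin n)} (h : p * w ≤ #F) :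
    ∃ u : Perm (Fin n), u.cycleType = Multiset.replicate w p ∧ u ^ p = 1 ∧ #u.support = p * w ∧ u.support ⊆ F := by
  obtain ⟨u, hu⟩ := (Perm.exists_with_cycleType_iff (Fin n) (m := Multiset.replicate w p)).2
    ⟨by simpa [mul_comm] using h.trans (card_le_univ F), fun a ha => Multiset.eq_of_mem_replicate ha ▸ hp.1.two_le⟩
  have h1 : ∀ v : Perm (Fin n), v.cycleType = Multiset.replicate w p → #v.support = p * w := fun v hv => by
    rw [← Perm.sum_cycleType, hv]; simp [mul_comm]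
  obtain ⟨g, hg⟩ := exists_conj_supp ((h1 u hu).trans_le h)
  have h2 := (Perm.cycleType_conj (σ := u) (τ := g)).trans hu
  refine ⟨_, h2, Perm.pow_prime_eq_one_iff.2 fun c hc => Multiset.eq_of_mem_replicate (h2 ▸ hc), h1 _ h2, fun a ha => ?_⟩
  rw [Perm.support_conj] at ha
  obtain ⟨b, hb, rfl⟩ := mem_map.1 ha
  exact hg b hb

theorem exists_Q {u : Perm (Fin n)} (hu : u ^ p = 1) : ∃ Q : Subgroup (Perm (Fin n)), IsPGroup p Q ∧
    Q ≤ Subgroup.centralizer {u} ∧ (Q.subgroupOf (Subgroup.centralizer {u})).Normal ∧ ∀ a, u.cycleOf a ∈ Q := by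
  let Q : Subgroup (Perm (Fin n)) :=
    { carrier := {q | Commute q u ∧ ∀ x, ∃ k : ℤ, q x = (u ^ k) x}
      mul_mem' := fun {a b} ha hb => ⟨ha.1.mul_left hb.1, fun x => by
        obtain ⟨k, hk⟩ := hb.2 x
        obtain ⟨l, hl⟩ := ha.2 ((u ^ k) x)
        exact ⟨l + k, by simp [hk, hl, zpow_add]⟩⟩
      one_mem' := ⟨Commute.one_left _, fun x => ⟨0, rfl⟩⟩
      inv_mem' := fun {a} ha => ⟨ha.1.inv_left, fun x => by
        obtain ⟨k, hk⟩ := ha.2 (a⁻¹ x)
        exact ⟨-k, by simpa [Equiv.eq_symm_apply] using hk.symm⟩⟩ }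
  have hQ : ∀ a ∈ Q, ∀ (k : ℤ) x, a ((u ^ k) x) = (u ^ k) (a x) := fun a ha k x => congrArg (· x) (ha.1.zpow_right k).eq
  refine ⟨Q, fun ⟨a, ha⟩ => ⟨1, Subtype.ext ?_⟩, fun a ha => Subgroup.mem_centralizer_singleton_iff.2 ha.1,
    ⟨fun a ha g => ?_⟩, fun a => ⟨?_, fun x => ?_⟩⟩
  · ext1 x
    obtain ⟨k, hk⟩ := ha.2 x
    have : ∀ l : ℕ, (a ^ l) x = ((u ^ k) ^ l) x := fun l => by
      induction l with
      | zero => rfl
      | succ l ih => rw [pow_succ, Perm.mul_apply, hk, hQ _ (pow_mem ha l), ih, pow_succ', Perm.mul_apply]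
    rw [pow_one, Subgroup.coe_pow, this, ← zpow_natCast, ← zpow_mul, mul_comm, zpow_mul, zpow_natCast, hu, one_zpow]; rfl
  · have hg : Commute g.1 u := Subgroup.mem_centralizer_singleton_iff.1 g.2
    refine ⟨(hg.mul_left ha.1).mul_left hg.inv_left, fun x => ?_⟩
    obtain ⟨k, hk⟩ := ha.2 (g.1⁻¹ x)
    exact ⟨k, (congrArg g.1 hk).trans (by simpa using congrArg (· (g.1⁻¹ x)) (hg.zpow_right k).eq)⟩
  · ext x
    by_cases e : u.SameCycle a x <;> simp [Perm.cycleOf_apply, e]
  · by_cases e : u.SameCycle a x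
    exacts [⟨1, by simp [Perm.cycleOf_apply, e]⟩, ⟨0, by simp [Perm.cycleOf_apply, e]⟩]

theorem fix_of_commute (hp : p.Prime) {u y : Perm (Fin n)} (hu : u ^ p = 1) (hy : ¬ p ∣ orderOf y) {a : Fin n}
    (ha : a ∈ u.support) (h : Commute y (u.cycleOf a)) : y a = a := by
  have h1 : y a ∈ (u.cycleOf a).support := Perm.mem_support.2 fun e => Perm.mem_support.1 ha (y.injective (by
    rw [← u.cycleOf_apply_self, ← Perm.mul_apply, h.eq, Perm.mul_apply, e]))
  obtain ⟨k, hk⟩ := (Perm.mem_support_cycleOf_iff.1 h1).1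
  rw [← Perm.cycleOf_zpow_apply_self] at hk
  have : ∀ l : ℕ, (y ^ l) a = ((u.cycleOf a ^ k) ^ l) a := fun l => by
    induction l with
    | zero => rfl
    | succ l ih => rw [pow_succ', Perm.mul_apply, ih, ← Perm.mul_apply, ((h.zpow_right k).pow_right l).eq, Perm.mul_apply,
        ← hk, pow_succ, Perm.mul_apply]
  refine mem_of_pow_mem' (H := MulAction.stabilizer _ a) ((this p).trans ?_) (hp.coprime_iff_not_dvd.2 hy)
  rw [← zpow_natCast, ← zpow_mul, mul_comm, zpow_mul, zpow_natCast]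
  exact Perm.zpow_apply_eq_self_of_apply_eq_self (by rw [Perm.cycleOf_pow_apply_self, hu]; rfl) k

variable {M : Ideal AlgInt} {B : Set (IrrCharacter (Perm (Fin n)))}

theorem exists_wt [hp : Fact p.Prime] {S : Fin n → ℕ} (hS : S ∈ SS n (n + ∑ i : Fin n, i.val)) : ∃ w, Wt p S w ∧ p * w ≤ n ∧
    ∀ u : Perm (Fin n), u.cycleType = Multiset.replicate w p → chi n S u ≠ 0 := by
  obtain ⟨w, m, h1, h2, h3⟩ := XS_ne_zero (Ω := Fin n) hp.1.pos (mem_SS.1 hS).2.injective (mem_SS.1 hS).1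
  refine ⟨w, h2, by omega, fun u hu => ?_⟩
  simpa [chi] using h3 u (by rw [PP_cycleType, hu]; simp [h1, mul_comm])

theorem defect_struct [hp : Fact p.Prime] (hM : IsPModular p M) (hB : IsPBlock M B) {D : Subgroup (Perm (Fin n))}
    (hD : IsDefectGroup p M B D) {χ : IrrCharacter (Perm (Fin n))} (hχ : χ ∈ B) (h0 : blockHeight p B χ.1 = 0)
    {S : Fin n → ℕ} (hS : S ∈ SS n (n + ∑ i : Fin n, i.val)) (e : χ.1 = chi n S) (hw : Wt p S w) (hn : p * w ≤ n)
    (hu : ∀ u : Perm (Fin n), u.cycleType = Multiset.replicate w p → chi n S u ≠ 0) :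
    (∃ f < p * (w + 1), Nat.card D ∣ f.factorial) ∧ ∀ (R : Subgroup (Perm (Fin n))) (A : Finset (Fin n)), IsPGroup p R →
      #A ≤ p * w → (∀ r ∈ R, r.support ⊆ A) → SubConj R D := by
  classical
  have := hM.2.1
  obtain ⟨y, hy, hS'⟩ := isDefectGroup_iff.1 hD
  have hy' := hy.not_dvd hM hB
  have hc : ∀ x : Perm (Fin n), x.support ⊆ y.supportᶜ → Commute x y := fun x hx =>
    (Perm.disjoint_iff_disjoint_support.2 (disjoint_left.2 fun a ha => mem_compl.1 (hx ha))).commute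
  have h1 : p * w ≤ #y.supportᶜ := by
    obtain ⟨u, u1, u2, u3, -⟩ := exists_u (F := univ) (p := p) (w := w) (by simpa using hn)
    obtain ⟨Q, q1, q2, q3, q4⟩ := exists_Q u2
    obtain ⟨t, ht⟩ := subConj_of_apply hM hB hD hχ ((Nat.dvd_prime_pow hp.1).1
      (orderOf_dvd_of_pow_eq_one ((pow_one p).symm ▸ u2)) |>.imp fun _ h => h.2) (e ▸ hu u u1) q1 q2
    rw [← u3, card_compl, ← Perm.card_support_conj (σ := t⁻¹) (τ := y), ← card_compl]
    refine card_le_card fun a ha => mem_compl.2 (Perm.notMem_support.2 (fix_of_commute hp.1 u2 ?_ ha ?_))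
    · rwa [show orderOf (t⁻¹ * y * t⁻¹⁻¹) = orderOf y from (MulAut.conj t⁻¹).orderOf_eq y]
    · have := Subgroup.mem_centralizer_singleton_iff.1 (hS'.le (ht (show t * u.cycleOf a * t⁻¹ ∈ cj t Q from
        mem_cj.2 (by simpa [mul_assoc] using q4 a))))
      exact (MulAut.conj t).injective (by simpa [mul_assoc] using this.symm)
  have h2 : ∀ x : Perm (Fin n), (∃ k, x ^ p ^ k = 1) → Commute x y → #x.support ≤ p * w := fun x ⟨k, hk⟩ hxy => by
    obtain ⟨j, -, hj⟩ := (Nat.dvd_prime_pow hp.1).1 (orderOf_dvd_of_pow_eq_one hk)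
    have h3 := not_ideal_apply_mul_defectClass hM hB hy ⟨j, hj⟩ hxy hχ h0
    refine supp_le hp.1 (mem_SS.1 hS).2.injective hw (g := x * y) (fun h => h3 (by rw [e, chi, h]; simpa using ideal_zero))
      (mem_of_pow_mem' (k := orderOf y) ?_ (hj ▸ ((hp.1.coprime_iff_not_dvd.2 hy').symm.pow_right j))) hj
    exact ⟨orderOf y, by simp [hxy.mul_pow]⟩
  refine ⟨⟨#y.supportᶜ, by_contra fun h => ?_, ?_⟩, fun R A hR hA h => ?_⟩
  · obtain ⟨u, -, u2, u3, u4⟩ := exists_u (not_lt.1 h)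
    have := h2 u ⟨1, by simpa using u2⟩ (hc u u4)
    have := hp.1.pos
    rw [u3, mul_add] at *; omega
  · obtain ⟨u, -, u2, u3, u4⟩ := exists_u h1
    rw [← Fintype.card_coe, ← Fintype.card_perm, ← Nat.card_eq_fintype_card]
    refine (Subgroup.card_dvd_of_le (K := (Perm.ofSubtype (p := (· ∈ y.supportᶜ))).range) fun x hx => ?_).trans
      (Subgroup.card_range_dvd _)
    have hxy : Commute x y := Subgroup.mem_centralizer_singleton_iff.1 (hS'.le hx)
    have h3 : ∀ a, x a ∈ y.support ↔ a ∈ y.support := fun a => by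
      rw [Perm.mem_support, Perm.mem_support, ← Perm.mul_apply, ← hxy.eq, Perm.mul_apply, x.injective.ne_iff]
    refine ⟨x.subtypePerm fun a => by simp only [mem_compl, h3], Perm.ofSubtype_subtypePerm _ fun a ha => mem_compl.2 fun h => ?_⟩
    let z := Perm.ofSubtype (x.subtypePerm h3)
    have z1 : Perm.Disjoint u z := fun b => by
      by_cases hb : b ∈ y.support
      · exact .inl (Perm.notMem_support.1 fun h => mem_compl.1 (u4 h) hb)
      · exact .inr (Perm.ofSubtype_subtypePerm_of_not_mem h3 hb)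
    obtain ⟨k, hk⟩ := hS'.isPGroup ⟨x, hx⟩
    have z2 := h2 (u * z) ⟨k + 1, by
      rw [z1.commute.mul_pow, pow_succ', pow_mul, u2, one_pow, one_mul, mul_comm, pow_mul, ← map_pow, Perm.subtypePerm_pow]
      simp only [show x ^ p ^ k = 1 from congrArg Subtype.val hk]
      rw [Perm.subtypePerm_one, map_one, one_pow]⟩ ((hc u u4).mul_left (Perm.ext fun b => by
        by_cases hb : b ∈ y.support
        · simp only [z, Perm.mul_apply, Perm.ofSubtype_subtypePerm_of_mem h3 hb,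
            Perm.ofSubtype_subtypePerm_of_mem h3 (Perm.apply_mem_support.2 hb)]
          exact congrArg (· b) hxy.eq
        · simp only [z, Perm.mul_apply, Perm.notMem_support.1 hb, Perm.ofSubtype_subtypePerm_of_not_mem h3 hb]))
    rw [z1.card_support_mul, u3, add_le_iff_nonpos_right, nonpos_iff_eq_zero, card_eq_zero] at z2
    exact notMem_empty a (z2 ▸ Perm.mem_support.2 (by rwa [Perm.ofSubtype_subtypePerm_of_mem h3 h]))
  · obtain ⟨g, hg⟩ := exists_conj_supp (hA.trans h1)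
    refine SubConj.trans ⟨g, le_rfl⟩ (hS'.subConj (hR.map _) ?_)
    rintro _ ⟨r, hr, rfl⟩
    refine Subgroup.mem_centralizer_singleton_iff.2 (hc _ fun a ha => ?_)
    obtain ⟨b, hb, rfl⟩ := mem_map.1 ((Perm.support_conj (σ := g) (τ := r)).le ha)
    exact hg b (h r hr hb)

theorem exists_model {A : Type} [AddCommGroup A] [Fintype A] [DecidableEq A] (h1 : ∀ a : A, p • a = 0)
    (h2 : ∀ a : A, Perm.sign (Equiv.addRight a) = 1) {k : ℕ} (h : k * Fintype.card A ≤ n) :
    ∃ (R : Subgroup (Perm (Fin n))) (F : Finset (Fin n)), R ≤ alternatingGroup (Fin n) ∧ (∀ a ∈ R, a ^ p = 1) ∧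
      (∀ a ∈ R, ∀ b ∈ R, a * b = b * a) ∧ Nat.card R = Fintype.card A ^ k ∧ #F = k * Fintype.card A ∧
      ∀ r ∈ R, r.support ⊆ F := by
  obtain ⟨m, hm⟩ := Nat.exists_eq_add_of_le h
  let θ : Multiplicative (Fin k → A) →* Perm (Fin k × A ⊕ Fin m) := MonoidHom.mk'
    (fun a => sumCongr (prodCongrRight fun j => Equiv.addRight (a.toAdd j)) 1) fun a b => by
      ext (⟨j, y⟩ | x) <;> simp [add_assoc, add_comm, add_left_comm]
  have hθ : ∀ a j y, θ a (.inl (j, y)) = .inl (j, y + a.toAdd j) := fun _ _ _ => rfl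
  have hθ' : ∀ a y, θ a (.inr y) = .inr y := fun _ _ => rfl
  let e : Fin k × A ⊕ Fin m ≃ Fin n := Fintype.equivFinOfCardEq (by simp [hm])
  let φ := e.permCongrHom.toMonoidHom.comp θ
  refine ⟨φ.range, univ.map ⟨e ∘ .inl, e.injective.comp Sum.inl_injective⟩, ?_, ?_, ?_, ?_, by simp, ?_⟩
  · rintro _ ⟨a, rfl⟩
    simp [φ, θ, Perm.sign_sumCongr, Perm.sign_prodCongrRight, h2]
  · rintro _ ⟨a, rfl⟩
    rw [← map_pow, ← map_one φ]; congr 1; ext; simp [h1]
  · rintro _ ⟨a, rfl⟩ _ ⟨b, rfl⟩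
    rw [← map_mul, mul_comm, map_mul]
  · rw [← Nat.card_congr (φ.ofInjective fun a b h => by
      ext j
      simpa [φ, hθ] using congrArg (fun q => q (e (.inl (j, 0)))) h).toEquiv]
    simp
  · rintro _ ⟨a, rfl⟩ x hx
    obtain ⟨x | x, rfl⟩ := e.surjective x
    · exact mem_map.2 ⟨x, mem_univ _, rfl⟩
    · simp [φ, hθ'] at hx

end H21.An
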