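import Mathlib
import Cfsg.Agent.H21.IBr

/-!
Blocks with cyclic defect group, the algebra of the centraliser of the subgroup of order `p`
(namespace H21).
* `KC C` (the subalgebra `k C` of `k G`), `orbit_sum_mem`, `mul_eq_zero_of_fix`.
* `CD0` : the data (`f` block of `C(Z)`, `i` primitive idempotent, `i kC i = k[t] i`);
  `CD0.ker`, `CD0.cj_t`, `CD0.exists_y` (a unit of degree `g`).
-/

set_option autoImplicit false
set_option linter.unusedSectionVars false
set_option linter.unusedVariables false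

namespace H21
open H20 MonoidAlgebra Classical Polynomial

local notation:max "𝐂" Q:max => Subgroup.centralizer (SetLike.coe Q)
local notation:max "𝐍" Q:max => Subgroup.normalizer (SetLike.coe Q)
local notation:max "⟪" x "⟫" => Subgroup.zpowers x

variable {k : Type*} [Field k] {G : Type*} [Group G] [Finite G] {p : ℕ}

/-- the group algebra of a subgroup inside `k[G]` -/
noncomputable def KC (k : Type*) [Field k] (C : Subgroup G) : Subalgebra k k[G] := (inc C).range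

section KC
variable {C : Subgroup G} {x y : k[G]}

theorem mem_KC : x ∈ KC k C ↔ trunc C x = x :=
  ⟨by rintro ⟨a, rfl⟩; exact trunc_inc C a, fun h => ⟨res C x, (inc_res C x).trans h⟩⟩

theorem trunc_mem_KC (x : k[G]) : trunc C x ∈ KC k C := ⟨res C x, inc_res C x⟩

theorem single_mem_KC {c : G} (hc : c ∈ C) : single c (1 : k) ∈ KC k C :=
  ⟨single ⟨c, hc⟩ 1, inc_single C _ _⟩

theorem trunc_mul_KC (hx : x ∈ KC k C) (y : k[G]) : trunc C (x * y) = x * trunc C y := by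
  obtain ⟨a, rfl⟩ := hx
  simp only [← inc_res]
  exact (congrArg (inc C) (res_inc_mul C a y)).trans (map_mul _ _ _)

theorem trunc_mul_KC' (hx : x ∈ KC k C) (y : k[G]) : trunc C (y * x) = trunc C y * x := by
  obtain ⟨a, rfl⟩ := hx
  simp only [← inc_res]
  exact (congrArg (inc C) (res_mul_inc C a y)).trans (map_mul _ _ _)

theorem KC_induction {P : k[G] → Prop} (hx : x ∈ KC k C) (h1 : ∀ c ∈ C, P (single c 1))
    (h2 : ∀ a b, P a → P b → P (a + b)) (h3 : ∀ (r : k) a, P a → P (r • a)) : P x := by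
  obtain ⟨a, rfl⟩ := hx
  induction a using MonoidAlgebra.induction_on with
  | of g => exact (congrArg P (inc_single C g 1)).mpr (h1 g g.2)
  | add a b ha hb => exact (congrArg P (map_add (inc C) a b)).mpr (h2 _ _ ha hb)
  | smul r a ha => exact (congrArg P (map_smul (inc C) r a)).mpr (h3 _ _ ha)

theorem commute_KC (hx : x ∈ KC k C) (hy : CInv C y) : Commute x y :=
  KC_induction (P := fun x => Commute x y) hx (cInv_iff_commute.1 hy) (fun _ _ => Commute.add_left)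
    fun r _ h => h.smul_left r

theorem cjA_mem_KC (hx : x ∈ KC k C) {g : G} (hg : g ∈ 𝐍 C) : cjA g x ∈ KC k C := by
  rw [mem_KC] at hx ⊢
  conv_lhs => rw [← cj_of_mem_normalizer hg, trunc_cjA, hx]

theorem single_mul_eq (g : G) (x : k[G]) : single g 1 * x = cjA g x * single g 1 := by
  rw [cjA_eq, mul_assoc, single_mul_single, inv_mul_cancel, mul_one, ← one_def, mul_one]

theorem mul_single_eq (g : G) (x : k[G]) : x * single g 1 = single g 1 * cjA g⁻¹ x := by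
  rw [single_mul_eq, cjA_cjA_inv]

theorem mul_eq_zero_of_fix [Fact p.Prime] [CharP k p] {Z : Subgroup G} (hZ : IsPGroup p Z)
    (h1 : Z ≠ ⊥) (hx : ∀ z ∈ Z, x * single z 1 = x) (hy : ∀ z ∈ Z, single z 1 * y = y) :
    x * y = 0 := ext_coeff fun g => by
  haveI := Fintype.ofFinite G
  rw [coeff_mul_right, sum_eq_sum_fixedPoints hZ, coeff_zero']
  · refine Finset.sum_eq_zero fun h hh => absurd ((Subgroup.eq_bot_iff_forall Z).2 fun z hz => ?_) h1
    exact mul_eq_right.1 ((Finset.mem_filter.1 hh).2 ⟨z, hz⟩)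
  · intro z h
    conv_rhs => rw [← hx z z.2, ← hy _ (Z.inv_mem z.2)]
    simp [coeff_mul_single_apply, coeff_single_mul_apply, Subgroup.smul_def, mul_assoc]

end KC

theorem orbit_sum_mem {C Ω V : Type*} [Group C] [Fintype C] [Fintype Ω] [MulAction C Ω]
    [AddCommGroup V] [Module k V] [CharP k p] (N : Submodule k V) (A : Ω → V)
    (h1 : ∀ ω, ∑ c : C, A (c • ω) ∈ N)
    (h2 : ∀ ω, p ∣ Nat.card (MulAction.stabilizer C ω) → A ω = 0) : ∑ ω, A ω ∈ N := by
  rw [← Finset.sum_fiberwise (s := Finset.univ)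
    (g := fun ω => (Quotient.mk'' ω : MulAction.orbitRel.Quotient C Ω))]
  refine N.sum_mem fun q _ => ?_
  induction q using Quotient.inductionOn' with
  | h ω =>
  have hs : ∀ c : C, (Finset.univ.filter fun c' : C => c' • ω = c • ω).card =
      Nat.card (MulAction.stabilizer C ω) := fun c => by
    rw [← Fintype.card_subtype, ← Nat.card_eq_fintype_card]
    exact Nat.card_congr ((Equiv.mulLeft c⁻¹).subtypeEquiv fun c' => by
      simp [mul_smul, inv_smul_eq_iff])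
  by_cases hd : p ∣ Nat.card (MulAction.stabilizer C ω)
  · rw [Finset.sum_eq_zero fun x hx => ?_]
    · exact zero_mem _
    obtain ⟨c, rfl⟩ := Quotient.exact' (Finset.mem_filter.1 hx).2
    exact h2 _ (by
      rw [← Nat.card_congr (MulAction.stabilizerEquivStabilizer (g := c) rfl).toEquiv]; exact hd)
  · have e1 : ∑ c : C, A (c • ω) = (Nat.card (MulAction.stabilizer C ω) : k) •
        ∑ x with (Quotient.mk'' x : MulAction.orbitRel.Quotient C Ω) = Quotient.mk'' ω, A x := by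
      rw [← Finset.sum_fiberwise_of_maps_to (g := fun c : C => c • ω) (t := Finset.univ.filter fun x =>
        (Quotient.mk'' x : MulAction.orbitRel.Quotient C Ω) = Quotient.mk'' ω) fun c _ =>
          Finset.mem_filter.2 ⟨Finset.mem_univ _, Quotient.sound' ⟨c, rfl⟩⟩, Finset.smul_sum]
      refine Finset.sum_congr rfl fun x hx => ?_
      obtain ⟨c, rfl⟩ := Quotient.exact' (Finset.mem_filter.1 hx).2
      rw [Finset.sum_congr rfl (g := fun _ => A (c • ω)) fun c' hc' => by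
        rw [(Finset.mem_filter.1 hc').2], Finset.sum_const, hs, Nat.cast_smul_eq_nsmul]
    have e2 := N.smul_mem (Nat.card (MulAction.stabilizer C ω) : k)⁻¹ (h1 ω)
    rwa [e1, inv_smul_smul₀ ((CharP.cast_eq_zero_iff k p _).not.2 hd)] at e2

variable (p) in
/-- the data attached to the block `f` of `C(Z)` -/
structure CD0 (Z : Subgroup G) (g : G) (e m : ℕ) (ε f i t : k[G]) {ι : Type} [Fintype ι]
    (a b : ι → k[G]) : Prop where
  prime : p.Prime
  char : CharP k p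
  cardZ : Nat.card Z = p
  cen : Z ≤ 𝐂 Z
  fK : f ∈ KC k (𝐂 Z)
  iK : i ∈ KC k (𝐂 Z)
  tK : t ∈ KC k (𝐂 Z)
  aK : ∀ j, a j ∈ KC k (𝐂 Z)
  bK : ∀ j, b j ∈ KC k (𝐂 Z)
  fc : CInv (𝐂 Z) f
  tc : CInv (𝐂 Z) t
  ff : f * f = f
  ii : i * i = i
  fi : f * i = i
  ft : f * t = t
  sum : ∑ j, a j * b j = f
  ai : ∀ j, a j * i = a j
  ib : ∀ j, i * b j = b j
  loc : ∀ x ∈ KC k (𝐂 Z), ∃ q : k[X], i * x * i = aeval t q * i
  m0 : 0 < m
  tm : t ^ (m + 1) = 0
  tm' : t ^ m ≠ 0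
  gN : g ∈ 𝐍 Z
  gf : cjA g f = f
  ge : g ^ e ∈ 𝐂 Z
  gj : ∀ j, 0 < j → j < e → g ^ j ∉ 𝐂 Z
  e0 : (e : k) ≠ 0
  br : ∀ u ∈ 𝐂 Z, orderOf u = p → trunc (𝐂 ⟪u⟫) f ≠ 0 → u ∈ Z
  stab : ∀ x ∈ 𝐍 Z, f * cjA x f ≠ 0 → ∃ j < e, x⁻¹ * g ^ j ∈ 𝐂 Z
  εc : IsCen ε
  εε : ε * ε = ε
  εf : trunc (𝐂 Z) ε * f = f

variable {Z : Subgroup G} {g : G} {e m : ℕ} {ε f i t x y : k[G]} {ι : Type} [Fintype ι]
  {a b : ι → k[G]}

namespace CD0
variable (h : CD0 p Z g e m ε f i t a b)
include h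

theorem ct (hx : x ∈ KC k (𝐂 Z)) : Commute x t := commute_KC hx h.tc
theorem cf (hx : x ∈ KC k (𝐂 Z)) : Commute x f := commute_KC hx h.fc
theorem if' : i * f = i := (h.cf h.iK).eq.trans h.fi
theorem tf : t * f = t := (h.cf h.tK).eq.trans h.ft
theorem fa (j : ι) : f * a j = a j := by
  rw [← (h.cf (h.aK j)).eq, ← h.ai, mul_assoc, h.if']
theorem bf (j : ι) : b j * f = b j := by
  rw [(h.cf (h.bK j)).eq, ← h.ib, ← mul_assoc, h.fi]
theorem gC (j : ℤ) : g ^ j ∈ 𝐍 (𝐂 Z) :=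
  zpow_mem (normalizer_le_normalizer_centralizer Z h.gN) j
theorem gC1 : g ∈ 𝐍 (𝐂 Z) := by simpa using h.gC 1
theorem gC2 : g⁻¹ ∈ 𝐍 (𝐂 Z) := inv_mem h.gC1

theorem eq_sum (hx : CInv (𝐂 Z) x) (h1 : x * f = x) : x = ∑ j, a j * (x * i) * b j := by
  conv_lhs => rw [← h1, ← h.sum, Finset.mul_sum]
  refine Finset.sum_congr rfl fun j _ => ?_
  rw [← mul_assoc, ← (commute_KC (h.aK j) hx).eq]
  simp only [mul_assoc, h.ib]

theorem tm_i : t ^ m * i ≠ 0 := fun h0 => h.tm' (by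
  obtain ⟨n, rfl⟩ := Nat.exists_eq_add_of_lt h.m0
  rw [h.eq_sum (h.tc.pow _) (by rw [pow_succ, mul_assoc, h.tf])]
  simp only [h0, mul_zero, zero_mul, Finset.sum_const_zero])

theorem i_ne (r : k[G]) : i ≠ t * r := fun e => h.tm_i (by
  have e1 : i = t * trunc (𝐂 Z) r := by rw [← trunc_mul_KC h.tK, ← e, mem_KC.1 h.iK]
  rw [← pow_succ_of_idem h.ii m, e1, (h.ct (trunc_mem_KC r)).symm.mul_pow, h.tm, zero_mul, mul_zero])

theorem aeval_eq (q : k[X]) : aeval t q = q.coeff 0 • 1 + t * aeval t q.divX := by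
  conv_lhs => rw [← X_mul_divX_add q]
  rw [map_add, map_mul, aeval_X, aeval_C, Algebra.algebraMap_eq_smul_one, add_comm]

theorem aeval_mem (q : k[X]) : aeval t q ∈ KC k (𝐂 Z) :=
  Algebra.adjoin_singleton_eq_range_aeval k t ▸ Algebra.adjoin_le
    (Set.singleton_subset_iff.2 h.tK) <| ⟨_, rfl⟩

theorem poly_ker {q : k[X]} (h0 : t * (aeval t q * i) = 0) : ∃ s, aeval t q * i = t ^ m * s := by
  have key : ∀ r ≤ m, ∃ q' : k[X], aeval t q * i = t ^ r * (aeval t q' * i) := fun r hr => by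
    induction r with
    | zero => exact ⟨q, by simp⟩
    | succ r ih =>
      obtain ⟨q', e⟩ := ih (by omega)
      obtain ⟨s, rfl⟩ := Nat.exists_eq_add_of_le hr
      have e1 := congrArg (t ^ s * ·) h0
      simp only [e, h.aeval_eq q', add_mul, mul_add, smul_mul_assoc, mul_smul_comm, one_mul,
        ← mul_assoc, ← pow_succ, ← pow_add, mul_zero] at e1
      rw [show s + 1 + (r + 1) = r + 1 + s + 1 by omega, h.tm, zero_mul, zero_mul, add_zero,
        show s + 1 + r = r + 1 + s by omega, smul_eq_zero] at e1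
      refine ⟨q'.divX, ?_⟩
      rw [e, h.aeval_eq q', e1.resolve_right h.tm_i, zero_smul, zero_add, pow_succ, mul_assoc,
        mul_assoc]
  obtain ⟨q', e⟩ := key m le_rfl
  exact ⟨_, e⟩

theorem ker (hx : x ∈ KC k (𝐂 Z)) (h1 : f * x = x) (h2 : t * x = 0) : ∃ s, x = t ^ m * s := by
  have e1 : x = ∑ j, ∑ l, a j * (i * (b j * x * a l) * i) * b l := by
    conv_lhs => rw [← h1, ← h1, ← (h.cf hx).eq, ← h.sum, Finset.sum_mul, Finset.mul_sum]
    refine Finset.sum_congr rfl fun j _ => ?_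
    simp only [Finset.mul_sum, ← mul_assoc]
    refine Finset.sum_congr rfl fun l _ => ?_
    rw [h.ai, mul_assoc _ _ i, h.ai]
  have e2 : ∀ j l, ∃ s, i * (b j * x * a l) * i = t ^ m * s := fun j l => by
    obtain ⟨q, hq⟩ := h.loc _ (mul_mem (mul_mem (h.bK j) hx) (h.aK l))
    rw [hq]
    refine h.poly_ker ?_
    simp only [← hq, ← mul_assoc]
    rw [mul_assoc t, ← (h.ct (mul_mem h.iK (h.bK j))).eq, mul_assoc _ t, h2, mul_zero, zero_mul,
      zero_mul]
  choose s hs using e2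
  refine ⟨∑ j, ∑ l, a j * s j l * b l, ?_⟩
  rw [e1]
  simp only [hs]
  simp only [Finset.mul_sum, ← mul_assoc, ((h.ct (h.aK _)).pow_right m).eq]

theorem cj_t {x : G} (h1 : x ∈ 𝐍 (𝐂 Z)) (h2 : cjA x f = f) : ∃ c ∈ KC k (𝐂 Z), cjA x t = t * c := by
  have a1 : CInv (𝐂 Z) (cjA x t) := by
    have := h.tc.cjA x
    rwa [cj_of_mem_normalizer h1] at this
  obtain ⟨q, hq⟩ := h.loc _ (cjA_mem_KC h.tK h1)
  have a2 : cjA x t * i = aeval t q * i := by
    rw [← hq, (commute_KC h.iK a1).eq, mul_assoc, h.ii]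
  have a3 : q.coeff 0 = 0 := by
    have n1 : IsNilpotent (cjA x t * i) :=
      (commute_KC h.iK a1).symm.isNilpotent_mul_right ⟨m + 1, by rw [← map_pow, h.tm, map_zero]⟩
    have k2 : aeval t q.divX * i ∈ KC k (𝐂 Z) :=
      mul_mem (h.aeval_mem _) h.iK
    have n2 : IsNilpotent (t * (aeval t q.divX * i)) :=
      (h.ct k2).symm.isNilpotent_mul_right ⟨_, h.tm⟩
    have n3 := Commute.isNilpotent_sub ((commute_KC (mul_mem h.tK k2) a1).symm.mul_left
      ((h.ct h.iK).mul_right ((commute_aeval (h.ct h.iK) _).mul_right (Commute.refl i)))) n1 n2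
    rw [a2, h.aeval_eq q, add_mul, mul_assoc, add_sub_cancel_right, smul_mul_assoc, one_mul] at n3
    by_contra h0
    have n4 := n3.smul (q.coeff 0)⁻¹
    rw [inv_smul_smul₀ h0] at n4
    exact h.tm_i (by rw [IsIdempotentElem.eq_zero_of_isNilpotent h.ii n4, mul_zero])
  refine ⟨∑ j, a j * (aeval t q.divX * i) * b j, sum_mem fun j _ => mul_mem (mul_mem (h.aK j)
    (mul_mem (h.aeval_mem _) h.iK)) (h.bK j), ?_⟩
  rw [h.eq_sum a1 (by rw [← h2, ← map_mul, h.tf]), a2, h.aeval_eq q, a3, zero_smul, zero_add,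
    Finset.mul_sum]
  simp only [← mul_assoc, (h.ct (h.aK _)).eq]

theorem loc' (hx : x ∈ KC k (𝐂 Z)) (h1 : i * x = x) (h2 : x * i = x) :
    ∃ (c : k), ∃ r ∈ KC k (𝐂 Z), x = c • i + t * r := by
  obtain ⟨q, hq⟩ := h.loc x hx
  refine ⟨q.coeff 0, aeval t q.divX * i, mul_mem (h.aeval_mem _) h.iK, ?_⟩
  rw [h1, h2] at hq
  rw [hq, h.aeval_eq q, add_mul, smul_mul_assoc, one_mul, mul_assoc]

theorem gf' : cjA g⁻¹ f = f := by
  conv_lhs => rw [← h.gf, cjA_inv_cjA]

section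
variable (hy : ∃ c ∈ KC k (𝐂 Z), y = single g 1 * c)
include hy

theorem y_pow (j : ℕ) : ∃ c ∈ KC k (𝐂 Z), y ^ j = single (g ^ j) 1 * c := by
  obtain ⟨c, hc, rfl⟩ := hy
  induction j with
  | zero => exact ⟨1, one_mem _, by rw [pow_zero, pow_zero, mul_one, one_def]⟩
  | succ j ih =>
    obtain ⟨c', h1, h2⟩ := ih
    refine ⟨cjA g⁻¹ c' * c, mul_mem (cjA_mem_KC h1 h.gC2) hc, ?_⟩
    rw [pow_succ, h2, mul_assoc, ← mul_assoc c', mul_single_eq, ← mul_assoc, ← mul_assoc,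
      single_mul_single, one_mul, pow_succ, mul_assoc]

theorem y_t (n : ℕ) : ∃ r, y * t ^ n = t ^ n * r := by
  obtain ⟨c, hc, rfl⟩ := hy
  obtain ⟨c', h1, h2⟩ := h.cj_t h.gC1 h.gf
  exact ⟨c' ^ n * single g 1 * c, by
    rw [mul_assoc, ((h.ct hc).pow_right n).eq, ← mul_assoc, single_mul_eq g (t ^ n), map_pow, h2,
      (h.ct h1).symm.mul_pow]
    simp only [mul_assoc]⟩

theorem t_y : ∃ r, t * y = r * t := by
  obtain ⟨c, hc, rfl⟩ := hy
  obtain ⟨c', h1, h2⟩ := h.cj_t h.gC2 h.gf'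
  exact ⟨single g 1 * (c' * c), by
    rw [← mul_assoc, mul_single_eq, h2, mul_assoc, mul_assoc, mul_assoc,
      (h.ct (mul_mem h1 hc)).eq]⟩

theorem pow_t (j n : ℕ) : ∃ r, y ^ j * t ^ n = t ^ n * r := by
  obtain ⟨r, hr⟩ := h.y_t hy n
  refine ⟨r ^ j, ?_⟩
  induction j with
  | zero => simp
  | succ j ih => rw [pow_succ, mul_assoc, hr, ← mul_assoc, ih, pow_succ r, mul_assoc]

theorem t_pow (j : ℕ) : ∃ r, t * y ^ j = r * t := by
  obtain ⟨r, hr⟩ := h.t_y hy
  refine ⟨r ^ j, ?_⟩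
  induction j with
  | zero => simp
  | succ j ih => rw [pow_succ, ← mul_assoc, ih, mul_assoc, hr, pow_succ r, mul_assoc]

end

theorem e_pos : 0 < e := Nat.pos_of_ne_zero fun h0 => h.e0 (by rw [h0, Nat.cast_zero])

theorem exists_y : ∃ (y : k[G]) (κ : k), (∃ c ∈ KC k (𝐂 Z), y = single g 1 * c) ∧ i * y = y ∧
    y * i = y ∧ κ ≠ 0 ∧ ∃ r ∈ KC k (𝐂 Z), y ^ e = κ • i + t * r := by
  have hK : ∀ j, i * single g 1 * a j * (b j * single g⁻¹ 1 * i) ∈ KC k (𝐂 Z) := fun j => by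
    have := mul_mem (mul_mem h.iK (cjA_mem_KC (mul_mem (h.aK j) (h.bK j)) h.gC1)) h.iK
    rw [cjA_eq] at this
    simpa only [mul_assoc] using this
  choose c r hr hc using fun j => h.loc' (hK j) (by simp only [← mul_assoc, h.ii])
    (by simp only [mul_assoc, h.ii])
  have hs : ∑ j, i * single g 1 * a j * (b j * single g⁻¹ 1 * i) = i := by
    have : i * cjA g f * i = i := by rw [h.gf, h.if', h.ii]
    rw [cjA_eq, ← h.sum, Finset.mul_sum, Finset.sum_mul, Finset.mul_sum, Finset.sum_mul] at this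
    simpa only [mul_assoc] using this
  obtain ⟨j, hj⟩ : ∃ j, c j ≠ 0 := by
    by_contra h0
    push Not at h0
    refine h.i_ne (∑ j, r j) ?_
    conv_lhs => rw [← hs]
    simp only [hc, h0, zero_smul, zero_add, Finset.mul_sum]
  set y := i * single g 1 * a j with hy
  set y' := b j * single g⁻¹ 1 * i with hy'
  have y1 : ∃ c ∈ KC k (𝐂 Z), y = single g 1 * c :=
    ⟨cjA g⁻¹ i * a j, mul_mem (cjA_mem_KC h.iK h.gC2) (h.aK j), by rw [hy, mul_single_eq, mul_assoc]⟩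
  have y2 : i * y = y := by rw [hy, ← mul_assoc, ← mul_assoc, h.ii]
  have y3 : y * i = y := by rw [hy, mul_assoc, h.ai]
  have y4 : i * y' = y' := by rw [hy', ← mul_assoc, ← mul_assoc, h.ib]
  have y5 := hc j
  rw [← hy, ← hy'] at y5
  clear_value y y'
  obtain ⟨n, rfl⟩ := Nat.exists_eq_add_of_lt h.e_pos
  obtain ⟨c', c1, c2⟩ := h.y_pow y1 (0 + n + 1)
  obtain ⟨κ, s, s1, s2⟩ := h.loc' (c2 ▸ mul_mem (single_mem_KC h.ge) c1)
    (by rw [pow_succ', ← mul_assoc, y2]) (by rw [pow_succ, mul_assoc, y3])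
  refine ⟨y, κ, y1, y2, y3, fun h0 => ?_, s, s1, s2⟩
  have key : ∀ l, ∃ u, y ^ (l + 1) * y' ^ (l + 1) = c j ^ (l + 1) • i + t * u := fun l => by
    induction l with
    | zero => exact ⟨r j, by simpa using y5⟩
    | succ l ih =>
      obtain ⟨u, hu⟩ := ih
      obtain ⟨w, hw⟩ := h.pow_t y1 (l + 1) 1
      rw [pow_one] at hw
      refine ⟨c j • u + w * r j * y' ^ (l + 1), ?_⟩
      rw [pow_succ y, pow_succ' y', mul_assoc, ← mul_assoc y, y5, add_mul, mul_add, smul_mul_assoc,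
        pow_succ' y' l, ← mul_assoc i, y4, ← pow_succ', mul_smul_comm, hu, ← mul_assoc, ← mul_assoc,
        hw, smul_add, smul_smul, ← pow_succ', mul_add, mul_smul_comm]
      simp only [mul_assoc, add_assoc]
  obtain ⟨u, hu⟩ := key (0 + n)
  rw [s2, h0, zero_smul, zero_add, mul_assoc] at hu
  refine h.i_ne ((c j ^ (0 + n + 1))⁻¹ • (s * y' ^ (0 + n + 1) - u)) ?_
  rw [mul_smul_comm, mul_sub, hu, add_sub_cancel_right, inv_smul_smul₀ (pow_ne_zero _ hj)]

end CD0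

end H21
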