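import Mathlib
import Cfsg.Agent.H21.DadeA

/-!
Blocks with cyclic defect group: at least `e` simple modules (namespace H21).
* `CD` extends `CD0` by the unit `y`; `Sp` (the stable socle of a module contains an eigenvector);
  `CD.sp_ext`, `CD.sp_unique` (simple modules), `CD.exists_sp`, `CD0.le_card_ibr`.
-/

set_option autoImplicit false
set_option linter.unusedSectionVars false
set_option linter.unusedVariables false

namespace H21
open H20 MonoidAlgebra Classical Polynomial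

local notation:max "𝐂" Q:max => Subgroup.centralizer (SetLike.coe Q)
local notation:max "𝐍" Q:max => Subgroup.normalizer (SetLike.coe Q)
local notation:max "⟪" x "⟫" => Subgroup.zpowers x

variable {k : Type*} [Field k] {G : Type*} [Group G] [Finite G] {p : ℕ}

variable (p) in
/-- the data together with the unit `y` -/
structure CD (Z : Subgroup G) (g : G) (e m : ℕ) (ε f i t : k[G]) {ι : Type} [Fintype ι]
    (a b : ι → k[G]) (y : k[G]) (κ : k) : Prop extends CD0 p Z g e m ε f i t a b where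
  yc : ∃ c ∈ KC k (𝐂 Z), y = single g 1 * c
  iy : i * y = y
  yi : y * i = y
  κ0 : κ ≠ 0
  ye : ∃ r ∈ KC k (𝐂 Z), y ^ e = κ • i + t * r

/-- an eigenvector in the stable socle -/
def Sp (i t y : k[G]) (m : ℕ) (β : k) (V : Type*) [AddCommGroup V] [Module k V] [Module k[G] V] :
    Prop := ∃ w : V, i • w = w ∧ t • w = 0 ∧ y • w = β • w ∧ ∀ v : V, t ^ m • v ≠ w

/-- the eigenprojection -/
noncomputable def sB (y : k[G]) (e : ℕ) (β : k) : k[G] :=
  ∑ j ∈ Finset.range e, β⁻¹ ^ (j + 1) • y ^ (j + 1)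

variable {Z : Subgroup G} {g : G} {e m : ℕ} {ε f i t x y : k[G]} {ι : Type} [Fintype ι]
  {a b : ι → k[G]} {κ β β' : k}
  {V : Type*} [AddCommGroup V] [Module k V] [Module k[G] V] [IsScalarTower k k[G] V]

theorem pow_smul_eig {w : V} (h : y • w = β • w) (j : ℕ) : y ^ j • w = β ^ j • w := by
  induction j with
  | zero => simp
  | succ j ih => rw [pow_succ, mul_smul, h, smul_comm, ih, smul_smul, pow_succ']

theorem Sp.congr {W : Type*} [AddCommGroup W] [Module k W] [Module k[G] W] [IsScalarTower k k[G] W]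
    (φ : V ≃ₗ[k[G]] W) (h : Sp i t y m β V) : Sp i t y m β W := by
  obtain ⟨w, h1, h2, h3, h4⟩ := h
  refine ⟨φ w, by rw [← map_smul, h1], by rw [← map_smul, h2, map_zero],
    by rw [← map_smul, h3, LinearMapClass.map_smul_of_tower], fun v hv => h4 (φ.symm v) ?_⟩
  rw [← map_smul, hv, φ.symm_apply_apply]

namespace CD
variable (h : CD p Z g e m ε f i t a b y κ) (hβ : β ^ e = κ)
include h

section
include hβ
theorem β0 : β ≠ 0 := fun h0 => h.κ0 (by rw [← hβ, h0, zero_pow h.e_pos.ne'])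

theorem y_sB : ∃ r, y * sB y e β - β • sB y e β = r * t := by
  obtain ⟨r, h1, h2⟩ := h.ye
  refine ⟨κ⁻¹ • (y * r), ?_⟩
  have e1 : ∀ j, y * (β⁻¹ ^ (j + 1) • y ^ (j + 1)) - β • β⁻¹ ^ (j + 1) • y ^ (j + 1) =
      β⁻¹ ^ (j + 1) • y ^ (j + 1 + 1) - β⁻¹ ^ j • y ^ (j + 1) := fun j => by
    rw [mul_smul_comm, ← pow_succ', smul_smul, pow_succ' β⁻¹, mul_inv_cancel_left₀ (h.β0 hβ)]
  rw [sB, Finset.mul_sum, Finset.smul_sum, ← Finset.sum_sub_distrib]
  simp only [e1]
  rw [Finset.sum_range_sub (fun j => β⁻¹ ^ j • y ^ (j + 1)), inv_pow, hβ, pow_succ' y, h2, mul_add,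
    mul_smul_comm, h.yi, smul_add, inv_smul_smul₀ h.κ0, ← (h.ct h1).eq]
  simp [mul_assoc]

theorem sB_eig {w : V} (hw : y • w = β • w) : sB y e β • w = (e : k) • w := by
  rw [sB, Finset.sum_smul, Finset.sum_congr rfl (g := fun _ => w) fun j _ => by
    rw [smul_assoc, pow_smul_eig hw, smul_smul, ← mul_pow, inv_mul_cancel₀ (h.β0 hβ), one_pow,
      one_smul], Finset.sum_const, Finset.card_range, Nat.cast_smul_eq_nsmul]
end

theorem i_sB : i * sB y e β = sB y e β := by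
  simp only [sB, Finset.mul_sum, mul_smul_comm, pow_succ' y, ← mul_assoc, h.iy]

theorem t_sB : ∃ r, t * sB y e β = r * t := by
  choose r hr using h.t_pow h.yc
  exact ⟨∑ j ∈ Finset.range e, β⁻¹ ^ (j + 1) • r (j + 1), by
    simp only [sB, Finset.mul_sum, Finset.sum_mul, mul_smul_comm, smul_mul_assoc, hr]⟩

theorem sB_t : ∃ r, sB y e β * t ^ m = t ^ m * r := by
  choose r hr using fun j => h.pow_t h.yc j m
  exact ⟨∑ j ∈ Finset.range e, β⁻¹ ^ (j + 1) • r (j + 1), by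
    simp only [sB, Finset.mul_sum, Finset.sum_mul, mul_smul_comm, smul_mul_assoc, hr]⟩

include hβ in
theorem sp_ext (U : Submodule k[G] V) (hV : Sp i t y m β V) :
    Sp i t y m β U ∨ Sp i t y m β (V ⧸ U) := by
  obtain ⟨w, h1, h2, h3, h4⟩ := hV
  by_cases h5 : ∀ v : V ⧸ U, t ^ m • v ≠ U.mkQ w
  · exact Or.inr ⟨U.mkQ w, by rw [← map_smul, h1], by rw [← map_smul, h2, map_zero],
      by rw [← map_smul, h3, LinearMapClass.map_smul_of_tower], h5⟩
  push Not at h5
  obtain ⟨v, hv⟩ := h5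
  obtain ⟨v, rfl⟩ := U.mkQ_surjective v
  rw [← map_smul, eq_comm, ← sub_eq_zero, ← map_sub, Submodule.mkQ_apply,
    Submodule.Quotient.mk_eq_zero] at hv
  have e1 : t • (w - t ^ m • v) = 0 := by
    rw [smul_sub, h2, smul_smul, ← pow_succ', h.tm, zero_smul, sub_self]
  obtain ⟨r1, s1⟩ := h.t_sB (β := β)
  obtain ⟨r2, s2⟩ := h.y_sB hβ
  obtain ⟨r3, s3⟩ := h.sB_t (β := β)
  refine Or.inl ⟨sB y e β • ⟨_, hv⟩, by rw [smul_smul, h.i_sB], Subtype.ext ?_, Subtype.ext ?_,
    fun u hu => h4 ((e : k)⁻¹ • (u + r3 • v)) ?_⟩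
  · simp only [Submodule.coe_smul, smul_smul, s1]
    rw [mul_smul, e1, smul_zero, Submodule.coe_zero]
  · simp only [Submodule.coe_smul, Submodule.coe_smul_of_tower]
    rw [← sub_eq_zero, smul_smul, ← smul_assoc, ← sub_smul, s2, mul_smul, e1, smul_zero]
  · have := congrArg Subtype.val hu
    simp only [Submodule.coe_smul] at this
    rw [smul_comm, smul_add, this, smul_sub, smul_smul, smul_smul, s3, sub_add_cancel,
      h.sB_eig hβ h3, inv_smul_smul₀ h.e0]

theorem isPGroup : IsPGroup p Z := IsPGroup.of_card (h.cardZ.trans (pow_one p).symm)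

theorem ne_bot : Z ≠ ⊥ := fun h0 => h.prime.one_lt.ne' (by rw [← h.cardZ, h0, Subgroup.card_bot])

theorem eq_zpowers {u : G} (hu : u ∈ Z) (h1 : u ≠ 1) : Z = ⟪u⟫ := by
  haveI := Fact.mk h.prime
  refine (Subgroup.eq_of_le_of_card_ge (Subgroup.zpowers_le.2 hu) ?_).symm
  rw [h.cardZ, Nat.card_zpowers, ← Subgroup.orderOf_mk u hu,
    orderOf_eq_prime (p := p) (by rw [← h.cardZ]; exact pow_card_eq_one') (by simpa using h1)]

theorem exists_conj {x : G} (h1 : x ∈ 𝐍 Z) (h2 : x ∉ 𝐂 Z) {z : G} (hz : z ∈ Z) :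
    ∃ z' ∈ Z, z' * x * z'⁻¹ = z * x := by
  let F : Z → Z := fun u => ⟨u * (x * (u : G)⁻¹ * x⁻¹),
    mul_mem u.2 ((Subgroup.mem_normalizer_iff.1 h1 _).1 (inv_mem u.2))⟩
  have hF : Function.Injective F := fun u v e => by
    by_contra hne
    have e1 : (u : G) * (x * (u : G)⁻¹ * x⁻¹) = v * (x * (v : G)⁻¹ * x⁻¹) := congrArg Subtype.val e
    have h3 : (v : G)⁻¹ * u ≠ 1 := fun e => hne (Subtype.ext (inv_mul_eq_one.1 e).symm)
    refine h2 fun w hw => ?_
    rw [h.eq_zpowers (mul_mem (inv_mem v.2) u.2) h3] at hw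
    obtain ⟨n, rfl⟩ := hw
    refine (Commute.zpow_left ?_ n).eq
    calc (v : G)⁻¹ * u * x = (v : G)⁻¹ * (u * (x * (u : G)⁻¹ * x⁻¹)) * x * u := by group
      _ = x * ((v : G)⁻¹ * u) := by rw [e1]; group
  obtain ⟨u, hu⟩ := Finite.surjective_of_injective hF ⟨z, hz⟩
  exact ⟨u, u.2, by rw [← show (u : G) * (x * (u : G)⁻¹ * x⁻¹) = z from congrArg Subtype.val hu]; group⟩

theorem fix_trunc {j : ℕ} (h1 : 0 < j) (h2 : j < e) {z : G} (hz : z ∈ Z) :
    single z 1 * trunc (𝐂 Z) (ε * y ^ j) = trunc (𝐂 Z) (ε * y ^ j) := by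
  obtain ⟨c, c1, c2⟩ := h.y_pow h.yc j
  rw [c2, ← mul_assoc, trunc_mul_KC' c1, ← mul_assoc]
  congr 1
  refine ext_coeff fun x => ?_
  rw [coeff_single_mul_apply, one_mul]
  by_cases hx : x ∈ 𝐂 Z
  · rw [coeff_trunc_of_mem _ hx, coeff_trunc_of_mem _ (mul_mem (inv_mem (h.cen hz)) hx),
      coeff_mul_single_apply, coeff_mul_single_apply]
    obtain ⟨z', -, e1⟩ := h.exists_conj (x := x * (g ^ j)⁻¹) (mul_mem
      (Subgroup.centralizer_le_normalizer _ hx) (inv_mem (pow_mem h.gN j)))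
      (fun hh => h.gj j h1 h2 (by simpa using mul_mem (inv_mem hh) hx)) (inv_mem hz)
    rw [mul_assoc, ← e1, h.εc.coeff_conj]
  · rw [coeff_trunc_of_notMem _ hx, coeff_trunc_of_notMem _ fun hh => hx (by
      simpa using mul_mem (h.cen hz) hh)]

include hβ in
theorem ε_sB (r r' : k[G]) : ε * sB y e β ≠ t * r + r' * t := fun e0 => by
  haveI := Fact.mk h.prime
  haveI := h.char
  obtain ⟨n, rfl⟩ := Nat.exists_eq_add_of_lt h.e_pos
  obtain ⟨s, s1, s2⟩ := h.ye
  set u := ∑ j ∈ Finset.range (0 + n), β⁻¹ ^ (j + 1) • trunc (𝐂 Z) (ε * y ^ (j + 1)) with hu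
  have u1 : u ∈ KC k (𝐂 Z) := sum_mem fun j _ => Subalgebra.smul_mem _ (trunc_mem_KC _) _
  have u2 : ∀ z ∈ Z, single z 1 * u = u := fun z hz => by
    rw [hu, Finset.mul_sum]
    exact Finset.sum_congr rfl fun j hj => by
      rw [mul_smul_comm, h.fix_trunc (by omega) (by have := Finset.mem_range.1 hj; omega) hz]
  have cz : ∀ z ∈ Z, ∀ x ∈ KC k (𝐂 Z), x * single z 1 = single z 1 * x := fun z hz x hx =>
    (commute_KC hx (cInv_iff_commute.2 fun c hc => by
      rw [Commute, SemiconjBy, single_mul_single, single_mul_single, hc z hz])).eq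
  have u3 : u * (i * u) = 0 := mul_eq_zero_of_fix h.isPGroup h.ne_bot
    (fun z hz => by rw [cz z hz u u1, u2 z hz]) fun z hz => by
      rw [← mul_assoc, ← cz z hz i h.iK, mul_assoc, u2 z hz]
  have e1 := congrArg (fun x => i * trunc (𝐂 Z) x * i) e0
  have e2 : i * trunc (𝐂 Z) ε = i := by
    conv_lhs => rw [← h.if', mul_assoc, ← (h.cf (trunc_mem_KC ε)).eq, h.εf, h.if']
  beta_reduce at e1
  rw [sB, Finset.sum_range_succ, mul_add ε, map_add, Finset.mul_sum, map_sum] at e1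
  simp only [mul_smul_comm _ ε, map_smul] at e1
  rw [← hu, inv_pow, hβ, s2, trunc_mul_KC' (add_mem (Subalgebra.smul_mem _ h.iK _) (mul_mem h.tK s1)),
    map_add, trunc_mul_KC h.tK, trunc_mul_KC' h.tK, (h.ct (trunc_mem_KC r')).eq, ← mul_add t,
    ← mul_assoc i t, (h.ct h.iK).eq, mul_add i, mul_smul_comm, ← mul_assoc i (trunc _ ε), e2, mul_add i,
    mul_smul_comm, h.ii, smul_add, inv_smul_smul₀ h.κ0, ← mul_assoc i t, (h.ct h.iK).eq, add_mul,
    add_mul, h.ii] at e1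
  refine h.i_ne ((i * (trunc (𝐂 Z) r + trunc (𝐂 Z) r') * i - κ⁻¹ • (i * s * i)) * (i - i * u * i)) ?_
  have e3 : t * (i * (trunc (𝐂 Z) r + trunc (𝐂 Z) r') * i - κ⁻¹ • (i * s * i)) = i + i * u * i := by
    rw [mul_sub, ← mul_assoc, ← mul_assoc, ← e1, mul_smul_comm, smul_mul_assoc]
    simp only [mul_assoc]; abel
  have e4 : i * u * i * (i * u * i) = 0 := by
    rw [mul_assoc _ i, ← mul_assoc i (i * u), ← mul_assoc i i, h.ii, ← mul_assoc, mul_assoc i u, u3,
      mul_zero, zero_mul]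
  rw [← mul_assoc, e3, add_mul, mul_sub, mul_sub, e4, h.ii, ← mul_assoc, ← mul_assoc, h.ii,
    mul_assoc _ i i, h.ii]
  abel

include hβ in
theorem exists_sp : ∃ L : Submodule k[G] k[G], (∀ v : k[G] ⧸ L, ε • v = v) ∧
    Sp i t y m β (k[G] ⧸ L) := by
  let L : Submodule k[G] k[G] :=
    (LinearMap.range (LinearMap.toSpanSingleton k[G] k[G] t)).comap
      (LinearMap.toSpanSingleton k[G] k[G] (ε * sB y e β))
  have hL : ∀ r, r ∈ L ↔ ∃ c, c * t = r * (ε * sB y e β) := fun r => Iff.rfl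
  obtain ⟨r1, s1⟩ := h.t_sB (β := β)
  obtain ⟨r2, s2⟩ := h.y_sB hβ
  obtain ⟨n, rfl⟩ := Nat.exists_eq_add_of_lt h.m0
  refine ⟨L, fun v => ?_, L.mkQ 1, ?_, ?_, ?_, fun v hv => ?_⟩
  · obtain ⟨v, rfl⟩ := L.mkQ_surjective v
    refine (Submodule.Quotient.eq L).2 ((hL _).2 ⟨0, ?_⟩)
    beta_reduce
    rw [smul_eq_mul, sub_mul, h.εc.comm v, mul_assoc, ← mul_assoc ε, h.εε, sub_self, zero_mul]
  · refine (Submodule.Quotient.eq L).2 ((hL _).2 ⟨0, ?_⟩)
    beta_reduce
    rw [smul_eq_mul, sub_mul, mul_one, one_mul, ← mul_assoc, ← h.εc.comm, mul_assoc, h.i_sB, sub_self,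
      zero_mul]
  · refine (Submodule.Quotient.mk_eq_zero L).2 ((hL _).2 ⟨ε * r1, ?_⟩)
    beta_reduce
    rw [smul_eq_mul, mul_one, ← mul_assoc, ← h.εc.comm, mul_assoc, mul_assoc, s1]
  · refine (Submodule.Quotient.eq L).2 ((hL _).2 ⟨ε * r2, ?_⟩)
    beta_reduce
    rw [smul_eq_mul, mul_one, sub_mul, ← mul_assoc, ← h.εc.comm, mul_assoc, mul_assoc, ← s2, mul_sub,
      smul_mul_assoc, one_mul, mul_smul_comm]
  · obtain ⟨v, rfl⟩ := L.mkQ_surjective v
    obtain ⟨c, hc⟩ := (hL _).1 ((Submodule.Quotient.eq L).1 hv)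
    beta_reduce at hc
    refine h.ε_sB hβ (t ^ (0 + n) * v * (ε * sB y e β)) (-c) ?_
    rw [neg_mul, hc, smul_eq_mul, sub_mul, one_mul, pow_succ']
    simp only [mul_assoc]; abel

/-- traces from the trivial subgroup map the socle into `t ^ m V` -/
theorem trace_mem [Module.Finite k V] [Fintype (𝐂 Z)] (θ : V →ₗ[k] V) {w : V} (h1 : f • w = w)
    (h2 : t • w = 0) : ∃ v : V, ∑ c : 𝐂 Z, single (c : G) (1 : k) •
      θ (single (c : G)⁻¹ (1 : k) • w) = t ^ m • v := by
  let B := Module.finBasis k V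
  let Ξ : (V →ₗ[k] k) → V → k[G] := fun l w =>
    ∑ c : 𝐂 Z, l (single (c : G)⁻¹ (1 : k) • w) • single (c : G) 1
  have a1 : ∀ l w, Ξ l w ∈ KC k (𝐂 Z) := fun l w =>
    sum_mem fun c _ => Subalgebra.smul_mem _ (single_mem_KC c.2) _
  have a2 : ∀ l, ∀ x ∈ KC k (𝐂 Z), x * Ξ l w = Ξ l (x • w) := fun l x hx => by
    refine KC_induction (P := fun x => x * Ξ l w = Ξ l (x • w)) hx (fun c hc => ?_)
      (fun x y h1 h2 => ?_) fun r x h1 => ?_
    · simp only [Ξ, Finset.mul_sum, mul_smul_comm, single_mul_single, smul_smul, mul_one]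
      exact Fintype.sum_equiv (Equiv.mulLeft ⟨c, hc⟩) _ _ fun d => by simp [mul_assoc]
    · rw [add_mul, h1, h2]
      simp only [Ξ, add_smul, smul_add, map_add, Finset.sum_add_distrib]
    · rw [smul_mul_assoc, h1]
      simp only [Ξ, smul_assoc, smul_comm _ r, map_smul, Finset.smul_sum]
  have a3 : ∀ l, ∃ s, Ξ l w = t ^ m * s := fun l =>
    h.ker (a1 l w) (by rw [a2 l f h.fK, h1]) (by rw [a2 l t h.tK, h2]; simp [Ξ])
  choose s hs using a3
  refine ⟨∑ n, s (B.coord n ∘ₗ θ) • B n, ?_⟩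
  simp only [Finset.smul_sum, smul_smul, ← hs, Ξ, Finset.sum_smul]
  rw [Finset.sum_comm]
  refine Finset.sum_congr rfl fun c _ => ?_
  conv_lhs => rw [← B.sum_repr (θ _), Finset.smul_sum]
  exact Finset.sum_congr rfl fun n _ => by rw [smul_comm, smul_assoc]; rfl

theorem exists_end {w : V} (h1 : i • w = w) (h2 : t • w = 0) (h4 : ∀ v : V, t ^ m • v ≠ w) :
    ∃ (φ : V →ₗ[k] V) (μ : V →ₗ[k] k), μ w ≠ 0 ∧ (∀ x ∈ KC k (𝐂 Z), ∀ v, φ (x • v) = x • φ v) ∧
      (∀ v, f • φ v = φ v) ∧ ∀ v, i • v = v → t • v = 0 → φ v = μ v • w := by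
  obtain ⟨r, ⟨v, hv⟩, hr⟩ : ∃ r, (∃ v : V, t ^ r • v = w) ∧ ¬ ∃ v : V, t ^ (r + 1) • v = w := by
    by_contra hc
    push Not at hc
    obtain ⟨v, hv⟩ : ∃ v : V, t ^ m • v = w :=
      Nat.rec (motive := fun r => ∃ v : V, t ^ r • v = w) ⟨w, by simp⟩ hc m
    exact h4 v hv
  let ρ := Algebra.lsmul k k V (A := k[G])
  obtain ⟨μ, m1, m2⟩ := Submodule.exists_le_ker_of_notMem (p := LinearMap.range (ρ (t ^ (r + 1)))) hr
  have m3 : ∀ u, μ (t ^ (r + 1) • u) = 0 := fun u => m2 ⟨u, rfl⟩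
  have v1 : t ^ r • i • v = w := by rw [smul_smul, ← ((h.ct h.iK).pow_right r).eq, mul_smul, hv, h1]
  let φ : Module.End k V :=
    ∑ s ∈ Finset.range (r + 1), (μ ∘ₗ ρ (t ^ s)).smulRight (t ^ (r - s) • i • v)
  have p0 : ∀ u, φ u = ∑ s ∈ Finset.range (r + 1), μ (t ^ s • u) • t ^ (r - s) • i • v := fun u => by
    simp only [φ, LinearMap.sum_apply]; rfl
  have p1 : Commute φ (ρ t) := LinearMap.ext fun u => by
    change φ (t • u) = t • φ u
    rw [p0, p0, Finset.smul_sum, Finset.sum_range_succ, Finset.sum_range_succ', smul_smul _ t,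
      ← pow_succ, m3, zero_smul, Nat.sub_zero, v1, smul_comm t, h2, smul_zero]
    refine congrArg (· + 0) (Finset.sum_congr rfl fun s hs => ?_)
    rw [smul_comm t, smul_smul t, smul_smul _ t, ← pow_succ, ← pow_succ']
    have := Finset.mem_range.1 hs
    rw [show r - (s + 1) + 1 = r - s by omega]
  have p2 : ∀ u, i • φ u = φ u := fun u => by
    rw [p0, Finset.smul_sum]
    exact Finset.sum_congr rfl fun s _ => by
      rw [smul_comm i, smul_smul i, ((h.ct h.iK).pow_right _).eq, mul_smul, smul_smul i, h.ii]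
  have p3 : ∀ x ∈ KC k (𝐂 Z), i * x * i = x → ∀ u, φ (x • u) = x • φ (i • u) := fun x hx e u => by
    obtain ⟨q, hq⟩ := h.loc x hx
    have := LinearMap.congr_fun (commute_aeval p1 q).eq (i • u)
    rw [aeval_algHom_apply] at this
    rw [← e, hq, mul_smul, mul_smul, p2]
    exact this
  refine ⟨∑ j, ρ (a j) * φ * ρ (b j), μ, m1, fun x hx u => ?_, fun u => ?_, fun u u1 u2 => ?_⟩
  all_goals simp only [LinearMap.sum_apply, Module.End.mul_apply, ρ, Algebra.lsmul_coe]
  · have e1 : ∀ j, b j • x • u = ∑ l, (b j * x * a l) • b l • u := fun j => by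
      simp only [smul_smul, mul_assoc, ← Finset.sum_smul, ← Finset.mul_sum, h.sum]
      rw [(h.cf hx).eq, ← mul_assoc, h.bf]
    simp only [e1, map_sum, Finset.smul_sum]
    rw [Finset.sum_comm]
    refine Finset.sum_congr rfl fun l _ => ?_
    rw [Finset.sum_congr rfl fun j _ => by
      rw [p3 _ (mul_mem (mul_mem (h.bK j) hx) (h.aK l)) (by
        rw [mul_assoc, mul_assoc, h.ai, ← mul_assoc, ← mul_assoc, h.ib]), smul_smul i, h.ib, smul_smul]]
    simp only [← Finset.sum_smul, ← mul_assoc, ← Finset.sum_mul, h.sum, smul_smul]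
    rw [← (h.cf hx).eq, mul_assoc, h.fa]
  · simp only [Finset.smul_sum, smul_smul, h.fa]
  · have e1 : φ u = μ u • w := by
      rw [p0, Finset.sum_range_succ', Finset.sum_eq_zero fun s _ => by
        rw [pow_succ, mul_smul, u2, smul_zero, map_zero, zero_smul]]
      simp [v1]
    rw [Finset.sum_congr rfl fun j _ => by
      rw [← u1, smul_smul (b j), p3 _ (mul_mem (h.bK j) h.iK) (by
        rw [← mul_assoc, h.ib, mul_assoc, h.ii]), u1, smul_smul]]
    simp only [← Finset.sum_smul, ← mul_assoc, ← Finset.sum_mul, h.sum, h.fi]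
    rw [p2, e1]

theorem coeff_eq_zero {x z u : G} (hx : ∀ j < e, x⁻¹ * g ^ j ∉ 𝐂 Z) (h1 : orderOf u = p)
    (h2 : u ∈ 𝐂 Z) (h3 : x⁻¹ * u * x ∈ 𝐂 Z) (h4 : u * z * u⁻¹ = z) : (f * cjA x f).coeff z = 0 := by
  haveI := Fact.mk h.prime
  haveI := h.char
  by_contra h0
  have hu : u ≠ 1 := fun e => h.prime.one_lt.ne (by rw [← h1, e, orderOf_one])
  have e1 : cj x ⟪x⁻¹ * u * x⟫ = ⟪u⟫ := by rw [cj_zpowers]; simp [mul_assoc]
  have c1 : CInv ⟪u⟫ f := h.fc.mono (Subgroup.zpowers_le.2 h2)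
  have c2 : CInv ⟪u⟫ (cjA x f) := e1 ▸ (h.fc.mono (Subgroup.zpowers_le.2 h3)).cjA x
  have hz : z ∈ 𝐂 ⟪u⟫ := by
    rintro _ ⟨n, rfl⟩
    exact (Commute.zpow_left (mul_inv_eq_iff_eq_mul.1 h4) n).eq
  rw [← coeff_trunc_of_mem _ hz, trunc_centralizer_mul (IsPGroup.of_card
    ((Nat.card_zpowers u).trans (h1.trans (pow_one p).symm))) c1 c2] at h0
  have d1 := h.br u h2 h1 fun e => h0 (by rw [e, zero_mul]; rfl)
  have d2 := h.br _ h3 (by rw [← h1, ← orderOf_conj' x]; simp [mul_assoc]) fun e => h0 (by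
    have : trunc (𝐂 ⟪u⟫) (cjA x f) = 0 := by rw [← e1, trunc_centralizer_cjA, e, map_zero]
    rw [this, mul_zero]; rfl)
  have d3 : cj x Z = Z := by
    conv_lhs => rw [h.eq_zpowers d2 (fun e => hu (by simpa [mul_assoc] using congrArg (fun y => x * y * x⁻¹) e)), e1,
      ← h.eq_zpowers d1 hu]
  obtain ⟨j, j1, j2⟩ := h.stab x (Subgroup.mem_normalizer_iff''.2 fun y => by
    conv_lhs => rw [← d3, mem_cj]) fun e => by
      rw [← trunc_centralizer_mul (IsPGroup.of_card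
        ((Nat.card_zpowers u).trans (h1.trans (pow_one p).symm))) c1 c2, e, map_zero] at h0
      exact h0 rfl
  exact hx j j1 j2

theorem sp_unique [IsAlgClosed k] [Module.Finite k V] [IsSimpleModule k[G] V] (hβ : β ^ e = κ)
    (hβ' : β' ^ e = κ) (h1 : Sp i t y m β V) (h2 : Sp i t y m β' V) : β = β' := by
  haveI := Fact.mk h.prime
  haveI := h.char
  haveI := Fintype.ofFinite G
  haveI := Fintype.ofFinite (𝐂 Z)
  haveI := Fintype.ofFinite (G ⧸ 𝐂 Z)
  obtain ⟨w₀, a1, a2, a3, a4⟩ := h1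
  obtain ⟨φ, μ, m1, p1, p2, p3⟩ := h.exists_end a1 a2 a4
  let F : G → V → V := fun x v => single x (1 : k) • φ (single x⁻¹ (1 : k) • v)
  have F1 : ∀ x c v, c ∈ 𝐂 Z → F (x * c) v = F x v := fun x c v hc => by
    simp only [F]
    rw [_root_.mul_inv_rev, ← mul_one (1 : k), ← single_mul_single, ← single_mul_single, mul_smul,
      mul_smul, p1 _ (single_mem_KC (inv_mem hc)), smul_smul (single c 1), single_mul_single,
      mul_inv_cancel, mul_one, ← one_def, one_smul]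
  have F2 : ∀ x v, F (QuotientGroup.mk x : G ⧸ 𝐂 Z).out v = F x v := fun x v => by
    obtain ⟨c, hc⟩ := QuotientGroup.mk_out_eq_mul (𝐂 Z) x
    rw [hc, F1 _ _ _ c.2]
  have F3 : ∀ (x : G) (q : G ⧸ 𝐂 Z) v, F (x • q).out v =
      single x (1 : k) • F q.out (single x⁻¹ (1 : k) • v) := fun x q v => by
    rw [← MulAction.Quotient.mk_smul_out, F2]
    simp only [F, smul_smul, single_mul_single, smul_eq_mul, _root_.mul_inv_rev, mul_one]
  have F4 : ∀ x v, cjA x f • F x v = F x v := fun x v => by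
    simp only [F]
    rw [smul_smul, ← single_mul_eq, mul_smul, p2]
  let Φ : V →ₗ[k[G]] V :=
    { toFun := fun v => ∑ q : G ⧸ 𝐂 Z, F q.out v
      map_add' := fun u v => by simp only [F, smul_add, map_add, Finset.sum_add_distrib]
      map_smul' := fun r v => by
        rw [RingHom.id_apply]
        induction r using MonoidAlgebra.induction_on with
        | of x =>
          rw [← Equiv.sum_comp (MulAction.toPerm x), Finset.smul_sum]
          refine Finset.sum_congr rfl fun q _ => ?_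
          rw [MulAction.toPerm_apply, F3, smul_smul (single x⁻¹ 1), of_apply, single_mul_single,
            inv_mul_cancel, mul_one, ← one_def, one_smul]
        | add x y hx hy =>
          simp only [add_smul, ← hx, ← hy]
          simp only [F, smul_add, map_add, Finset.sum_add_distrib]
        | smul c x hx =>
          rw [smul_assoc, smul_assoc, ← hx]
          simp only [F, smul_comm _ c, map_smul, Finset.smul_sum] }
  obtain ⟨l, hl⟩ := (IsSimpleModule.algebraMap_end_bijective_of_isAlgClosed k).2 Φ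
  let X : Finset (G ⧸ 𝐂 Z) := (Finset.range e).image fun j => QuotientGroup.mk (g ^ j)
  have X1 : ∀ x : G, (QuotientGroup.mk x : G ⧸ 𝐂 Z) ∈ X ↔ ∃ j < e, x⁻¹ * g ^ j ∈ 𝐂 Z := fun x => by
    simp only [X, Finset.mem_image, Finset.mem_range, ← QuotientGroup.eq, eq_comm]
  have X2 : ∀ (c : 𝐂 Z) (q : G ⧸ 𝐂 Z), q ∈ X → (c : G) • q = q := fun c q hq => by
    obtain ⟨j, -, rfl⟩ := Finset.mem_image.1 hq
    refine QuotientGroup.eq.2 ?_
    have := (Subgroup.mem_normalizer_iff''.1 (pow_mem h.gC1 j) _).1 (inv_mem c.2)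
    simpa [Subgroup.smul_def, mul_assoc] using this
  have X3 : ∀ (c : 𝐂 Z) (q : G ⧸ 𝐂 Z), (c : G) • q ∈ X ↔ q ∈ X := fun c q =>
    ⟨fun hq => by rwa [← X2 c⁻¹ _ hq, Subgroup.coe_inv, inv_smul_smul] at hq, fun hq => by rwa [X2 c q hq]⟩
  have key : ∀ (w : V) (γ : k), γ ≠ 0 → i • w = w → t • w = 0 → y • w = γ • w → ∃ v : V,
      l • w = (∑ j ∈ Finset.range e, (β / γ) ^ j) • μ w • w₀ + t ^ m • v := by
    intro w γ g0 w1 w2 w3
    have w4 : ∀ w : V, i • w = w → f • w = w := fun w w1 => by rw [← w1, smul_smul, h.fi]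
    have e1 : l • w = ∑ q : G ⧸ 𝐂 Z, f • F q.out w := by
      rw [← Finset.smul_sum, ← w4 w w1, smul_comm, w4 w w1]
      exact congrArg _ (LinearMap.congr_fun hl w)
    have e2 : ∑ q ∈ X, f • F q.out w = (∑ j ∈ Finset.range e, (β / γ) ^ j) • μ w • w₀ := by
      rw [Finset.sum_image, Finset.sum_smul]
      · refine Finset.sum_congr rfl fun j _ => ?_
        obtain ⟨c, c1, c2⟩ := h.y_pow h.yc j
        have := p1 c c1 w
        rw [p3 w w1 w2] at this
        have e3 : γ ^ j • F (g ^ j) w = β ^ j • μ w • w₀ := by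
          simp only [F]
          rw [← smul_comm, ← map_smul, ← smul_comm, ← pow_smul_eig w3, c2, smul_smul (single _⁻¹ 1),
            ← mul_assoc, single_mul_single, inv_mul_cancel, mul_one, ← one_def, one_mul, this,
            smul_smul, ← c2, smul_comm, pow_smul_eig a3, smul_comm]
        rw [F2, ← inv_smul_smul₀ (pow_ne_zero j g0) (F _ _), e3, smul_comm f, smul_comm f,
          smul_comm f, w4 _ a1, smul_smul, div_pow, div_eq_inv_mul]
      · have : ∀ j < e, ∀ l < j, (QuotientGroup.mk (g ^ l) : G ⧸ 𝐂 Z) ≠ QuotientGroup.mk (g ^ j) :=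
          fun j hj l hl e => h.gj (j - l) (by omega) (by omega) (by
            have := QuotientGroup.eq.1 e
            rwa [← Nat.add_sub_cancel' hl.le, pow_add, inv_mul_cancel_left] at this)
        intro j hj l hl e
        rcases lt_trichotomy j l with h1 | h1 | h1
        exacts [absurd e (this l (Finset.mem_range.1 hl) j h1), h1,
          absurd e.symm (this j (Finset.mem_range.1 hj) l h1)]
    let A : (G ⧸ 𝐂 Z) × G → V := fun ω => if ω.1 ∈ X then 0 else
      (f * cjA ω.1.out f).coeff ω.2 • single ω.2 (1 : k) • F ω.1.out w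
    letI inst : MulAction (𝐂 Z) ((G ⧸ 𝐂 Z) × G) :=
      { smul := fun c ω => ((c : G) • ω.1, c * ω.2 * (c : G)⁻¹)
        one_smul := fun ω => Prod.ext (one_smul G _) (by
          change ((1 : 𝐂 Z) : G) * ω.2 * ((1 : 𝐂 Z) : G)⁻¹ = _; simp)
        mul_smul := fun c d ω => Prod.ext (mul_smul (c : G) (d : G) _) (by
          change ((c * d : 𝐂 Z) : G) * ω.2 * ((c * d : 𝐂 Z) : G)⁻¹ =
            c * (d * ω.2 * (d : G)⁻¹) * (c : G)⁻¹
          simp [mul_assoc]) }
    have A1 : ∀ (c : 𝐂 Z) (ω : (G ⧸ 𝐂 Z) × G), @HSMul.hSMul _ _ _ (@instHSMul _ _ inst.toSMul) c ω =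
      ((c : G) • ω.1, c * ω.2 * (c : G)⁻¹) := fun _ _ => rfl
    have e3 := orbit_sum_mem (C := 𝐂 Z) (p := p)
      (LinearMap.range (Algebra.lsmul k k V (t ^ m))) A (fun ω => ?_) fun ω hω => ?_
    · obtain ⟨v, hv⟩ := e3
      refine ⟨v, ?_⟩
      rw [e1, ← Finset.sum_add_sum_compl X, e2]
      refine congrArg _ (Eq.trans ?_ hv.symm)
      rw [Fintype.sum_prod_type, ← Finset.sum_add_sum_compl X, Finset.sum_eq_zero (s := X)
        fun q hq => by simp [A, hq], zero_add]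
      refine Finset.sum_congr rfl fun q hq => ?_
      simp only [A, if_neg (Finset.mem_compl.1 hq), ← smul_assoc, ← Finset.sum_smul,
        ← eq_sum_single]
      rw [mul_smul, F4]
    · by_cases hω : ω.1 ∈ X
      · simp [A, A1, X3, hω]
      obtain ⟨v, hv⟩ := h.trace_mem ((f * cjA ω.1.out f).coeff ω.2 • Algebra.lsmul k k V
        (single ω.2 (1 : k) * single ω.1.out 1) ∘ₗ φ ∘ₗ
          Algebra.lsmul k k V (single ω.1.out⁻¹ (1 : k)))
        (w4 w w1) w2
      refine ⟨v, hv.symm.trans (Finset.sum_congr rfl fun c _ => ?_)⟩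
      have e4 : f * cjA ((c : G) • ω.1).out f = cjA (c : G) (f * cjA ω.1.out f) := by
        obtain ⟨d, hd⟩ := QuotientGroup.mk_out_eq_mul (𝐂 Z) ((c : G) • ω.1.out)
        rw [MulAction.Quotient.mk_smul_out] at hd
        rw [map_mul, h.fc.cjA_eq c.2, cjA_cjA, hd, ← cjA_cjA, h.fc.cjA_eq d.2]
        rfl
      simp only [A, A1, X3, if_neg hω, e4, coeff_cjA_conj]
      rw [F3]
      simp [F, smul_smul, single_mul_single, mul_assoc, smul_comm (single _ _ : k[G]) (_ : k)]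
    · by_cases hq : ω.1 ∈ X
      · simp [A, hq]
      obtain ⟨u, hu⟩ := exists_prime_orderOf_dvd_card' p hω
      have u1 := Prod.ext_iff.1 ((A1 _ _).symm.trans u.2)
      simp only [A, if_neg hq]
      rw [h.coeff_eq_zero (u := u) (fun j hj hh => hq (by
        rw [← ω.1.out_eq]; exact (X1 _).2 ⟨j, hj, hh⟩))
        (by rw [← hu, Subgroup.orderOf_coe, Subgroup.orderOf_coe]) u.1.2 ?_ u1.2, zero_smul]
      have : ((u : 𝐂 Z) : G) • ω.1 = ω.1 := u1.1
      rw [← ω.1.out_eq, MulAction.Quotient.smul_mk, eq_comm,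
        QuotientGroup.eq] at this
      simpa [mul_assoc] using this
  by_contra hne
  obtain ⟨w, b1, b2, b3, b4⟩ := h2
  obtain ⟨v, hv⟩ := key w₀ β (h.β0 hβ) a1 a2 a3
  obtain ⟨v', hv'⟩ := key w β' (h.β0 hβ') b1 b2 b3
  have e1 : ∑ j ∈ Finset.range e, (β / β') ^ j = 0 := by
    have := mul_geom_sum (β / β') e
    rw [div_pow, hβ, hβ', div_self h.κ0, sub_self, mul_eq_zero, sub_eq_zero,
      div_eq_one_iff_eq (h.β0 hβ')] at this
    exact this.resolve_left hne
  rw [e1, zero_smul, zero_add] at hv'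
  have l0 : l = 0 := by
    by_contra l0
    exact b4 (l⁻¹ • v') (by rw [smul_comm, ← hv', inv_smul_smul₀ l0])
  simp only [div_self (h.β0 hβ), one_pow, Finset.sum_const, Finset.card_range, nsmul_eq_mul, mul_one,
    l0, zero_smul, smul_smul] at hv
  refine a4 (-((e * μ w₀)⁻¹ • v)) ?_
  rw [smul_neg, smul_comm, ← neg_eq_iff_add_eq_zero.2 hv.symm, smul_neg, neg_neg,
    inv_smul_smul₀ (mul_ne_zero h.e0 m1)]

include hβ in
theorem exists_simple.{w} (n : ℕ) : ∀ (V : Type w) [AddCommGroup V] [Module k V] [Module k[G] V]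
    [IsScalarTower k k[G] V] [Module.Finite k V], Module.finrank k V = n → (∀ v : V, ε • v = v) →
    Sp i t y m β V → ∃ (W : Type w) (_ : AddCommGroup W) (_ : Module k W) (_ : Module k[G] W)
      (_ : IsScalarTower k k[G] W), IsSimpleModule k[G] W ∧ (∀ v : W, ε • v = v) ∧
        Sp i t y m β W := by
  induction n using Nat.strong_induction_on with
  | _ n ih =>
  intro V _ _ _ _ _ hn h1 h2
  by_cases hs : IsSimpleModule k[G] V
  · exact ⟨V, _, _, _, inferInstance, hs, h1, h2⟩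
  obtain ⟨U, u1, u2⟩ : ∃ U : Submodule k[G] V, U ≠ ⊥ ∧ U ≠ ⊤ := by
    by_contra hc
    push Not at hc
    haveI : Nontrivial V := by
      obtain ⟨w, -, -, -, hw⟩ := h2
      exact ⟨⟨_, _, hw 0⟩⟩
    exact hs { eq_bot_or_eq_top := fun U => or_iff_not_imp_left.2 (hc U) }
  have e1 := (U.restrictScalars k).finrank_quotient_add_finrank
  have e2 := Submodule.finrank_lt (s := U.restrictScalars k) (by simpa using u2)
  have e3 : Module.finrank k (U.restrictScalars k) ≠ 0 := by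
    rw [Ne, Submodule.finrank_eq_zero]; simpa using u1
  haveI : Module.Finite k U := inferInstanceAs (Module.Finite k (U.restrictScalars k))
  haveI : Module.Finite k (V ⧸ U) :=
    Module.Finite.equiv (Submodule.Quotient.restrictScalarsEquiv k U)
  rcases h.sp_ext hβ U h2 with h3 | h3
  · exact ih _ (hn ▸ e2) U rfl (fun v => Subtype.ext (h1 v)) h3
  · refine ih _ ?_ (V ⧸ U) rfl (fun v => ?_) h3
    · rw [← (Submodule.Quotient.restrictScalarsEquiv k U).finrank_eq]; omega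
    · obtain ⟨v, rfl⟩ := U.mkQ_surjective v
      rw [← map_smul, h1]

end CD

section count
open Cfsg H12.Ri Matrix
variable {M : Ideal AlgInt} [hMm : M.IsMaximal] {n : ℕ} {d : Fin n → ℕ}
  {π : (Res M)[G] →ₐ[Res M] Π i, Matrix (Fin (d i)) (Fin (d i)) (Res M)}

/-- the maximal left ideal attached to a primitive idempotent -/
noncomputable def mI (π : (Res M)[G] →ₐ[Res M] Π i, Matrix (Fin (d i)) (Fin (d i)) (Res M))
    (x : (Res M)[G]) : Submodule (Res M)[G] (Res M)[G] :=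
  Submodule.comap (LinearMap.toSpanSingleton _ _ x) (RingHom.ker π)

theorem wed_smul (h : Wed π) {V : Type*} [AddCommGroup V] [Module (Res M)[G] V]
    [IsSimpleModule (Res M)[G] V] {x : (Res M)[G]} (hx : π x = 0) (v : V) : x • v = 0 := by
  by_contra h0
  obtain ⟨r, hr⟩ := IsSimpleModule.toSpanSingleton_surjective (Res M)[G] h0 v
  rw [LinearMap.toSpanSingleton_apply, smul_smul] at hr
  obtain ⟨N, hN⟩ := h.nil (r * x) (by rw [map_mul, hx, mul_zero])
  have : ∀ l, (r * x) ^ l • v = v := fun l => by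
    induction l with
    | zero => simp
    | succ l ih => rw [pow_succ, mul_smul, hr, ih]
  exact h0 (by rw [← this N, hN, zero_smul, smul_zero])

theorem exists_equiv_mI (hM : IsPModular p M) (h : Wed π) {e : Fin n → (Res M)[G]}
    (he : ∀ β, Pm π β (e β)) (V : Type*) [AddCommGroup V] [Module (Res M)[G] V]
    [IsSimpleModule (Res M)[G] V] : ∃ γ, (∃ v : V, v ≠ 0 ∧ e γ • v = v) ∧
      Nonempty (V ≃ₗ[(Res M)[G]] (Res M)[G] ⧸ mI π (e γ)) := by
  haveI := IsSimpleModule.nontrivial (Res M)[G] V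
  obtain ⟨v₀, h0⟩ := exists_ne (0 : V)
  have : ∀ γ, ∃ f, f * f = f ∧ π f = Pi.single γ 1 := fun γ => by
    obtain ⟨r, hr⟩ := h.surj (Pi.single γ 1)
    obtain ⟨N, hN⟩ := exists_pow_idem hM r
    exact ⟨_, hN, by rw [map_pow, hr, pow_succ_of_idem (by rw [single_mul_single', mul_one])]⟩
  choose f f1 f2 using this
  choose a b s1 s2 s3 s4 using fun γ => exists_full hM h (he γ) (f1 γ) fun γ' hh => by
    rw [f2, Pi.single_eq_of_ne hh]
  obtain ⟨γ, j, hj⟩ : ∃ γ j, b γ j • v₀ ≠ 0 := by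
    by_contra hc
    push Not at hc
    have := wed_smul h (x := 1 - ∑ γ, f γ) (by
      rw [map_sub, map_sum, map_one]; simp only [f2]
      exact sub_eq_zero.2 (Finset.univ_sum_single (1 : Π i, Matrix (Fin (d i)) (Fin (d i)) (Res M))).symm) v₀
    simp only [← s1, sub_smul, Finset.sum_smul, mul_smul, hc, smul_zero, Finset.sum_const_zero,
      sub_zero, one_smul] at this
    exact h0 this
  have hv : e γ • b γ j • v₀ = b γ j • v₀ := by rw [smul_smul, s3]
  generalize b γ j • v₀ = v at hj hv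
  refine ⟨γ, ⟨v, hj, hv⟩, ⟨(LinearMap.quotKerEquivOfSurjective _
    (IsSimpleModule.toSpanSingleton_surjective (Res M)[G] hj)).symm.trans
      (Submodule.quotEquivOfEq _ _ (Submodule.ext fun r => ?_))⟩⟩
  change r • v = 0 ↔ π (r * e γ) = 0
  refine ⟨fun hr => ?_, fun hr => by rw [← hv, smul_smul, wed_smul h hr]⟩
  by_contra hc
  obtain ⟨v', w, hw, e1⟩ := (he γ).ex
  rw [map_mul, e1, mul_single', mul_vecMulVec] at hc
  obtain ⟨S, hS⟩ := exists_mulVec (v := π r γ *ᵥ v') (fun e => hc (by rw [e]; simp)) v'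
  obtain ⟨s, hs⟩ := h.surj (Pi.single γ S)
  have := wed_smul h (x := s * r * e γ - e γ) (by
    rw [map_sub, map_mul, map_mul, e1, hs, mul_assoc, mul_single', single_mul_single', mul_vecMulVec,
      mul_vecMulVec, hS, sub_self]) v
  rw [sub_smul, mul_smul, hv, mul_smul, hr, smul_zero, zero_sub, neg_eq_zero] at this
  exact hj this

theorem CD0.le_card_ibr (hM : IsPModular p M) (hw : Wed π) {B : Set (IrrCharacter G)}
    (hB : IsInt M (idem B)) {f i t : (Res M)[G]} {a b : ι → (Res M)[G]}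
    (h : CD0 p Z g e m (eB M B) f i t a b) : e ≤ (ibr π B).card := by
  obtain ⟨y, κ, y1, y2, y3, y4, y5⟩ := h.exists_y
  have h' : CD p Z g e m (eB M B) f i t a b y κ := ⟨h, y1, y2, y3, y4, y5⟩
  choose E hE using exists_pm hM hw
  have key : ∀ β : Res M, β ^ e = κ → ∃ γ ∈ ibr π B,
      IsSimpleModule (Res M)[G] ((Res M)[G] ⧸ mI π (E γ)) ∧
      Sp i t y m β ((Res M)[G] ⧸ mI π (E γ)) := fun β hβ => by
    obtain ⟨L, l1, l2⟩ := h'.exists_sp hβ
    haveI : Module.Finite (Res M) ((Res M)[G] ⧸ L) :=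
      Module.Finite.equiv (Submodule.Quotient.restrictScalarsEquiv (Res M) L)
    obtain ⟨W, _, _, _, _, w1, w2, w3⟩ := h'.exists_simple hβ _ _ rfl l1 l2
    obtain ⟨γ, ⟨v, v1, v2⟩, ⟨φ⟩⟩ := exists_equiv_mI hM hw hE W
    refine ⟨γ, (hE γ).mem_ibr hw hB fun e => v1 ?_, IsSimpleModule.congr φ.symm, w3.congr φ⟩
    rw [← w2 v, ← v2, smul_smul, e, zero_smul]
  choose γ g1 g2 g3 using key
  have hc : (nthRoots e κ).toFinset.card = e := by
    rw [nthRoots, Multiset.toFinset_card_of_nodup (nodup_roots (separable_X_pow_sub_C κ h.e0 y4)),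
      IsAlgClosed.card_roots_eq_natDegree, natDegree_X_pow_sub_C]
  have hm : ∀ β : (nthRoots e κ).toFinset, β.1 ^ e = κ := fun β =>
    (mem_nthRoots h.e_pos).1 (Multiset.mem_toFinset.1 β.2)
  rw [← hc]
  refine Finset.card_le_card_of_injective (f := fun β => ⟨γ β (hm β), g1 β (hm β)⟩) fun β β' e => ?_
  haveI := g2 β (hm β)
  haveI : Module.Finite (Res M) ((Res M)[G] ⧸ mI π (E (γ β (hm β)))) :=
    Module.Finite.equiv (Submodule.Quotient.restrictScalarsEquiv (Res M) _)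
  have e' : γ β (hm β) = γ β' (hm β') := congrArg Subtype.val e
  exact Subtype.ext (h'.sp_unique (hm β) (hm β') (g3 β (hm β)) (e' ▸ g3 β' (hm β')))

end count

end H21
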