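import Mathlib
import Cfsg.Agent.H21.DadeB
import Cfsg.Agent.H21.FrobB

/-!
Dade's theorem: a block with cyclic defect group has `e` Brauer characters (namespace H21).
* `Frb.exists_lin`, `Frb.source` (the basic algebra of a nilpotent block with abelian defect group
  is the group algebra of the defect group), `Mx.dade`.
-/

set_option autoImplicit false
set_option linter.unusedSectionVars false
set_option linter.unusedVariables false

namespace H21
open H05 Cfsg H20 MonoidAlgebra Classical H12.Ri Polynomial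
open scoped ComplexConjugate

local notation:max "𝐂" Q:max => Subgroup.centralizer (SetLike.coe Q)
local notation:max "𝐍" Q:max => Subgroup.normalizer (SetLike.coe Q)
local notation:max "⟪" x "⟫" => Subgroup.zpowers x

attribute [-instance] H19.instFintypeSubgroupFrob

variable {M : Ideal AlgInt} [hMm : M.IsMaximal] {G : Type*} [Group G] [Fintype G] {p : ℕ}
  {B : Set (IrrCharacter G)}

section source
variable {P : Type*} [Group P] [Fintype P] {E : Subgroup (MulAut P)} {D : IrrCharacter G → P → ℂ}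

omit hMm in
theorem irr_one_pos (χ : IrrCharacter G) : ∃ m : ℕ, 0 < m ∧ (χ : G → ℂ) 1 = m :=
  ⟨_, χ.2.charDegree_pos, χ.2.isCharacter.charDegree_eq.symm⟩

omit hMm in
theorem Frb.exists_lin (h : Frb M p B E D) (hE : Nat.card E = 1) :
    ∃ (δ : ℤ) (ζ : (P →* ℂˣ) → IrrCharacter G), (δ = 1 ∨ δ = -1) ∧ Function.Injective ζ ∧
      Finset.univ.image ζ = Finset.univ.filter (· ∈ B) ∧ (∀ l v, v ≠ 1 → D (ζ l) v = δ * l v) ∧
      ∀ l g, ¬ p ∣ orderOf g → (ζ l : G → ℂ) g = (ζ 1 : G → ℂ) g := by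
  obtain rfl : E = ⊥ := Subgroup.card_eq_one.1 hE
  have hl : blockRank p B = 1 := le_antisymm (hE ▸ h.rank_le) (by
    haveI := h.mod.2.1
    exact one_le_blockRank h.mod.1 h.blk.nonempty)
  obtain ⟨δ, a, ζ, F, ha⟩ := h.exists_full (hl.trans hE.symm)
  obtain ⟨χ, hχ⟩ := Finset.card_eq_one.1 ((F.card_X h).trans hl)
  have h1 : χ ∈ eX B ζ := hχ ▸ Finset.mem_singleton_self χ
  have h2 : ∀ l, l ≠ 1 → ∀ g, ¬ p ∣ orderOf g → δ * (ζ l : G → ℂ) g = a χ * (χ : G → ℂ) g :=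
    fun l hl g hg => by simpa [hχ] using F.reg_aux h (mem_eY.2 ⟨l, hl, rfl⟩) hg
  have h3 : a χ = δ := by
    obtain ⟨l, hl⟩ := h.exists_ne_one
    have := h2 l hl 1 (by simpa using h.mod.1.ne_one)
    obtain ⟨m, m1, m2⟩ := irr_one_pos χ
    obtain ⟨n, n1, n2⟩ := irr_one_pos (ζ l)
    rw [m2, n2] at this
    norm_cast at this
    rcases F.sign with e | e <;> rcases ha χ h1 with e' | e' <;> rw [e, e'] at this <;> omega
  have h4 : (δ : ℂ) ≠ 0 := by rcases F.sign with e | e <;> simp [e]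
  have h5 : ∀ l, l ≠ 1 → ζ l ≠ χ := fun l hl e => (mem_eX.1 h1).2 (mem_eY.2 ⟨l, hl, e⟩)
  refine ⟨δ, fun l => if l = 1 then χ else ζ l, F.sign, fun l l' e => ?_, ?_, fun l v hv => ?_,
    fun l g hg => ?_⟩
  · by_cases a1 : l = 1 <;> by_cases a2 : l' = 1 <;> simp only [a1, a2, if_true, if_false] at e ⊢
    · exact absurd e.symm (h5 l' a2)
    · exact absurd e (h5 l a1)
    · obtain ⟨α, h6, h7⟩ := (F.eq_iff l l' a1 a2).1 e
      rw [Subgroup.mem_bot.1 h6] at h7; exact h7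
  · ext ψ
    simp only [Finset.mem_image, Finset.mem_univ, true_and, Finset.mem_filter]
    constructor
    · rintro ⟨l, rfl⟩
      split_ifs with a1
      exacts [(mem_eX.1 h1).1, F.mem l a1]
    · intro hψ
      by_cases a1 : ψ ∈ eY ζ
      · obtain ⟨l, a2, a3⟩ := mem_eY.1 a1
        exact ⟨l, by rw [if_neg a2, a3]⟩
      · exact ⟨1, by rw [if_pos rfl]; exact (Finset.mem_singleton.1 (hχ ▸ mem_eX.2 ⟨hψ, a1⟩)).symm⟩
  · by_cases a1 : l = 1
    · simp [a1, F.apply_X h1 hv, h3]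
    · simp only [a1, if_false, F.exc l a1 v hv, osum, Fintype.sum_unique]
      rw [Subsingleton.elim (default : (⊥ : Subgroup (MulAut P))) 1]
      simp [H19.hf, dl_apply]
  · by_cases a1 : l = 1
    · rw [a1]
    · simp only [a1, if_false, if_true]
      exact mul_left_cancel₀ h4 (by rw [h2 l a1 g hg, h3])

variable {n : ℕ} {d : Fin n → ℕ}
  {π : (Res M)[G] →ₐ[Res M] Π i, Matrix (Fin (d i)) (Fin (d i)) (Res M)}
  {e : Fin n → (Res M)[G]} {φ : Fin n → G → ℂ} {β : Fin n}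

/-- if the characters of a block agree on `p`-regular elements the decomposition numbers are one -/
theorem IB.t1_eq_one (hi : IB p π e φ) (hB : IsInt M (idem B)) (hβ : β ∈ ibr π B)
    (h : ∀ χ ∈ B, ∀ ψ ∈ B, ∀ g, ¬ p ∣ orderOf g → (χ : G → ℂ) g = (ψ : G → ℂ) g)
    {χ : IrrCharacter G} (hχ : χ ∈ B) : t1 M (χ : G → ℂ) (e β) = 1 := by
  obtain ⟨z, hz, -⟩ := hi.exists_inv hB hβ
  obtain ⟨m, hm⟩ := exists_nat_t1 χ.2.isCharacter (hi.pm β).sq
  have := hz β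
  rw [if_pos rfl, Finset.sum_congr rfl (g := fun ψ => (z ψ : ℂ) * m) fun ψ hψ => by
    rw [← hm, hi.t1_congr ψ.2.isClassFunction χ.2.isClassFunction
      (h ψ (Finset.mem_filter.1 hψ).2 χ hχ)], ← Finset.sum_mul] at this
  rw [hm]
  norm_cast at this ⊢
  exact_mod_cast Int.eq_one_of_mul_eq_one_left (Nat.cast_nonneg m) this

theorem Frb.source (h : Frb M p B E D) (hE : Nat.card E = 1)
    (hd : Nat.card P = p ^ blockDefect p B) (hi : IB p π e φ) (hβ : β ∈ ibr π B) :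
    ∃ x : P → (Res M)[G], (∀ u, IsCen (x u)) ∧ x 1 = eB M B ∧ (∀ u v, x (u * v) = x u * x v) ∧
      LinearIndependent (Res M) (fun u => x u * e β) ∧
      Submodule.span (Res M) (Set.range fun u => x u * e β) = corner (e β) (e β) := by
  haveI := h.comm
  have hM := h.mod
  have hB := h.blk.isInt_idem
  obtain ⟨δ, ζ, z1, z2, z3, z4, z5⟩ := h.exists_lin hE
  have z6 : ∀ l, ζ l ∈ B := fun l => (Finset.mem_filter.1 (z3 ▸ Finset.mem_image_of_mem ζ
    (Finset.mem_univ l))).2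
  have z7 : ∀ χ ∈ B, ∃ l, ζ l = χ := fun χ hχ => by
    simpa using z3.ge (Finset.mem_filter.2 ⟨Finset.mem_univ _, hχ⟩)
  have z8 : ∀ F : IrrCharacter G → ℂ, (∀ χ, χ ∉ B → F χ = 0) → ∑ χ, F χ = ∑ l, F (ζ l) :=
    fun F hF => by
      rw [← Finset.sum_image fun l _ l' _ e => z2 e, z3]
      exact (Finset.sum_subset (Finset.subset_univ _) fun χ _ hχ => hF χ (by simpa using hχ)).symm
  have z9 : ∀ l, t1 M (ζ l : G → ℂ) (e β) = 1 := fun l => hi.t1_eq_one hB hβ (fun χ hχ ψ hψ g hg => by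
    obtain ⟨l, rfl⟩ := z7 χ hχ
    obtain ⟨l', rfl⟩ := z7 ψ hψ
    rw [z5 l g hg, z5 l' g hg]) (z6 l)
  have hp1 : ¬ p ∣ orderOf (1 : G) := by simpa using hM.1.ne_one
  have s1 : ∀ w : P, ∑ l : P →* ℂˣ, (l w : ℂ) = Nat.card P * if w = 1 then 1 else 0 := fun w => by
    split_ifs with hw
    · simp [hw, H19.card_dual]
    · rw [mul_zero]; exact H19.sum_dual hw
  obtain ⟨c, hc⟩ : ∃ c, c = (p : ℂ) ^ blockDefect p B * (ζ 1 : G → ℂ) 1 / Nat.card G := ⟨_, rfl⟩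
  have c0 : blockHeight p B (ζ 1 : G → ℂ) = 0 := by
    haveI := h.ntr
    obtain ⟨v, hv⟩ := exists_ne (1 : P)
    rw [h.ht _ (z6 1) v hv, z4 1 v hv]
    rcases z1 with e | e <;> simpa [e] using not_ideal_one
  have c1 := nu_add_defect (p := p) (z6 1)
  have c2 : MemLocalRing M c := hc ▸ (ring_pow_mul_deg_div_iff hM _ _).2 (by omega)
  have c3 : red M c ≠ 0 := (red_eq_zero_iff c2).not.2
    (hc ▸ (ideal_pow_mul_deg_div_iff hM _ _).not.2 (by omega))
  have c4 : ∀ s : ℂ, (Nat.card G : ℂ)⁻¹ * ((ζ 1 : G → ℂ) 1 * (Nat.card P * s)) = c * s := fun s => by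
    rw [hc, hd]; push_cast; ring
  let X : P → ℂ[G] := fun u => ∑ l : P →* ℂˣ, (l u : ℂ) • idem {ζ l}
  have x1 : ∀ u, IsCen (X u) := fun u => IsCen.sum fun l _ => (isCen_idem _).smul _
  have x2 : ∀ u l, omega (ζ l : G → ℂ) (X u) = l u := fun u l => by
    simp [X, omega_sum, omega_smul, omega_idem, z2.eq_iff]
  have x3 : ∀ u χ, χ ∉ B → omega (χ : G → ℂ) (X u) = 0 := fun u χ hχ => by
    simp only [X, omega_sum, omega_smul]
    exact Finset.sum_eq_zero fun l _ => by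
      rw [omega_idem_of_notMem (A := {ζ l}) (fun e : χ = ζ l => hχ (e ▸ z6 l)), mul_zero]
  have x4 : ∀ u v, X (u * v) = X u * X v := fun u v =>
    cen_ext (x1 _) ((x1 _).mul (x1 _)) fun χ => by
      rw [omega_mul χ.2 (x1 u)]
      by_cases hχ : χ ∈ B
      · obtain ⟨l, rfl⟩ := z7 χ hχ
        simp [x2]
      · simp [x3 _ _ hχ]
  have x5 : X 1 = idem B := cen_ext (x1 _) (isCen_idem _) fun χ => by
    by_cases hχ : χ ∈ B
    · rw [omega_idem_of_mem hχ]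
      obtain ⟨l, rfl⟩ := z7 χ hχ
      simp [x2]
    · rw [x3 _ _ hχ, omega_idem_of_notMem hχ]
  have r01 : ∀ (q : Prop) [Decidable q], MemLocalRing M (if q then 1 else 0) := fun q _ => by
    split_ifs; exacts [ring_one, ring_zero]
  have x6 : ∀ u, IsInt M (X u) := fun u g => by
    rw [coeff_cen (x1 u), z8 _ fun χ hχ => by rw [x3 _ _ hχ, zero_mul, zero_mul]]
    simp only [x2, z5 _ 1 hp1, ← (ζ _).2.isCharacter.apply_inv]
    by_cases hg : p ∣ orderOf g⁻¹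
    · obtain ⟨a, a1, a2, a3⟩ := h.val _ hg
      have e1 : ∀ l : P →* ℂˣ, (l u : ℂ) * (ζ 1 : G → ℂ) 1 * (ζ l : G → ℂ) g⁻¹ =
          ∑ v, (ζ 1 : G → ℂ) 1 * (l (u * v) * (δ * a v)) := fun l => by
        rw [a3 _ (z6 l), Finset.mul_sum]
        refine Finset.sum_congr rfl fun v _ => ?_
        by_cases hv : v = 1
        · simp [hv, a1]
        · rw [z4 l v hv, map_mul, Units.val_mul]; ring
      simp only [e1]
      rw [Finset.sum_comm, Finset.mul_sum]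
      refine ring_sum fun v _ => ?_
      rw [← Finset.mul_sum, ← Finset.sum_mul, s1, mul_assoc, c4]
      exact ring_mul c2 (ring_mul (r01 _) (ring_mul (ring_intCast _) (a2 v).1))
    · simp only [z5 _ _ hg, mul_comm _ ((ζ 1 : G → ℂ) 1), mul_assoc]
      rw [← Finset.mul_sum, ← Finset.sum_mul, s1, mul_assoc, c4]
      exact ring_mul c2 (ring_mul (r01 _) (ring_irr _ _))
  obtain ⟨j, j1, j2, j3⟩ := exists_lift1 (hi.pm β).sq
  have x7 : ∀ u, (redA M (X u) * e β).coeff 1 = if u = 1 then red M c else 0 := fun u => by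
    rw [← j3, ← redA_mul (x6 u) j1, coeff_redA, coeff_one_eq_sum, z8 _ fun χ hχ => by
      rw [ev_cen_mul χ.2 (x1 u), x3 _ _ hχ, zero_mul, mul_zero]]
    simp only [ev_cen_mul (ζ _).2 (x1 u), x2, ← t1_eq (ζ _).2.isClassFunction j1 j2, j3, z9, mul_one,
      z5 _ 1 hp1]
    rw [← Finset.mul_sum, s1, c4]
    split_ifs <;> simp [red_zero]
  have x8 : ∀ u v, redA M (X (u * v)) = redA M (X u) * redA M (X v) := fun u v => by
    rw [x4, redA_mul (x6 u) (x6 v)]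
  have li : LinearIndependent (Res M) fun u => redA M (X u) * e β := by
    rw [Fintype.linearIndependent_iff]
    intro a ha v
    have := congrArg (fun y => (redA M (X v⁻¹) * y).coeff 1) ha
    simp only [Finset.mul_sum, mul_smul_comm, ← mul_assoc, ← x8, coeff_sum', coeff_smul', x7,
      inv_mul_eq_one, mul_zero, coeff_zero', mul_ite, Finset.sum_ite_eq, Finset.mem_univ,
      if_true] at this
    exact (mul_eq_zero.1 this).resolve_right c3
  refine ⟨fun u => redA M (X u), fun u => (x1 u).redA, congrArg (redA M) x5, x8, li,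
    Submodule.eq_of_le_of_finrank_eq (Submodule.span_le.2 ?_) ?_⟩
  · rintro _ ⟨u, rfl⟩
    refine (mem_corner (hi.pm β).sq (hi.pm β).sq).2 ⟨?_, ?_⟩
    · rw [← mul_assoc, ← (x1 u).redA.comm, mul_assoc, (hi.pm β).sq]
    · rw [mul_assoc, (hi.pm β).sq]
  · rw [finrank_span_eq_card li, ← Nat.cast_inj (R := ℂ), finrank_corner (hi.pm β).sq (hi.pm β).sq,
      z8 _ fun χ hχ => by rw [(hi.pm β).t1_of_mem hi.wed hB hχ hβ, zero_mul]]
    simp [z9, H19.card_dual]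

theorem Frb.cyc (h : Frb M p B E D) (hE : Nat.card E = 1) (hc : IsCyclic P)
    (hd : Nat.card P = p ^ blockDefect p B) (hi : IB p π e φ) (hβ : β ∈ ibr π B) :
    ∃ (t : (Res M)[G]) (m : ℕ), IsCen t ∧ eB M B * t = t ∧
      (∀ x, ∃ q : (Res M)[X], e β * x * e β = aeval t q * e β) ∧ 0 < m ∧ t ^ (m + 1) = 0 ∧
      t ^ m ≠ 0 := by
  haveI := Fact.mk h.mod.1
  haveI := charP_Res h.mod
  haveI : CharP (Res M)[G] p := charP_of_injective_algebraMap' (Res M) p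
  haveI := h.ntr
  obtain ⟨x, x1, x2, x3, x4, x5⟩ := h.source hE hd hi hβ
  obtain ⟨u, hu⟩ := hc.exists_monoid_generator
  have e1 : x 1 * e β = e β := x2 ▸ (hi.pm β).eB_mul hi.wed h.blk.isInt_idem hβ
  have e2 : ∀ l, x (u ^ l) * e β = (x u - x 1 + 1) ^ l * e β := fun l => by
    induction l with
    | zero => simp [e1]
    | succ l ih =>
      rw [pow_succ', pow_succ', x3, mul_assoc, mul_assoc, ← ih, add_mul, sub_mul, ← mul_assoc (x 1),
        ← x3, one_mul, one_mul, sub_add_cancel]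
  have e3 : ∀ v l, x v ^ (l + 1) = x (v ^ (l + 1)) := fun v l => by
    induction l with
    | zero => simp
    | succ l ih => rw [pow_succ, ih, ← x3, ← pow_succ]
  have e4 : ∀ v, x v ^ Nat.card P = x 1 := fun v => by
    obtain ⟨l, hl⟩ := Nat.exists_eq_add_one_of_ne_zero (Nat.card_pos (α := P)).ne'
    rw [hl, e3, ← hl, pow_card_eq_one']
  have t1 : x u - x 1 ≠ 0 := fun e0 => by
    obtain ⟨v, hv⟩ := exists_ne (1 : P)
    obtain ⟨l, rfl⟩ := hu v
    exact hv (x4.injective (by simp [e2, e0, e1]))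
  have t2 : ∃ l, (x u - x 1) ^ l = 0 := ⟨p ^ blockDefect p B, by
    rw [sub_pow_char_pow_of_commute _ _ ((x1 u).commute _), ← hd, e4, e4, sub_self]⟩
  have t3 : ∀ l < 2, (x u - x 1) ^ l ≠ 0 := fun l hl => by
    interval_cases l
    exacts [by simp, by simpa using t1]
  have t4 : 2 ≤ Nat.find t2 := (Nat.le_find_iff _ _).2 t3
  refine ⟨x u - x 1, Nat.find t2 - 1, (x1 u).sub (x1 1), by rw [← x2, mul_sub, ← x3, ← x3]; simp,
    fun y => ?_, by omega, by rw [Nat.sub_add_cancel (by omega)]; exact Nat.find_spec t2,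
    Nat.find_min t2 (by omega)⟩
  have : e β * y * e β ∈ corner (e β) (e β) := ⟨y, (mul_assoc _ _ _).symm⟩
  rw [← x5] at this
  refine Submodule.span_induction (p := fun z _ => ∃ q : (Res M)[X], z = aeval (x u - x 1) q * e β)
    ?_ ⟨0, by simp⟩ ?_ ?_ this
  · rintro _ ⟨v, rfl⟩
    obtain ⟨l, rfl⟩ := hu v
    exact ⟨(X + 1) ^ l, by simp [e2]⟩
  · rintro _ _ _ _ ⟨q, rfl⟩ ⟨q', rfl⟩
    exact ⟨q + q', by rw [map_add, add_mul]⟩
  · rintro c _ _ ⟨q, rfl⟩
    exact ⟨c • q, by rw [map_smul, smul_mul_assoc]⟩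

end source

variable {b : BrauerPairIdx G}

omit hMm in
theorem exists_gen_prime {Z T : Subgroup G} (hp : p.Prime) (hZ : Nat.card Z = p) (hT : T ≤ 𝐍 Z) :
    (𝐂 Z).relIndex T ∣ p - 1 ∧ ∃ g ∈ T, (∀ j, g ^ j ∈ 𝐂 Z ↔ (𝐂 Z).relIndex T ∣ j) ∧
      ∀ x ∈ T, ∃ j < (𝐂 Z).relIndex T, x⁻¹ * g ^ j ∈ 𝐂 Z := by
  haveI := Fact.mk hp
  haveI := isCyclic_of_prime_card hZ
  have e := IsCyclic.mulAutMulEquiv Z
  rw [hZ] at e
  haveI : IsCyclic (MulAut Z) := isCyclic_of_surjective e.symm e.symm.surjective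
  have h1 : ∀ t : T, cact hT t = 1 ↔ (t : G) ∈ 𝐂 Z := fun t => by
    rw [← MonoidHom.mem_ker, ker_cact, Subgroup.mem_subgroupOf]
  refine ⟨?_, ?_⟩
  · rw [← card_range_cact hT, ← ZMod.card_units p, ← Nat.card_eq_fintype_card,
      ← Nat.card_congr e.toEquiv]
    exact Subgroup.card_subgroup_dvd_card _
  obtain ⟨γ, hγ⟩ := IsCyclic.exists_generator (α := (cact hT).range)
  obtain ⟨g, hg⟩ := γ.2
  have h3 : orderOf γ = (𝐂 Z).relIndex T := by
    rw [← card_range_cact hT, ← orderOf_eq_card_of_forall_mem_zpowers hγ]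
  have h2 : orderOf (cact hT g) = (𝐂 Z).relIndex T := by rw [hg, Subgroup.orderOf_coe, h3]
  refine ⟨g, g.2, fun j => ?_, fun x hx => ?_⟩
  · rw [← h2, orderOf_dvd_iff_pow_eq_one, ← map_pow, h1, Subgroup.coe_pow]
  · obtain ⟨j, j1, j2⟩ := Finset.mem_image.1 (mem_zpowers_iff_mem_range_orderOf.1
      (hγ ⟨_, ⟨x, hx⟩, rfl⟩))
    rw [Finset.mem_range, h3] at j1
    refine ⟨j, j1, (h1 ((⟨x, hx⟩ : T)⁻¹ * g ^ j)).1 ?_⟩
    rw [map_mul, map_inv, map_pow, inv_mul_eq_one, hg]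
    exact (congrArg Subtype.val j2).symm

omit hMm in
theorem eq_of_le_cyclic {P A A' : Subgroup G} (hc : IsCyclic P) (h1 : A ≤ P) (h2 : A' ≤ P)
    (h : Nat.card A = Nat.card A') : A = A' := by
  have key : ∀ C : Subgroup G, C ≤ P → ∀ x : P, x ^ Nat.card C = 1 → (x : G) ∈ C := by
    intro C hC x hx
    have e := Nat.card_congr (Subgroup.subgroupOfEquivOfLe hC).toEquiv
    have : (Finset.univ.filter fun y : P => y ∈ C.subgroupOf P) =
        Finset.univ.filter fun y : P => y ^ Nat.card C = 1 := by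
      refine Finset.eq_of_subset_of_card_le (fun y hy => ?_) ?_
      · simp only [Finset.mem_filter, Finset.mem_univ, true_and] at hy ⊢
        rw [← e]; exact orderOf_dvd_iff_pow_eq_one.1 (Subgroup.orderOf_dvd_natCard _ hy)
      · refine (IsCyclic.card_pow_eq_one_le Nat.card_pos).trans (le_of_eq ?_)
        rw [← e, ← Fintype.card_subtype, Nat.card_eq_fintype_card]
    exact (Finset.mem_filter.1 (this.ge (Finset.mem_filter.2 ⟨Finset.mem_univ x, hx⟩))).2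
  refine Subgroup.eq_of_le_of_card_ge (fun x hx => key A' h2 ⟨x, h1 hx⟩ (Subtype.ext ?_)) h.ge
  rw [← h]; exact orderOf_dvd_iff_pow_eq_one.1 (Subgroup.orderOf_dvd_natCard _ hx)

theorem Mx.src_data (h : Mx M p B b) (hab : b.1 ≤ 𝐂 b.1) (hc : IsCyclic b.1) (hne : b.1 ≠ ⊥)
    (hn : pstab b ≤ 𝐂 b.1) (hl : blockRank p B = 1) :
    ∃ (i t : (Res M)[G]) (m N : ℕ) (x y : Fin N → (Res M)[G]), IsCen t ∧ i * i = i ∧
      eB M B * i = i ∧ eB M B * t = t ∧ ∑ j, x j * y j = eB M B ∧ (∀ j, x j * i = x j) ∧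
      (∀ j, i * y j = y j) ∧ (∀ z, ∃ q : (Res M)[X], i * z * i = aeval t q * i) ∧ 0 < m ∧
      t ^ (m + 1) = 0 ∧ t ^ m ≠ 0 := by
  have hM := h.mod
  obtain ⟨D, hD⟩ := h.exists_frb hab hne fun t ht _ _ _ _ => hn ht
  obtain ⟨n, d, π, e, φ, hi⟩ := exists_ib' hM G
  have hB := h.blk.isInt_idem
  obtain ⟨β, hβ⟩ := Finset.card_eq_one.1 ((hi.blockRank_eq hB).symm.trans hl)
  have hβ' : β ∈ ibr π B := hβ ▸ Finset.mem_singleton_self β
  obtain ⟨t, m, t1, t2, t3, t4, t5, t6⟩ := hD.cyc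
    (by rw [card_range_cact, Subgroup.relIndex_eq_one]; exact hn) hc
    (h.def'.card_eq hM h.blk) hi hβ'
  obtain ⟨x, y, s1, s2, s3, -⟩ := exists_full hM hi.wed (hi.pm β) h.blk.eB_mul_self fun γ hγ =>
    ibr_of_notMem hi.wed hB (by simpa [hβ] using hγ)
  exact ⟨e β, t, m, _, x, y, t1, (hi.pm β).sq, (hi.pm β).eB_mul hi.wed hB hβ', t2, s1, s2, s3, t3,
    t4, t5, t6⟩

theorem Mx.dade_br (h : Mx M p B b) (hab : b.1 ≤ 𝐂 b.1) (hc : IsCyclic b.1) {Z : Subgroup G}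
    (hZ : Z ≤ b.1) (z4 : Nat.card Z = p) {u : G} (u1 : u ∈ 𝐂 Z) (u2 : orderOf u = p)
    (u3 : trunc (𝐂 ⟪u⟫) (pI M (fp M p b Z)) ≠ 0) : u ∈ Z := by
  obtain ⟨c, c1, c2⟩ := (h.maxBr_fp hab hZ).exists_cj_le h.mod (h.fp_bp hZ).isBI (IsPGroup.of_card
    ((Nat.card_zpowers u).trans (u2.trans (pow_one p).symm))) (Subgroup.zpowers_le.2 u1) u3
  have c3 : cj c ⟪u⟫ = Z := eq_of_le_cyclic hc c2 hZ (by rw [card_cj, Nat.card_zpowers, u2, z4])
  have c4 : c * u * c⁻¹ ∈ Z := by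
    rw [← c3, cj_zpowers]; exact Subgroup.mem_zpowers _
  have := c1 _ c4
  rw [inv_mul_cancel_right, mul_assoc, mul_right_inj] at this
  rwa [mul_assoc, ← this] at c4

theorem Mx.dade_stab (h : Mx M p B b) (hab : b.1 ≤ 𝐂 b.1) {Z : Subgroup G} (hZ : Z ≤ b.1) {w : G}
    (w1 : w ∈ 𝐍 Z) (w2 : pI M (fp M p b Z) * cjA w (pI M (fp M p b Z)) ≠ 0) :
    ∃ y ∈ pstab b, y⁻¹ * w ∈ 𝐂 Z := by
  have hbp := h.fp_bp hZ
  have w3 : fp M p b Z = cjP w (fp M p b Z) :=
    BP.ext hbp (hbp.cjP w) (cj_of_mem_normalizer w1).symm (by rwa [pI_cjP])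
  exact h.max.exists_pstab_of_comm h.mod hab (h.fp_ple hZ) (g := w) (w3 ▸ h.fp_ple hZ)

end H21
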