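import Mathlib
import Cfsg.Agent.H21.DadeC

/-!
Dade's theorem `Mx.dade` on blocks with cyclic defect groups (namespace H21).
-/

set_option autoImplicit false
set_option linter.unusedSectionVars false
set_option linter.unusedVariables false

namespace H21
open H05 Cfsg H20 MonoidAlgebra Classical H12.Ri Polynomial
open scoped ComplexConjugate

local notation:max "𝐂" Q:max => Subgroup.centralizer (SetLike.coe Q)
local notation:max "𝐍" Q:max => Subgroup.normalizer (SetLike.coe Q)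
local notation:max "⟪" x "⟫" => Subgroup.zpowers x

attribute [-instance] H19.instFintypeSubgroupFrob

variable {M : Ideal AlgInt} [hMm : M.IsMaximal] {G : Type*} [Group G] [Fintype G] {p : ℕ}
  {B : Set (IrrCharacter G)}

variable {b : BrauerPairIdx G}

theorem Mx.dade_le (h : Mx M p B b) (hab : b.1 ≤ 𝐂 b.1) (hc : IsCyclic b.1) {Z : Subgroup G}
    (hR : NR b Z) (z4 : Nat.card Z = p) (hT : pstab b ≤ 𝐍 Z)
    (hp : ¬ p ∣ (𝐂 Z).relIndex (pstab b)) : (𝐂 Z).relIndex (pstab b) ≤ blockRank p B := by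
  have hM := h.mod
  have z3 := hR.le
  obtain ⟨-, g, g1, g2, g3⟩ := exists_gen_prime hM.1 z4 hT
  obtain ⟨b', a1, a2, a3, a4, a5, -⟩ := h.nr_down hab hR
  have a6 : b'.1 ≠ ⊥ := fun e => hM.1.one_lt.not_ge (by
    rw [← z4, ← Subgroup.card_bot (G := 𝐂 Z), ← e, a5]; exact Subgroup.card_le_of_le z3)
  obtain ⟨i, t, m, N, x, y, t1, t2, t3, t4, t5, t6, t7, t8, t9, t10, t11⟩ := a1.src_data a3
    (by rw [a2]; exact isCyclic_of_surjective _
          (Subgroup.subgroupOfEquivOfLe (le_cent hab z3)).symm.surjective) a6 a4 (h.nr_rank hab hR)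
  obtain ⟨n', d', π', e', φ', hi'⟩ := exists_ib' hM G
  rw [hi'.blockRank_eq h.blk.isInt_idem]
  have hf : pI M (fp M p b Z) = inc (𝐂 Z) (eB M (fb M p b Z)) := rfl
  have k1 : ∀ w : (Res M)[𝐂 Z], inc (𝐂 Z) w ∈ KC (Res M) (𝐂 Z) := fun w => ⟨w, rfl⟩
  have k2 : cjA g (pI M (fp M p b Z)) = pI M (fp M p b Z) :=
    (cInv_pstab _).cjA_eq ((h.fp_ple z3).mem_pstab hM h.bp g1 (hT g1))
  have k3 : trunc (𝐂 Z) (eB M B) * pI M (fp M p b Z) = pI M (fp M p b Z) := by
    have := POf.mul_eq hM (h.max.pOf_of_ple hM (h.fp_ple z3))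
    exact this
  have k4 := fun u => h.dade_br hab hc z3 z4 (u := u)
  have k5 := fun w => h.dade_stab hab z3 (w := w)
  rw [hf] at k2 k3 k4 k5
  have k6 := a1.blk.eB_mul_self
  have k7 := isCen_eB (M := M) (fb M p b Z)
  generalize eB M (fb M p b Z) = f at *
  refine CD0.le_card_ibr (Z := Z) (g := g) (m := m) (f := inc _ f)
    (i := inc _ i) (t := inc _ t) (a := fun j => inc _ (x j)) (b := fun j => inc _ (y j)) hM hi'.wed
    h.blk.isInt_idem ⟨hM.1, charP_Res hM, z4, z3.trans (le_cent hab z3), k1 _, k1 _, k1 _,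
      fun _ => k1 _, fun _ => k1 _, k7.cInv_inc, t1.cInv_inc, by rw [← map_mul, k6],
      by rw [← map_mul, t2], by rw [← map_mul, t3], by rw [← map_mul, t4], ?_,
      fun j => by rw [← map_mul, t6], fun j => by rw [← map_mul, t7], ?_, t9,
      by rw [← map_pow, t10, map_zero], ?_, hT g1, k2, (g2 _).2 dvd_rfl,
      fun j j1 j2 e => (Nat.le_of_dvd j1 ((g2 j).1 e)).not_gt j2,
      (CharP.cast_eq_zero_iff _ p (self := charP_Res hM) _).not.2 hp, k4, fun w w1 w2 => ?_,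
      isCen_eB B, h.blk.eB_mul_self, k3⟩
  · simp only [← map_mul, ← map_sum, t5]
  · rintro _ ⟨w, rfl⟩
    obtain ⟨q, hq⟩ := t8 w
    exact ⟨q, by rw [aeval_algHom_apply, ← map_mul, ← hq, map_mul, map_mul]; rfl⟩
  · rw [← map_pow]; exact fun e => t11 (inc_injective _ (e.trans (map_zero _).symm))
  · obtain ⟨y, y1, y2⟩ := k5 w w1 w2
    obtain ⟨j, j1, j2⟩ := g3 y y1
    exact ⟨j, j1, by simpa [mul_assoc] using mul_mem (inv_mem y2) j2⟩

theorem Mx.dade (h : Mx M p B b) (hc : IsCyclic b.1) (hne : b.1 ≠ ⊥) :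
    b.1 ≤ 𝐂 b.1 ∧ Nat.card (cact (pstab_le b)).range ∣ p - 1 ∧
      blockRank p B = Nat.card (cact (pstab_le b)).range ∧
      ∃ D, Frb M p B (cact (pstab_le b)).range D := by
  have hM := h.mod
  have hab : b.1 ≤ 𝐂 b.1 := fun x hx y hy =>
    congrArg Subtype.val (hc.commGroup.mul_comm ⟨y, hy⟩ ⟨x, hx⟩)
  have hfr := free_of_cyclic hM.1 h.bp.1 hc (pstab_le b) (h.not_dvd_e hab le_rfl)
  obtain ⟨D, hD⟩ := h.exists_frb hab hne hfr
  obtain ⟨⟨v, hv⟩, hv1⟩ := Subgroup.ne_bot_iff_exists_ne_one.1 hne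
  obtain ⟨N, hz⟩ := exists_pow_order hM.1 h.bp.1 hv fun e => hv1 (Subtype.ext e)
  have z1 := pow_mem hv N
  generalize v ^ N = z at hz z1
  have z2 : z ≠ 1 := fun e => hM.1.one_lt.ne (by rw [← hz, e, orderOf_one])
  have z3 : ⟪z⟫ ≤ b.1 := Subgroup.zpowers_le.2 z1
  have z4 : Nat.card ⟪z⟫ = p := (Nat.card_zpowers z).trans hz
  have hR : NR b ⟪z⟫ := ⟨z3, fun t ht => hfr t ht.1 z z1 z2 (mem_centralizer_zpowers.1 ht.2)⟩
  have hT : pstab b ≤ 𝐍 ⟪z⟫ := fun t ht => by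
    obtain ⟨k, hk⟩ := exists_zpow_of_isCyclic hc (pstab_le b ht)
    exact Subgroup.mem_normalizer_fintype fun x hx => by rw [hk x (z3 hx)]; exact zpow_mem hx k
  have he : (𝐂 b.1).relIndex (pstab b) = (𝐂 ⟪z⟫).relIndex (pstab b) := by
    rw [← Subgroup.inf_relIndex_right, ← Subgroup.inf_relIndex_right (𝐂 ⟪z⟫)]
    congr 1
    exact le_antisymm (inf_le_inf_right _ (centralizer_anti z3))
      (le_inf (fun x hx => hR.cen ⟨hx.2, hx.1⟩) inf_le_right)
  refine ⟨hab, ?_, le_antisymm hD.rank_le ?_, D, hD⟩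
  · rw [card_range_cact, he]; exact (exists_gen_prime hM.1 z4 hT).1
  · rw [card_range_cact, he]
    exact h.dade_le hab hc hR z4 hT (he ▸ h.not_dvd_e hab le_rfl)

end H21
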