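import Mathlib
import Cfsg.Agent.H21.DadeD

/-!
Consequences of Dade's theorem (namespace H21): `pstab_eq_of_forall`, `FD.height`, `FD.dvd_X`,
`apply_eq_zero_of_free`, `sign_eq_of_perfect`, `eq_of_card_mulAut`.
-/

set_option autoImplicit false
set_option linter.unusedSectionVars false
set_option linter.unusedVariables false

namespace H21
open H05 Cfsg H20 MonoidAlgebra Classical
open scoped ComplexConjugate

local notation:max "𝐂" Q:max => Subgroup.centralizer (SetLike.coe Q)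
local notation:max "𝐍" Q:max => Subgroup.normalizer (SetLike.coe Q)
local notation:max "⟪" x "⟫" => Subgroup.zpowers x

attribute [-instance] H19.instFintypeSubgroupFrob

variable {M : Ideal AlgInt} {G : Type*} [Group G] [Fintype G] {p : ℕ} {B : Set (IrrCharacter G)}

theorem pstab_eq_of_forall {D T : Subgroup G} {b : Set (IrrCharacter (𝐂 D))}
    (hT : ∀ g : G, g ∈ T ↔ (g ∈ 𝐍 D ∧ ∀ θ ∈ b, ∀ θ' : IrrCharacter (𝐂 D), (∀ h h' : 𝐂 D,
      (h' : G) = g * h * g⁻¹ → (θ' : 𝐂 D → ℂ) h' = (θ : 𝐂 D → ℂ) h) → θ' ∈ b)) :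
    T = pstab ⟨D, b⟩ := by
  ext g
  rw [hT, mem_pstab_iff]
  refine and_congr_right fun hg => ?_
  have h1 := normalizer_le_normalizer_centralizer _ hg
  have h2 := cj_of_mem_normalizer h1
  refine ⟨fun h => ⟨h1, fun χ hχ => ⟨_, h χ hχ _ ((isConjCharOf_iff h2).2 rfl),
    (isConjCharOf_iff h2).2 rfl⟩⟩, fun h θ hθ θ' h3 => ?_⟩
  obtain ⟨χ', h4, h5⟩ := h.2 θ hθ
  rwa [(isConjCharOf_iff h2).1 h3, ← (isConjCharOf_iff h2).1 h5]

theorem card_dvd_of_vanish {θ : G → ℂ} (hθ : IsGeneralizedCharacter G θ) (Q : Subgroup G)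
    (h : ∀ x ∈ Q, x ≠ 1 → θ x = 0) {m : ℤ} (hm : θ 1 = m) : (Nat.card Q : ℤ) ∣ m := by
  obtain ⟨k, hk⟩ := (hθ.restrict Q).exists_classInner_eq_int isGeneralizedCharacter_one
  rw [classInner, Finset.sum_eq_single 1 (fun x _ hx => by
    simp [h x x.2 fun e => hx (Subtype.ext e)]) (by simp)] at hk
  refine ⟨k, ?_⟩
  have h0 := card_ne_zero_complex (G := Q)
  have : (m : ℂ) = Nat.card Q * k := by
    rw [← hk, ← hm]; simp only [Subgroup.coe_one, Pi.one_apply, map_one, mul_one]; field_simp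
  exact_mod_cast this

section
variable {P : Type*} [Group P] [Fintype P] {E : Subgroup (MulAut P)} {D : IrrCharacter G → P → ℂ}
  {δ : ℤ} {a : IrrCharacter G → ℤ} {ζ : (P →* ℂˣ) → IrrCharacter G}

theorem FD.height (F : FD B E D 0 δ a ζ) (h : Frb M p B E D) (hP : IsPGroup p P)
    (ha : ∀ χ ∈ eX B ζ, a χ = 1 ∨ a χ = -1) {χ : IrrCharacter G} (hχ : χ ∈ B) :
    blockHeight p B (χ : G → ℂ) = 0 := by
  have hM := h.mod
  haveI := hM.2.1
  haveI := h.ntr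
  obtain ⟨v, hv⟩ := exists_ne (1 : P)
  rw [h.ht χ hχ v hv]
  by_cases h1 : χ ∈ eY ζ
  · obtain ⟨l, hl, rfl⟩ := mem_eY.1 h1
    haveI := Fact.mk hM.1
    obtain ⟨k, hk⟩ := hP.exists_card_eq
    have h2 : ∀ α : E, H19.hf (dl α l) v ^ p ^ k = 1 := fun α => by
      rw [H19.hf_apply, ← Units.val_pow_eq_pow_val, ← map_pow, ← hk, pow_card_eq_one', map_one,
        Units.val_one]
    have h3 : ∀ α : E, conj (H19.hf (dl α l) v) ^ p ^ k = 1 := fun α => by
      rw [← map_pow, h2, map_one]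
    have h4 : ∀ f : E → ℂ, (∀ α, f α ^ p ^ k = 1) →
        MemLocalRing M (∑ α, f α) ∧ ¬ MemLocalIdeal M (∑ α, f α) := fun f hf => by
      refine ⟨ring_sum fun α _ => ring_of_isIntegral
        (isIntegral_of_pow_eq_one (pow_pos hM.1.pos k).ne' (hf α)), not_ideal_of_sub (y := Nat.card E)
          ?_ ((ideal_natCast_iff hM).not.2 h.ndvd)⟩
      rw [ideal_sub_comm, show (Nat.card E : ℂ) = ∑ _α : E, 1 by simp, ← Finset.sum_sub_distrib]
      exact ideal_sum fun α _ => one_sub_root_mem hM (hf α)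
    have := not_ideal_mul (h4 _ h2).1 (h4 _ h3).1 (h4 _ h2).2 (h4 _ h3).2
    rw [F.exc l hl v hv, osum]
    rcases F.sign with e | e <;> simpa [e, map_sum] using this
  · have h2 := mem_eX.2 ⟨hχ, h1⟩
    rw [F.apply_X h2 hv]
    rcases ha χ h2 with e | e <;> simpa [e] using not_ideal_one

theorem FD.dvd_X {d : ℤ} (F : FD B E D d δ a ζ) (h : Frb M p B E D)
    (ha : ∀ χ ∈ eX B ζ, a χ = 1 ∨ a χ = -1) {Q : Subgroup G} (hQ : IsPGroup p Q)
    {χ χ' : IrrCharacter G} (hχ : χ ∈ eX B ζ) (hχ' : χ' ∈ eX B ζ) :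
    a χ * charDegree (χ : G → ℂ) ≡ a χ' * charDegree (χ' : G → ℂ) [ZMOD Nat.card Q] := by
  haveI := Fact.mk h.mod.1
  have h1 : ∀ f : IrrCharacter G → ℂ, ∑ ψ with ψ ∈ B, ((if ψ = χ' then (a χ' : ℂ) else 0) -
      if ψ = χ then (a χ : ℂ) else 0) * f ψ = a χ' * f χ' - a χ * f χ := fun f => by
    simp [sub_mul, Finset.sum_sub_distrib, (mem_eX.1 hχ).1, (mem_eX.1 hχ').1]
  refine Int.modEq_iff_dvd.2 (card_dvd_of_vanish (θ := (a χ' : ℂ) • (χ' : G → ℂ) - (a χ : ℂ) • (χ : G → ℂ))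
    ((χ'.2.isGeneralizedCharacter.intCast_smul _).sub (χ.2.isGeneralizedCharacter.intCast_smul _))
    Q (fun x hx hx1 => ?_) ?_)
  · have := h.sum_eq_zero_of_sing _ (fun v hv => by
      rw [h1 fun ψ => D ψ v, F.apply_X hχ hv, F.apply_X hχ' hv]
      rcases ha χ hχ with e | e <;> rcases ha χ' hχ' with e' | e' <;> simp [e, e'])
      (dvd_orderOf_of_isPGroup hQ hx hx1)
    rw [h1 fun ψ => (ψ : G → ℂ) x] at this
    simpa using this
  · simp [χ.2.isCharacter.charDegree_eq, χ'.2.isCharacter.charDegree_eq]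

end

theorem apply_eq_zero_of_free {Q : Subgroup G} [Q.Normal] {x : G}
    (hx : ∀ v ∈ Q, x * v * x⁻¹ = v → v = 1) {η : IrrCharacter G} (hη : η ∉ kerSet Q) :
    (η : G → ℂ) x = 0 := by
  have h1 : ∀ q : Q, x⁻¹ * q * x * (q : G)⁻¹ ∈ Q := fun q =>
    mul_mem (by simpa using ‹Q.Normal›.conj_mem _ q.2 x⁻¹) (inv_mem q.2)
  have h2 : Function.Injective fun q : Q => (⟨_, h1 q⟩ : Q) := fun q q' e => by
    have e1 : x⁻¹ * q * x * (q : G)⁻¹ = x⁻¹ * q' * x * (q' : G)⁻¹ := congrArg Subtype.val e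
    have e2 : (q' : G) * x * (q' : G)⁻¹ = q * x * (q : G)⁻¹ := by simpa [mul_assoc] using e1.symm
    have := hx _ (mul_mem (inv_mem q'.2) q.2) (by
      calc x * ((q' : G)⁻¹ * q) * x⁻¹ = (q' : G)⁻¹ * (q' * x * (q' : G)⁻¹) * q * x⁻¹ := by group
        _ = _ := by rw [e2]; group)
    exact Subtype.ext (inv_mul_eq_one.1 this).symm
  have h3 := ev_single_mul_avg (η : G → ℂ) Q x
  rw [avg_eq_idem, ← (isCen_idem _).comm, ev_cen_mul η.2 (isCen_idem _), omega_idem_of_notMem hη,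
    zero_mul, ← (Finite.injective_iff_bijective.1 h2).sum_comp] at h3
  have h4 : ∀ q : Q, (η : G → ℂ) (x * (x⁻¹ * q * x * (q : G)⁻¹)) = (η : G → ℂ) x := fun q => by
    rw [show x * (x⁻¹ * q * x * (q : G)⁻¹) = q * x * (q : G)⁻¹ by group]
    exact η.2.isClassFunction _ _
  simpa [h4] using h3.symm

theorem eq_of_card_mulAut {P : Type*} [Group P] [Finite P] (hp : p.Prime) (hP : IsPGroup p P)
    (hc : IsCyclic P) {E E' : Subgroup (MulAut P)} (h : Nat.card E = Nat.card E')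
    (h1 : Nat.card E ∣ p - 1) : E = E' := by
  by_cases h2 : p = 2
  · subst h2
    rw [Subgroup.card_eq_one.1 (Nat.dvd_one.1 h1), Subgroup.card_eq_one.1 (h.symm.trans (Nat.dvd_one.1 h1))]
  haveI := Fact.mk hp
  obtain ⟨k, hk⟩ := hP.exists_card_eq
  have e := IsCyclic.mulAutMulEquiv P
  rw [hk] at e
  haveI := ZMod.isCyclic_units_of_prime_pow p hp h2 k
  haveI := Fintype.ofFinite (MulAut P)
  exact eq_of_le_cyclic (P := ⊤) (isCyclic_of_surjective _
    (e.symm.trans Subgroup.topEquiv.symm).surjective) le_top le_top h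

theorem sign_eq_of_perfect {F : Type*} [Group F] [Fintype F] {Q : Subgroup F} [Q.Normal]
    (hp : p.Prime) (hQ : IsPGroup p Q) (hx : ∀ x ∉ Q, ∀ v ∈ Q, x * v * x⁻¹ = v → v = 1)
    {I : IrrCharacter F → IrrCharacter G} {ε : IrrCharacter F → ℤ}
    (h : IsPerfectIsometry p M Set.univ B I ε) {η η' : IrrCharacter F} (h1 : η ∉ kerSet Q)
    (h2 : η' ∉ kerSet Q) : ε η = ε η' := by
  haveI := Fact.mk hp
  obtain ⟨θ, hθ⟩ : ∃ θ : F → ℂ, θ = ∑ ψ, ((ε ψ : ℂ) * (I ψ : G → ℂ) 1) • (ψ : F → ℂ) := ⟨_, rfl⟩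
  have h3 : ∀ y ∈ Q, y ≠ 1 → θ y = 0 := fun y hy hy1 => by
    have := (h.2.2 1 y).2.2.resolve_left fun e => e.1 (by simpa [IsPRegular] using hp.ne_one)
      (dvd_orderOf_of_isPGroup hQ hy hy1)
    rw [signedBijectionKernel, finsum_mem_univ, finsum_eq_sum_of_fintype] at this
    simpa [hθ] using this
  have h4 : ∀ ψ ∉ kerSet Q, (ε ψ : ℂ) * (I ψ : G → ℂ) 1 =
      (Nat.card F : ℂ)⁻¹ * (θ 1 * (ψ : F → ℂ) 1) := fun ψ hψ => by
    have : classInner θ ψ = (ε ψ : ℂ) * (I ψ : G → ℂ) 1 := by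
      rw [hθ, classInner_sum_left]
      simp [classInner_smul_left, classInner_irr]
    rw [← this, classInner, Finset.sum_eq_single 1 (fun y _ hy => ?_) (by simp),
      ← ψ.2.isCharacter.apply_inv, inv_one]
    by_cases hq : y ∈ Q
    · rw [h3 y hq hy, zero_mul]
    · rw [apply_eq_zero_of_free (hx y hq) hψ, map_zero, mul_zero]
  have h5 : (ε η : ℂ) * (I η : G → ℂ) 1 * (η' : F → ℂ) 1 =
      ε η' * (I η' : G → ℂ) 1 * (η : F → ℂ) 1 := by rw [h4 η h1, h4 η' h2]; ring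
  obtain ⟨m1, a1, b1⟩ := irr_one_pos (I η)
  obtain ⟨m2, a2, b2⟩ := irr_one_pos (I η')
  obtain ⟨m3, a3, b3⟩ := irr_one_pos η
  obtain ⟨m4, a4, b4⟩ := irr_one_pos η'
  rw [b1, b2, b3, b4, mul_assoc, mul_assoc] at h5
  norm_cast at h5
  have := Nat.mul_pos a1 a4
  have := Nat.mul_pos a2 a3
  rcases h.2.1 η trivial with e | e <;> rcases h.2.1 η' trivial with e' | e' <;>
    rw [e, e'] at h5 ⊢ <;> omega

end H21
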