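import Mathlib
import Cfsg.Agent.H21.DadeE
import Cfsg.Agent.H20.QForm

/-!
The quadratic form of a block with cyclic defect group and bounds for `k(B)` (namespace H21):
`rank_le_qf_of_cyclic`, `exists_major_quot`, `card_le_of_two_gen`.
-/

set_option autoImplicit false
set_option linter.unusedSectionVars false
set_option linter.unusedVariables false

namespace H21
open H05 Cfsg H20 MonoidAlgebra Classical
open scoped ComplexConjugate

local notation:max "𝐂" Q:max => Subgroup.centralizer (SetLike.coe Q)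
local notation:max "𝐍" Q:max => Subgroup.normalizer (SetLike.coe Q)
local notation:max "⟪" x "⟫" => Subgroup.zpowers x

attribute [-instance] H19.instFintypeSubgroupFrob

universe u
variable {M : Ideal AlgInt} {G : Type u} [Group G] [Fintype G] {p : ℕ} {B : Set (IrrCharacter G)}

section
variable {P : Type*} [Group P] [Fintype P] {E : Subgroup (MulAut P)} {D : IrrCharacter G → P → ℂ}
  {δ : ℤ} {a : IrrCharacter G → ℤ} {ζ : (P →* ℂˣ) → IrrCharacter G}
  (F : FD B E D 0 δ a ζ) (h : Frb M p B E D) (ha : ∀ χ ∈ eX B ζ, a χ = 1 ∨ a χ = -1)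
  (hl : blockRank p B = Nat.card E)
include F h ha hl

theorem FD.mul_contrib {χ χ' : IrrCharacter G} (hχ : χ ∈ eX B ζ) (hχ' : χ' ∈ eX B ζ) :
    Nat.card P * contrib p (χ : G → ℂ) χ' =
      (if χ = χ' then (Nat.card P : ℂ) else 0) - (eY ζ).card * (a χ * a χ') := by
  have s1 : ∀ ψ ∈ eX B ζ, (a ψ : ℂ) * a ψ = 1 := fun ψ hψ => by
    rcases ha ψ hψ with e | e <;> simp [e]
  have s2 : (δ : ℂ) * δ = 1 := by rcases F.sign with e | e <;> simp [e]
  have s3 : (Nat.card P : ℂ) = (eX B ζ).card * (eY ζ).card + 1 := by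
    rw [← F.card_Y h, F.card_X h, hl]; push_cast; ring
  obtain ⟨k, hk⟩ : ∃ k : IrrCharacter G → ℂ, k = fun ψ => (if ψ = χ then (Nat.card P : ℂ) else 0) -
    a χ * if ψ ∈ eY ζ then (-δ : ℂ) else (eY ζ).card * a ψ := ⟨_, rfl⟩
  have h1 : ∀ f : IrrCharacter G → ℂ, ∑ ψ with ψ ∈ B, k ψ * f ψ = Nat.card P * f χ -
      a χ * ((eY ζ).card * ∑ ψ ∈ eX B ζ, a ψ * f ψ - δ * ∑ ψ ∈ eY ζ, f ψ) := fun f => by
    simp only [hk, sub_mul, Finset.sum_sub_distrib, ite_mul, zero_mul, Finset.sum_ite_eq',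
      Finset.mem_filter, Finset.mem_univ, (mem_eX.1 hχ).1, and_self, if_true, mul_assoc,
      ← Finset.mul_sum]
    rw [F.sum_split, Finset.sum_congr rfl fun ψ hψ => if_neg (mem_eX.1 hψ).2,
      Finset.sum_congr rfl (s₁ := eY ζ) fun ψ hψ => if_pos hψ, ← Finset.mul_sum, ← Finset.mul_sum]
    ring
  have h2 : (Nat.card P : ℂ) • pRegularPart p (χ : G → ℂ) =
      ∑ ψ with ψ ∈ B, k ψ • (ψ : G → ℂ) := funext fun g => by
    simp only [Finset.sum_apply, Pi.smul_apply, smul_eq_mul]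
    by_cases hg : p ∣ orderOf g
    · rw [pRegularPart_of_dvd _ hg, mul_zero, h.sum_eq_zero_of_sing k (fun v hv => ?_) hg]
      rw [h1 fun ψ => D ψ v, F.apply_X hχ hv, F.sum_Y h hv, Finset.sum_congr rfl fun ψ hψ => by
        rw [F.apply_X hψ hv, s1 ψ hψ], Finset.sum_const, s3]
      simp only [nsmul_eq_mul, Int.cast_zero]
      linear_combination (-a χ) * s2
    · rw [pRegularPart_of_not_dvd _ hg, h1 fun ψ => (ψ : G → ℂ) g, Finset.mul_sum (a := (δ : ℂ)),
        Finset.sum_congr rfl (s₁ := eY ζ) fun ψ hψ => F.reg_aux h hψ hg]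
      simp
  rw [contrib, ← classInner_smul_left, h2, classInner_sum_left]
  simp [classInner_smul_left, classInner_irr, (mem_eX.1 hχ').1, hk, (mem_eX.1 hχ').2, eq_comm,
    mul_left_comm]

theorem FD.le_qf (hd : Nat.card P = p ^ blockDefect p B) (x : IrrCharacter G → ℤ)
    (hx : qf p B x x ≠ 0) : (blockRank p B : ℤ) ≤ qf p B x x := by
  have s1 : ∀ ψ ∈ eX B ζ, (a ψ : ℂ) * a ψ = 1 := fun ψ hψ => by
    rcases ha ψ hψ with e | e <;> simp [e]
  have s2 : (δ : ℂ) * δ = 1 := by rcases F.sign with e | e <;> simp [e]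
  have s3 : (Nat.card P : ℂ) = (eY ζ).card * (eX B ζ).card + 1 := by
    rw [← F.card_Y h, F.card_X h, hl]; push_cast; ring
  obtain ⟨c, h1⟩ : ∃ c : IrrCharacter G → ℤ, ∀ g, ¬ p ∣ orderOf g →
      gc B x g = (∑ χ ∈ eX B ζ, (a χ * c χ : ℂ) • (χ : G → ℂ)) g := by
    refine ⟨fun χ => a χ * x χ + δ * ∑ ψ ∈ eY ζ, x ψ, fun g hg => ?_⟩
    rw [gc_apply, F.sum_split, Finset.sum_congr rfl (s₁ := eY ζ)
      (g := fun ψ => x ψ * (δ * ∑ χ ∈ eX B ζ, a χ * (χ : G → ℂ) g)) fun ψ hψ => by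
        have := F.reg_aux h hψ hg
        simp only [Int.cast_zero, zero_mul, add_zero] at this
        rw [← this, ← mul_assoc (δ : ℂ), s2, one_mul], ← Finset.sum_mul, Finset.sum_apply,
      Finset.mul_sum, Finset.mul_sum, ← Finset.sum_add_distrib]
    refine Finset.sum_congr rfl fun χ hχ => ?_
    simp only [Pi.smul_apply, smul_eq_mul]
    push_cast
    linear_combination (-x χ * (χ : G → ℂ) g) * s1 χ hχ
  have h2 : Nat.card P * contrib p (∑ χ ∈ eX B ζ, (a χ * c χ : ℂ) • (χ : G → ℂ))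
      (∑ χ ∈ eX B ζ, (a χ * c χ : ℂ) • (χ : G → ℂ)) = ((((eY ζ).card : ℤ) * (eX B ζ).card + 1) *
        ∑ i ∈ eX B ζ, c i ^ 2 - (eY ζ).card * (∑ i ∈ eX B ζ, c i) ^ 2 : ℤ) := by
    rw [contrib_sum_left, Finset.mul_sum, Finset.sum_congr rfl
      (g := fun χ => Nat.card P * (c χ : ℂ) ^ 2 - (eY ζ).card * (c χ * ∑ i ∈ eX B ζ, (c i : ℂ)))
      fun χ hχ => by
        rw [contrib_smul_left, contrib_sum_right, mul_left_comm, Finset.mul_sum, Finset.sum_congr rfl
          (g := fun χ' => (if χ = χ' then (Nat.card P * a χ * c χ : ℂ) else 0) -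
            (eY ζ).card * a χ * c χ') fun χ' hχ' => by
            rw [contrib_smul_right, mul_left_comm, F.mul_contrib h ha hl hχ hχ', map_mul,
              map_intCast, map_intCast]
            split_ifs with e
            · subst e; linear_combination (-(eY ζ).card * a χ * c χ) * s1 χ hχ
            · linear_combination (-(eY ζ).card * a χ * c χ') * s1 χ' hχ']
        simp only [Finset.sum_sub_distrib, Finset.sum_ite_eq, hχ, if_true, ← Finset.mul_sum]
        linear_combination (Nat.card P * c χ ^ 2 - (eY ζ).card * c χ * ∑ i ∈ eX B ζ, (c i : ℂ)) *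
          s1 χ hχ, Finset.sum_sub_distrib, ← Finset.mul_sum, ← Finset.mul_sum, ← Finset.sum_mul, s3]
    push_cast
    ring
  rw [← contrib_congr_left h1, ← contrib_congr_right _ h1, hd, Nat.cast_pow, ← cast_qf h.mod.1] at h2
  have h3 := Int.cast_injective h2
  rw [h3] at hx ⊢
  rw [← F.card_X h]
  exact card_le_form _ c (by exact_mod_cast F.card_Y_pos h) hx

end

theorem rank_le_qf_of_cyclic (hM : IsPModular p M) (hB : IsPBlock M B) {D : Subgroup G}
    (hD : IsDefectGroup p M B D) (hc : IsCyclic D) (x : IrrCharacter G → ℤ) (hx : qf p B x x ≠ 0) :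
    (blockRank p B : ℤ) ≤ qf p B x x := by
  haveI := hM.2.1
  obtain ⟨c, h⟩ := exists_mx hM hB hD
  by_cases hne : D = ⊥
  · rw [rank_eq_one_of_center hM hB hD (hne ▸ bot_le)]
    have := qf_nonneg (b := B) hM.1 x
    omega
  obtain ⟨-, -, h1, E, h2⟩ := h.dade hc hne
  obtain ⟨δ, a, ζ, F, ha⟩ := h2.exists_full h1
  exact F.le_qf h2 ha h1 (hD.card_eq hM hB) x hx

theorem exists_major_quot (hM : IsPModular p M) (hB : IsPBlock M B) {D : Subgroup G}
    (hD : IsDefectGroup p M B D) {u : G} (hu : u ∈ D) (hc : D ≤ 𝐂 ⟪u⟫) :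
    ∃ (K : Type u) (_ : Group K) (_ : Fintype K) (b : Set (IrrCharacter K)) (Q : Subgroup K)
      (f : D →* Q), IsPBlock M b ∧ IsDefectGroup p M b Q ∧ Function.Surjective f ∧
      f ⟨u, hu⟩ = 1 ∧ Nat.card D = orderOf u * Nat.card Q ∧
      (∀ μ : ℤ, (∀ y, qf p b y y ≠ 0 → μ ≤ qf p b y y) →
        Nat.card B * μ ≤ (p : ℤ) ^ blockDefect p B * blockRank p b) ∧
      Nat.card {χ : IrrCharacter G // χ ∈ B ∧ blockHeight p B (χ : G → ℂ) = 0} ^ 2 ≤
        p ^ (2 * blockDefect p B) * blockRank p b := by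
  haveI := hM.2.1
  haveI := Fact.mk hM.1
  obtain ⟨c, h⟩ := exists_mx hM hB hD
  have h1 := h.sub hu
  have h2 := h.isDefectGroup_sb hu hc
  have h3 := h.defect_sb hu hc
  have hb := h1.ind.1
  generalize sb M p ⟨D, c⟩ u = b at h1 h2 h3 hb
  let u' : 𝐂 ⟪u⟫ := ⟨u, hc hu⟩
  have hZ : ⟪u'⟫ ≤ Subgroup.center _ := by
    rw [Subgroup.zpowers_le, Subgroup.mem_center_iff]
    exact fun g => Subtype.ext (g.2 u (Subgroup.mem_zpowers u)).symm
  haveI : (⟪u'⟫).Normal :=
    ⟨fun n hn g => by rw [Subgroup.mem_center_iff.1 (hZ hn) g, mul_inv_cancel_right]; exact hn⟩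
  have h4 : Nat.card ⟪u'⟫ = orderOf u := by rw [Nat.card_zpowers, Subgroup.orderOf_mk]
  have hq := pQuot_of_center (p := p) (h1.ord.elim fun k hk => IsPGroup.of_card (h4.trans hk)) hZ
  have h5 := hq.isDefectGroup_dom hM hb h2
  have h6 := hq.isPBlock_dom hM hb
  have h7 := hq.blockRank_dom hM hb.isInt_idem
  refine ⟨_, inferInstance, inferInstance, _, _, ((QuotientGroup.mk' ⟪u'⟫).subgroupMap _).comp
    (Subgroup.subgroupOfEquivOfLe hc).symm.toMonoidHom, h6, h5,
    (MonoidHom.subgroupMap_surjective _ _).comp (Subgroup.subgroupOfEquivOfLe hc).symm.surjective,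
    Subtype.ext ((QuotientGroup.eq_one_iff _).2 (Subgroup.mem_zpowers _)), ?_, fun μ hμ => ?_, ?_⟩
  · rw [hD.card_eq hM hB, h5.card_eq hM h6, ← h3, hq.pow_blockDefect_dom hM hb,
      QuotientGroup.ker_mk', h4]
  · rw [h7]
    refine h1.card_mul_le h3 fun x hx => ?_
    obtain ⟨y, hy⟩ := PQuot.exists_qf_eq hq (by rwa [QuotientGroup.ker_mk']) hM hb x
    rw [hy] at hx ⊢
    exact hμ y hx
  · rw [h7, ← h3]; exact h1.k0_sq_le

theorem card_le_of_two_gen (hM : IsPModular p M) (hB : IsPBlock M B) {D : Subgroup G}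
    (hD : IsDefectGroup p M B D) (hab : IsMulCommutative D) {u v : D}
    (h : Subgroup.closure {u, v} = ⊤) : Nat.card B ≤ Nat.card D := by
  haveI := hM.2.1
  obtain ⟨K, _, _, b, Q, f, h1, h2, h3, h4, -, h5, -⟩ := exists_major_quot hM hB hD u.2 fun x hx =>
    mem_centralizer_zpowers.2 (by
      rw [mul_inv_eq_iff_eq_mul]; exact congrArg Subtype.val (hab.is_comm.comm ⟨x, hx⟩ u))
  have hc : IsCyclic Q := ⟨⟨f v, fun y => by
    have : y ∈ (Subgroup.closure {u, v}).map f := by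
      rw [h, ← MonoidHom.range_eq_map, MonoidHom.range_eq_top.2 h3]; trivial
    rw [MonoidHom.map_closure] at this
    refine (Subgroup.closure_le ⟪f v⟫).2 ?_ this
    rintro _ ⟨_, rfl | rfl, rfl⟩
    · exact h4 ▸ one_mem _
    · exact Subgroup.mem_zpowers _⟩⟩
  have h6 := h5 _ (rank_le_qf_of_cyclic hM h1 h2 hc)
  rw [hD.card_eq hM hB]
  exact_mod_cast le_of_mul_le_mul_right h6 (Nat.cast_pos.2 (one_le_blockRank hM.1 h1.nonempty))

end H21
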