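import Cfsg.Agent.H21.An2
import Cfsg.Agent.H21.An3
import Cfsg.Agent.H21.CycQ
import Cfsg.Agent.S4438
import Cfsg.Agent.S4534

/-!
Blocks of alternating groups (namespace `H21.An`): `rank_lt_small`, `rank_lt`.
-/

set_option autoImplicit false
set_option linter.unusedSectionVars false
set_option linter.unusedVariables false

open Finset Equiv Cfsg H05 H20 H21 H24.Sym

namespace H21.An

variable {n p : ℕ} {M : Ideal AlgInt}

theorem two_gen [hp : Fact p.Prime] {G : Type*} [Group G] [Finite G] (h : Nat.card G ∣ p ^ 2) :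
    IsMulCommutative G ∧ ∃ u v : G, Subgroup.closure {u, v} = ⊤ := by
  by_cases hc : IsCyclic G
  · obtain ⟨u, hu⟩ := hc.exists_zpow_surjective
    exact ⟨inferInstance, u, u, by rw [Set.pair_eq_singleton, ← Subgroup.zpowers_eq_closure]; exact (Subgroup.eq_top_iff' _).2 hu⟩
  obtain ⟨k, hk, e⟩ := (Nat.dvd_prime_pow hp.1).1 h
  obtain rfl : k = 2 := by
    by_contra h'
    exact hc (isCyclic_of_card_dvd_prime (p := p) (e ▸ (pow_dvd_pow p (show k ≤ 1 by omega)).trans (by simp)))
  refine ⟨IsPGroup.isMulCommutative_of_card_eq_prime_sq e, ?_⟩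
  obtain ⟨u, hu⟩ := exists_prime_orderOf_dvd_card' (G := G) p (e ▸ dvd_pow_self p two_ne_zero)
  obtain ⟨v, hv⟩ : ∃ v, v ∉ Subgroup.zpowers u := by
    by_contra! h'
    exact hc ⟨u, h'⟩
  obtain ⟨l, hl, e'⟩ := (Nat.dvd_prime_pow hp.1).1 (e ▸ (Subgroup.closure {u, v}).card_subgroup_dvd_card)
  have h1 : Subgroup.zpowers u ≤ Subgroup.closure {u, v} := Subgroup.zpowers_le.2 (Subgroup.subset_closure (by simp))
  refine ⟨u, v, Subgroup.eq_top_of_card_eq _ (e'.trans (e ▸ congrArg _ (by_contra fun h' => hv ?_)))⟩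
  rw [Subgroup.eq_of_le_of_card_ge h1 (by
    rw [e', Nat.card_zpowers, hu]; exact (Nat.pow_le_pow_right hp.1.pos (show l ≤ 1 by omega)).trans (by simp))]
  exact Subgroup.subset_closure (by simp)

theorem rank_lt_small [Fact p.Prime] {G : Type*} [Group G] [Finite G] (hM : IsPModular p M) {B : Set (IrrCharacter G)}
    (hB : IsPBlock M B) {D : Subgroup G} (hD : IsDefectGroup p M B D) (hD1 : D ≠ ⊥) (h : Nat.card D ∣ p ^ 2) :
    blockRank p B < Nat.card D := by
  haveI := hM.2.1
  haveI := Fintype.ofFinite G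
  obtain ⟨h1, u, v, h2⟩ := two_gen h
  refine (not_le.1 fun e => hD1 ?_).trans_le (card_le_of_two_gen hM hB hD h1 h2)
  exact (hD.eq_bot_iff hM hB).2 (defect_zero_of_card_le_rank hM hB e)

theorem le_of_dvd_factorial [hp : Fact p.Prime] {a f w : ℕ} (hf : f < p * (w + 1)) (h : p ^ a ∣ f.factorial) :
    a ≤ padicValNat p w.factorial + w := by
  have := hp.1.pos
  rw [← padicValNat_factorial_mul, ← padicValNat_factorial_mul_add (n := p - 1) w (by omega)]
  exact (padicValNat_dvd_iff_le (Nat.factorial_ne_zero _)).1 (h.trans (Nat.factorial_dvd_factorial (by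
    rw [mul_add] at hf; omega)))

theorem v4_aux : (∀ a : ZMod 2 × ZMod 2, 2 • a = 0) ∧ ∀ a : ZMod 2 × ZMod 2, Perm.sign (Equiv.addRight a) = 1 := by
  decide

theorem rank_lt [hp : Fact p.Prime] (hM : IsPModular p M) {b : Set (IrrCharacter (alternatingGroup (Fin n)))}
    (hb : IsPBlock M b) {D : Subgroup (alternatingGroup (Fin n))} (hD : IsDefectGroup p M b D) (hD1 : D ≠ ⊥) {s : ℕ}
    (hs : SectionalPRankLE p s D) : blockRank p b < p ^ s := by
  classical
  haveI := hM.2.1
  haveI : Nontrivial (Fin n) := not_subsingleton_iff_nontrivial.1 fun _ => hD1 (Subsingleton.elim _ _)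
  have hi := alternatingGroup.index_eq_two (α := Fin n)
  let N := alternatingGroup (Fin n)
  obtain ⟨B, hB, hcov⟩ := exists_covers hb
  obtain ⟨P, hP, hPN⟩ := Cfsg.Agent.S4438.result p M hM N b hb (D.map N.subtype) (Subgroup.map_subtype_le _)
    (by rwa [Subgroup.subgroupOf, Subgroup.comap_map_eq_self_of_injective N.subtype_injective]) B hB (covers_iff.1 hcov)
  obtain ⟨c, hc⟩ := ct_eq_of_mem hM hB
  obtain ⟨χ, hχ, h0⟩ := hB.exists_height_zero p
  obtain ⟨S, hS, e⟩ := exists_chi_eq χ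
  obtain ⟨w, hw, hn, hu⟩ := exists_wt (p := p) hS
  obtain ⟨⟨f, hf, hf'⟩, hR⟩ := defect_struct hM hB hP hχ h0 hS e hw hn hu
  have h1 : 3 ≤ w → 2 * blockRank p B < p ^ w := fun h => by
    obtain ⟨c', a1, a2⟩ := cov_three hp.1.pos h
    exact (Nat.mul_le_mul_left _ (blockRank_le_cov hp.1 hS hw
      (fun T hT ψ hψ e' => (hc T hT ψ hψ e').trans (hc S hS χ hχ e).symm) a1)).trans_lt a2
  have h2 := rank_le_of_covers hM hi hB hb hcov
  have h3 : ∀ {A : Type} [AddCommGroup A] [Fintype A] [DecidableEq A], (∀ a : A, p • a = 0) →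
      (∀ a : A, Perm.sign (Equiv.addRight a) = 1) → ∀ k, k * Fintype.card A ≤ p * w → Fintype.card A ^ k ≤ p ^ s := by
    intro A _ _ _ a1 a2 k hk
    obtain ⟨R, F, r1, r2, r3, r4, r5, r6⟩ := exists_model a1 a2 (hk.trans hn)
    obtain ⟨x, hx⟩ := hR R F (fun a => ⟨1, Subtype.ext (by simpa using r2 _ a.2)⟩) (r5 ▸ hk) r6
    have hx' : cj x R ≤ N := (Subgroup.map_mono r1).trans (cj_normal x N).le
    have := Cfsg.Agent.S4534.aux hs (Q := (cj x R).subgroupOf N) (SubConj.of_le fun a ha => by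
      obtain ⟨d, hd, e⟩ := hPN.le ⟨hx ha, a.2⟩
      exact Subtype.ext e ▸ hd) (fun a ha => Subtype.ext ((MulAut.conj x⁻¹).injective (by
        rw [Subgroup.coe_pow, map_pow]; simpa using r2 _ (mem_cj.1 ha)))) fun a ha a' ha' => Subtype.ext ((MulAut.conj x⁻¹).injective (by
        simpa [mul_assoc] using r3 _ (mem_cj.1 ha) _ (mem_cj.1 ha')))
    rwa [Nat.card_congr (Subgroup.subgroupOfEquivOfLe hx').toEquiv, card_cj, r4] at this
  obtain ⟨d, hd⟩ := IsPGroup.iff_card.1 hD.isPGroup
  obtain ⟨a, ha⟩ := IsPGroup.iff_card.1 hP.isPGroup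
  have h4 := le_of_dvd_factorial hf (ha ▸ hf')
  have h5 : Nat.card D = Nat.card (P ⊓ N : Subgroup _) := by rw [hPN, Subgroup.card_map_of_injective N.subtype_injective]
  have h6 : d ≤ a := (Nat.pow_dvd_pow_iff_le_right hp.1.one_lt).1 (by
    rw [← hd, ← ha, h5]; exact Subgroup.card_dvd_of_le inf_le_left)
  have h7 : d ≤ 2 → d ≤ s → blockRank p b < p ^ s := fun a1 a2 =>
    (rank_lt_small hM hb hD hD1 (hd ▸ pow_dvd_pow p a1)).trans_le (hd ▸ Nat.pow_le_pow_right hp.1.pos a2)
  rcases hp.1.eq_two_or_odd' with rfl | ho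
  · have h8 := h3 (A := ZMod 2 × ZMod 2) v4_aux.1 v4_aux.2 (w / 2) (by simp; omega)
    have h9 : 2 * (w / 2) ≤ s := (Nat.pow_le_pow_iff_right one_lt_two).1 (by simpa [pow_mul] using h8)
    rcases lt_or_ge w 3 with h | h
    · have h10 : 1 ≤ w → d < a := fun h' => lt_of_le_of_ne h6 fun e' => by
        obtain ⟨i, j, hij⟩ := exists_pair_ne (Fin n)
        obtain ⟨x, hx⟩ := hR (Subgroup.zpowers (swap i j)) {i, j} (IsPGroup.of_card (n := 1) (by
          rw [Nat.card_zpowers, Perm.IsSwap.orderOf ⟨i, j, hij, rfl⟩]; rfl)) (card_le_two.trans (by omega))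
          (by rintro _ ⟨k, rfl⟩; exact (Perm.support_zpow_le _ k).trans (Perm.support_swap hij).le)
        have a1 : P ⊓ N = P := Subgroup.eq_of_le_of_card_ge inf_le_left (by rw [← h5, hd, ha, e'])
        have a2 := (a1.ge (hx (show x * swap i j * x⁻¹ ∈ cj x _ from mem_cj.2 (by simp [mul_assoc])))).2
        simp [N, Perm.sign_swap hij] at a2
      have h11 : d ≠ 0 := fun e' => hD1 (Subgroup.card_eq_one.1 (by rw [hd, e', pow_zero]))
      have h12 : padicValNat 2 2 = 1 := padicValNat_self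
      interval_cases w <;> simp [h12] at h4 h9 h10 <;> first | omega | exact h7 (by omega) (by omega)
    · have h10 := h1 h
      rcases Nat.even_or_odd w with ho | ho
      · have := Nat.pow_le_pow_right two_pos (show w ≤ s by have := Nat.even_iff.1 ho; omega)
        omega
      · have h11 := rank_le_of_covers' hM hi hB hb hcov fun ψ hψ => by
          obtain ⟨T, hT, e'⟩ := exists_chi_eq ψ
          obtain ⟨w', hw', hn', hu'⟩ := exists_wt (p := 2) hT
          obtain rfl := hw.congr two_pos hS hT ((hc S hS χ hχ e).trans (hc T hT ψ hψ e').symm) hw'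
          obtain ⟨u, u1, -⟩ := exists_u (F := univ) (p := 2) (w := w) (by simpa using hn)
          refine ⟨u, fun h => ?_, e' ▸ hu' u u1⟩
          rw [Perm.mem_alternatingGroup, Perm.sign_of_cycleType, u1, Odd.neg_one_pow (by simpa [Nat.odd_add'] using ho)] at h
          exact absurd h (by decide)
        have := Nat.pow_le_pow_right two_pos (show w ≤ s + 1 by omega)
        rw [pow_succ] at this
        omega
  · haveI : NeZero p := ⟨hp.1.ne_zero⟩
    have h8 := h3 (A := ZMod p) (by simp) (fun a => by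
      have := congrArg Perm.sign (show Equiv.addRight a ^ p = 1 by simp)
      rwa [map_pow, map_one, Int.units_pow_eq_pow_mod_two, Nat.odd_iff.1 ho, pow_one] at this) w (by simp [mul_comm])
    rw [ZMod.card] at h8
    rcases lt_or_ge w 3 with h | h
    · have h9 := (Nat.pow_le_pow_iff_right hp.1.one_lt).1 h8
      rw [padicValNat.eq_zero_of_not_dvd (by
        rw [hp.1.dvd_factorial]; have := hp.1.two_le; have := Nat.odd_iff.1 ho; omega)] at h4
      exact h7 (by omega) (by omega)
    · have := h1 h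
      omega

end H21.An
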