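import Cfsg.Agent.H21.An4
import Cfsg.Agent.H21.An5

/-!
Nakayama's conjecture and heights in symmetric groups (namespace `H21.An`).
* `mem_of_prop`, `fact_deg` (any group)
* `Ab` (abacus data), `Rp` (representation of a character on the abacus), `Ab.defect`, `Ab.height`, `Ab.nakayama`
-/

set_option autoImplicit false
set_option linter.unusedSectionVars false
set_option linter.unusedVariables false

open MvPolynomial Finset Equiv Cfsg H05 H20 H21 H24.Sym

namespace H21.An

variable {n p w : ℕ} {M : Ideal AlgInt}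

theorem mem_of_prop {G : Type*} [Group G] [Finite G] [M.IsMaximal] (hM : IsPModular p M) {B : Set (IrrCharacter G)} (hB : IsPBlock M B)
    {χ ψ : IrrCharacter G} (hχ : χ ∈ B) (h0 : blockHeight p B χ.1 = 0)
    (hd : (charDegree ψ.1).factorization p = (charDegree χ.1).factorization p) {K L : ℤ} (hL : ¬ (p : ℤ) ∣ L)
    (h : ∀ g, (eB M B).coeff g ≠ 0 → (Nat.card (Subgroup.centralizer ({g} : Set G))).factorization p = blockDefect p B →
      MemLocalIdeal M (K * ψ.1 g - L * χ.1 g)) : ψ ∈ B := by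
  have a1 := charDegree_ne_zero' χ
  have a2 := charDegree_ne_zero' ψ
  have h1 : MemLocalRing M ((charDegree ψ.1 : ℂ) / charDegree χ.1 * K) :=
    ring_mul ((ring_div_natCast_iff hM a2 a1).2 hd.ge) (ring_intCast K)
  have := lam_ext_classSum (φ := fun z => red M ((charDegree ψ.1 : ℂ) / charDegree χ.1 * K) * lam M ψ.1 z)
    (ψ := fun z => red M L * lam M χ.1 z) (fun a b ha hb => by rw [lam_add ψ.2 ha hb, mul_add])
    (fun c a ha => by rw [lam_smul ψ.2 ha, mul_left_comm]) (fun a b ha hb => by rw [lam_add χ.2 ha hb, mul_add])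
    (fun c a ha => by rw [lam_smul χ.2 ha, mul_left_comm]) (isCen_eB (M := M) (B := B)) fun g hg => by
      rw [lam_classSum ψ.2, lam_classSum χ.2, ← red_mul h1 (ring_centralChar ψ.2 g),
        ← red_mul (ring_intCast L) (ring_centralChar χ.2 g), red_eq_iff (ring_mul h1 (ring_centralChar ψ.2 g))
          (ring_mul (ring_intCast L) (ring_centralChar χ.2 g)), centralChar_eq_div_mul, centralChar_eq_div_mul,
        show ∀ i x y : ℂ, (charDegree ψ.1 : ℂ) / charDegree χ.1 * K * (i / charDegree ψ.1 * x) - L * (i / charDegree χ.1 * y) =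
          i / charDegree χ.1 * (K * x - L * y) from fun i x y => by field_simp]
      obtain ⟨ξ, hξ, b1⟩ := hB.factorization_centralizer_le hM (hB.coeff_eB_eq_zero_iff g |>.not.1 hg)
      have b2 := factorization_degree_add p hξ
      have b3 := factorization_degree_add p hχ
      have b4 := factorization_index_add (p := p) (Subgroup.centralizer ({g} : Set G))
      by_cases e : (Nat.card (Subgroup.centralizer ({g} : Set G))).factorization p = blockDefect p B
      · exact ideal_mul_left ((ring_div_natCast_iff hM Subgroup.index_ne_zero_of_finite a1).2 (by omega)) (h g hg e)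
      · exact ideal_mul_right ((ideal_div_natCast_iff hM Subgroup.index_ne_zero_of_finite a1).2 (by omega))
          (ring_sub (ring_mul (ring_intCast K) (ring_of_isIntegral (ψ.2.isCharacter.isIntegral g)))
            (ring_mul (ring_intCast L) (ring_of_isIntegral (χ.2.isCharacter.isIntegral g))))
  refine hB.mem_of_lam_eB_ne_zero fun e => hL ?_
  rw [e, mul_zero, hB.lam_eB_of_mem hχ, mul_one, eq_comm, red_eq_zero_iff (ring_intCast L)] at this
  exact (ideal_intCast_iff hM).1 this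

theorem fact_deg {G : Type*} [Group G] [Finite G] (hM : IsPModular p M) (χ : IrrCharacter G) {g : G} {z : ℤ}
    (hz : χ.1 g = z) (h : ¬ MemLocalIdeal M (centralChar χ.1 g)) : (charDegree χ.1).factorization p =
      (Subgroup.centralizer ({g} : Set G)).index.factorization p + z.natAbs.factorization p := by
  haveI := hM.2.1
  have h1 := ring_centralChar (M := M) χ.2 g
  have h2 : z.natAbs ≠ 0 := fun e => h (by
    rw [centralChar_eq_div_mul, hz, Int.natAbs_eq_zero.1 e]; simpa using ideal_zero)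
  have h3 := mul_ne_zero (Subgroup.index_ne_zero_of_finite (H := Subgroup.centralizer ({g} : Set G))) h2
  rw [← Finsupp.add_apply, ← Nat.factorization_mul Subgroup.index_ne_zero_of_finite h2]
  refine le_antisymm ((ring_div_natCast_iff hM h3 (charDegree_ne_zero' χ)).1 ?_)
    (not_lt.1 fun e => h ?_)
  · rw [centralChar_eq_div_mul, hz] at h1
    rcases Int.natAbs_eq z with e | e <;> rw [e] at h1
    · convert h1 using 1; simp; ring
    · convert ring_neg h1 using 1; simp; ring
  · have := (ideal_div_natCast_iff hM h3 (charDegree_ne_zero' χ)).2 e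
    rw [centralChar_eq_div_mul, hz]
    rcases Int.natAbs_eq z with e | e <;> rw [e]
    · convert this using 1; simp; ring
    · convert ideal_neg this using 1; simp; ring

/-- abacus data -/
structure Ab (p w : ℕ) (S : Fin n → ℕ) : Prop where
  mem : S ∈ SS n (n + ∑ i : Fin n, i.val)
  wt : Wt p S w
  le : p * w ≤ n
  ne : ∀ u : Perm (Fin n), u.cycleType = Multiset.replicate w p → chi n S u ≠ 0

/-- runners -/
def eS (p : ℕ) (S : Fin n → ℕ) : Fin n → ℕ := fun i => S i % p

/-- core -/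
def qS (p : ℕ) (S : Fin n → ℕ) : Fin n → ℕ := rho (eS p S) fun i => S i / p

/-- representation of a character on the abacus -/
def Rp (p w : ℕ) (S : Fin n → ℕ) (χ : Perm (Fin n) → ℂ) (q : Fin n → ℕ) : Prop :=
  (∀ i j, eS p S i = eS p S j → qS p S i < qS p S j → q i < q j) ∧ ∑ i, q i = ∑ i, qS p S i + w ∧
    ∃ s : ℤˣ, ∀ σ, χ σ = ((s * XS (fun i => eS p S i + p * q i) σ : ℤ) : ℂ)

variable [hp : Fact p.Prime] {S T q : Fin n → ℕ}

theorem exists_ab (hS : S ∈ SS n (n + ∑ i : Fin n, i.val)) : ∃ w, Ab p w S := by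
  obtain ⟨w, h1, h2, h3⟩ := exists_wt (p := p) hS
  exact ⟨w, hS, h1, h2, h3⟩

theorem Ab.congr (h : Ab p w S) (hT : T ∈ SS n (n + ∑ i : Fin n, i.val)) (e : ct p T = ct p S) : Ab p w T := by
  obtain ⟨w', h'⟩ := exists_ab (p := p) hT
  rwa [h.wt.congr hp.1.pos h.mem hT e.symm h'.wt]

theorem eS_lt (i : Fin n) : eS p S i < p := Nat.mod_lt _ hp.1.pos

theorem Ab.core (h : Ab p w S) : Core (eS p S) (qS p S) := core_of_inj p (mem_SS.1 h.mem).2.injective

theorem Ab.sum (h : Ab p w S) : ∑ i, (eS p S i + p * qS p S i) + p * w = n + ∑ i : Fin n, i.val := by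
  rw [← (mem_SS.1 h.mem).1, sum_mod_div p S, h.wt, sum_add_distrib, ← mul_sum, mul_add, add_assoc]; rfl

theorem XS_comp (b : Fin n → ℕ) (τ σ : Perm (Fin n)) : XS (b ∘ τ) σ = Perm.sign τ * XS b σ := (alt_PP σ).cf_comp τ b

theorem Ab.rp (h : Ab p w S) (hT : T ∈ SS n (n + ∑ i : Fin n, i.val)) (e : ct p T = ct p S) : ∃ q, Rp p w S (chi n T) q := by
  obtain ⟨τ, hτ⟩ := exists_equiv_fib (eS p S) (fun i => T i % p) fun r => (congrFun e r).symm
  obtain ⟨σ, h1, h2⟩ := (core_rho (ε := eS p S) (q := fun i => T (τ i) / p) fun i j e e' => τ.injective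
    ((mem_SS.1 hT).2.injective (by rw [← Nat.mod_add_div (T (τ i)) p, hτ, e, e', ← hτ, Nat.mod_add_div]))).exists_perm h.core
  have h3 : (fun i => eS p S i + p * (T (τ (σ i)) / p)) = T ∘ (τ * σ) := funext fun i => by
    rw [← congrFun h1 i, Function.comp_apply, ← hτ, Nat.mod_add_div]; rfl
  refine ⟨fun i => T (τ (σ i)) / p, fun i j a b => lt_of_rho_lt (q := fun i => T (τ i) / p) _ _
    ((congrFun h1 i).trans (a.trans (congrFun h1 j).symm)) (by rwa [h2] at b), ?_, Perm.sign (τ * σ), fun g => ?_⟩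
  · have h4 := h.sum
    rw [← (mem_SS.1 hT).1, ← Equiv.sum_comp (τ * σ) T, ← show ∑ i, (eS p S i + p * (T (τ (σ i)) / p)) =
      ∑ i, T ((τ * σ) i) from sum_congr rfl fun i _ => congrFun h3 i, sum_add_distrib,
      sum_add_distrib, add_assoc, add_right_inj, ← mul_sum, ← mul_sum, ← mul_add] at h4
    exact (Nat.eq_of_mul_eq_mul_left hp.1.pos h4).symm
  · rw [h3, XS_comp, ← mul_assoc, Int.units_coe_mul_self, one_mul, chi]

theorem Ab.exists_rp (h : Ab p w S) (h1 : ∀ i j, eS p S i = eS p S j → qS p S i < qS p S j → q i < q j)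
    (h2 : ∑ i, q i = ∑ i, qS p S i + w) : ∃ T ∈ SS n (n + ∑ i : Fin n, i.val), ct p T = ct p S ∧ Rp p w S (chi n T) q := by
  obtain ⟨τ, hτ⟩ := exists_sort (core_inj (q := q) (eS_lt (S := S)) fun i j e e' => by
    rcases lt_trichotomy (qS p S i) (qS p S j) with a | a | a
    exacts [absurd e' (h1 i j e a).ne, h.core.1 i j e a, absurd e' (h1 j i e.symm a).ne'])
  refine ⟨_, mem_SS.2 ⟨?_, hτ⟩, ?_, h1, h2, Perm.sign τ, fun σ => by rw [chi, XS_comp]⟩
  · rw [← h.sum, show ∑ i, ((fun i => eS p S i + p * q i) ∘ τ) i = _ from Equiv.sum_comp τ fun i => eS p S i + p * q i]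
    simp only [sum_add_distrib, ← mul_sum, h2]; ring
  · rw [ct_comp]; ext r; simp [ct, eS]

variable (p w S) in
/-- value of the core character -/
noncomputable def XX (k : ℕ) (g : Perm (Fin n)) : ℤ := cf (fun i => eS p S i + p * qS p S i)
  ((g.cycleType.map (psum (Fin n) ℤ)).prod * psum (Fin n) ℤ 1 ^ k * alt Fin.val)

theorem alt_XX (s : Multiset ℕ) (k : ℕ) : Alt ((s.map (psum (Fin n) ℤ)).prod * psum (Fin n) ℤ 1 ^ k * alt Fin.val) :=
  (alt_alt _).mul fun τ => by rw [map_mul, map_pow, map_multiset_prod, Multiset.map_map, rename_psum]; simp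

theorem Rp.apply {χ : Perm (Fin n) → ℂ} (h : Ab p w S) (hq : Rp p w S χ q) : ∃ K : ℤ, K.natAbs = (KK (eS p S) (qS p S) w q).natAbs ∧
    ∀ u g : Perm (Fin n), u.cycleType = Multiset.replicate w p → Perm.Disjoint u g →
      χ (u * g) = ((K * XX p S (n - (w * p + g.cycleType.sum)) g : ℤ) : ℂ) := by
  obtain ⟨-, h1, s, h2⟩ := hq
  refine ⟨s * KK (eS p S) (qS p S) w q, by simp [Int.natAbs_mul], fun u g hu hd => ?_⟩
  rw [h2, mul_assoc, XX, ← cf_eq_KK eS_lt h.core h1 (alt_XX _ _), XS, PP_cycleType, hd.cycleType_mul, hu]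
  simp only [Multiset.map_add, Multiset.prod_add, Multiset.map_replicate, Multiset.prod_replicate, Multiset.sum_add,
    Multiset.sum_replicate, smul_eq_mul, Fintype.card_fin]
  rw [mul_comm (alt _), mul_assoc (psum _ _ _ ^ w), mul_assoc (psum _ _ _ ^ w)]

variable {B : Set (IrrCharacter (Perm (Fin n)))} {χ : IrrCharacter (Perm (Fin n))}

theorem Ab.exists_u (h : Ab p w S) (hM : IsPModular p M) (hB : IsPBlock M B) {D : Subgroup (Perm (Fin n))}
    (hD : IsDefectGroup p M B D) (hχ : χ ∈ B) (e : χ.1 = chi n S) {y : Perm (Fin n)} (hy : ¬ p ∣ orderOf y)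
    (hD' : D ≤ Subgroup.centralizer {y}) : p * w ≤ #y.supportᶜ := by
  obtain ⟨u, u1, u2, u3, -⟩ := An.exists_u (F := univ) (p := p) (w := w) (by simpa using h.le)
  obtain ⟨Q, q1, q2, q3, q4⟩ := exists_Q u2
  obtain ⟨t, ht⟩ := subConj_of_apply hM hB hD hχ ((Nat.dvd_prime_pow hp.1).1
    (orderOf_dvd_of_pow_eq_one ((pow_one p).symm ▸ u2)) |>.imp fun _ h => h.2) (e ▸ h.ne u u1) q1 q2
  rw [← u3, card_compl, ← Perm.card_support_conj (σ := t⁻¹) (τ := y), ← card_compl]
  refine card_le_card fun a ha => mem_compl.2 (Perm.notMem_support.2 (fix_of_commute hp.1 u2 ?_ ha ?_))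
  · rwa [show orderOf (t⁻¹ * y * t⁻¹⁻¹) = orderOf y from (MulAut.conj t⁻¹).orderOf_eq y]
  · have := Subgroup.mem_centralizer_singleton_iff.1 (hD' (ht (show t * u.cycleOf a * t⁻¹ ∈ cj t Q from
      mem_cj.2 (by simpa [mul_assoc] using q4 a))))
    exact (MulAut.conj t).injective (by simpa [mul_assoc] using this.symm)

theorem exists_u' {y : Perm (Fin n)} (h : p * w ≤ #y.supportᶜ) :
    ∃ u : Perm (Fin n), u.cycleType = Multiset.replicate w p ∧ orderOf u ∣ p ∧ Perm.Disjoint u y := by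
  obtain ⟨u, u1, u2, -, u4⟩ := An.exists_u h
  exact ⟨u, u1, orderOf_dvd_of_pow_eq_one u2,
    Perm.disjoint_iff_disjoint_support.2 (disjoint_left.2 fun a ha => mem_compl.1 (u4 ha))⟩

theorem le_fact_cent {u y : Perm (Fin n)} (hu : u.cycleType = Multiset.replicate w p) (hd : Perm.Disjoint u y) :
    padicValNat p w.factorial + w ≤ (Nat.card (Subgroup.centralizer ({u * y} : Set (Perm (Fin n))))).factorization p := by
  rw [← padicValNat_factorial_mul, ← Nat.factorization_def _ hp.1]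
  have h1 : p ^ w * w.factorial ∣ Nat.card (Subgroup.centralizer ({u * y} : Set (Perm (Fin n)))) := by
    rw [Perm.nat_card_centralizer, hd.cycleType_mul, hu, mul_assoc]
    refine (mul_dvd_mul (by simp) ?_).mul_left _
    rcases w with _ | w
    · simp
    · exact (Nat.factorial_dvd_factorial (by simp)).trans (dvd_prod_of_mem _ (a := p) (by simp))
  refine le_trans (le_of_eq ?_) ((Nat.factorization_le_iff_dvd (mul_ne_zero (pow_ne_zero _ hp.1.ne_zero)
    (Nat.factorial_ne_zero _)) Nat.card_pos.ne').2 h1 p)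
  rw [Nat.factorization_mul (pow_ne_zero _ hp.1.ne_zero) (Nat.factorial_ne_zero _), Nat.factorization_def _ hp.1,
    padicValNat_factorial_mul, Finsupp.add_apply, Nat.factorization_def _ hp.1, Nat.factorization_def _ hp.1]
  simp [add_comm]

theorem cent_mul_le {G : Type*} [Group G] {u y : G} (h : Commute u y) (hc : (orderOf u).Coprime (orderOf y)) :
    Subgroup.centralizer {u * y} ≤ Subgroup.centralizer {u} ⊓ Subgroup.centralizer {y} := fun x hx => by
  have h1 : u * y ∈ Subgroup.centralizer {x} := Subgroup.mem_centralizer_singleton_iff.2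
    (Subgroup.mem_centralizer_singleton_iff.1 hx).symm
  have h2 : u ∈ Subgroup.centralizer {x} := mem_of_pow_mem' (k := orderOf y)
    (by simpa [h.mul_pow] using pow_mem h1 (orderOf y)) hc.symm
  exact ⟨Subgroup.mem_centralizer_singleton_iff.2 (Subgroup.mem_centralizer_singleton_iff.1 h2).symm,
    Subgroup.mem_centralizer_singleton_iff.2 (Subgroup.mem_centralizer_singleton_iff.1 ((mul_mem_cancel_left h2).1 h1)).symm⟩

theorem Ab.ct_eq (h : Ab p w S) (hM : IsPModular p M) (hB : IsPBlock M B) (hχ : χ ∈ B) (e : χ.1 = chi n S)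
    {ψ : IrrCharacter (Perm (Fin n))} (hψ : ψ ∈ B) :
    ∃ T ∈ SS n (n + ∑ i : Fin n, i.val), ψ.1 = chi n T ∧ ct p T = ct p S := by
  obtain ⟨c, hc⟩ := ct_eq_of_mem hM hB
  obtain ⟨T, hT, e'⟩ := exists_chi_eq ψ
  exact ⟨T, hT, e', (hc T hT ψ hψ e').trans (hc S h.mem χ hχ e).symm⟩

theorem Ab.defect (h : Ab p w S) (hM : IsPModular p M) (hB : IsPBlock M B) (hχ : χ ∈ B) (e : χ.1 = chi n S) :
    blockDefect p B = padicValNat p w.factorial + w := by
  haveI := hM.2.1
  obtain ⟨D, hD⟩ := hB.exists_isDefectGroup p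
  obtain ⟨ψ, hψ, h0⟩ := hB.exists_height_zero p
  obtain ⟨T, hT, e1, e2⟩ := h.ct_eq hM hB hχ e hψ
  have h' := h.congr hT e2
  obtain ⟨⟨f, f1, f2⟩, -⟩ := defect_struct hM hB hD hψ h0 hT e1 h'.wt h'.le h'.ne
  refine le_antisymm (le_of_dvd_factorial f1 (hD.card_eq hM hB ▸ f2)) ?_
  obtain ⟨y, hy, hS⟩ := isDefectGroup_iff.1 hD
  obtain ⟨u, u1, u2, u3⟩ := exists_u' (h.exists_u hM hB hD hχ e (hy.not_dvd hM hB) hS.le)
  rw [← hy.factorization_centralizer hM hB]
  exact (le_fact_cent u1 u3).trans ((Nat.factorization_le_iff_dvd Nat.card_pos.ne' Nat.card_pos.ne').2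
    (Subgroup.card_dvd_of_le ((cent_mul_le u3.commute ((hp.1.coprime_iff_not_dvd.2 (hy.not_dvd hM hB)).coprime_dvd_left
      u2)).trans inf_le_right)) p)

theorem Ab.height (h : Ab p w S) (hT : T ∈ SS n (n + ∑ i : Fin n, i.val)) (e' : ct p T = ct p S) (hM : IsPModular p M)
    (hB : IsPBlock M B) (hχ : χ ∈ B) (e : χ.1 = chi n T) {ψ : IrrCharacter (Perm (Fin n))} (hψ : ψ ∈ B) (hq : Rp p w S ψ.1 q) :
    blockHeight p B ψ.1 = (KK (eS p S) (qS p S) w q).natAbs.factorization p := by
  haveI := hM.2.1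
  have h' := h.congr hT e'
  obtain ⟨D, hD⟩ := hB.exists_isDefectGroup p
  obtain ⟨y, hy, hS⟩ := isDefectGroup_iff.1 hD
  obtain ⟨u, u1, u2, u3⟩ := exists_u' (h'.exists_u hM hB hD hχ e (hy.not_dvd hM hB) hS.le)
  have h1 := cent_mul_le u3.commute ((hp.1.coprime_iff_not_dvd.2 (hy.not_dvd hM hB)).coprime_dvd_left u2)
  have h2 : (Nat.card (Subgroup.centralizer ({u * y} : Set (Perm (Fin n))))).factorization p = blockDefect p B :=
    le_antisymm (hy.factorization_centralizer hM hB ▸ (Nat.factorization_le_iff_dvd Nat.card_pos.ne' Nat.card_pos.ne').2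
      (Subgroup.card_dvd_of_le (h1.trans inf_le_right)) p) (h'.defect hM hB hχ e ▸ le_fact_cent u1 u3)
  obtain ⟨E, hE, hu⟩ := exists_sylIn_ge (Q := Subgroup.zpowers u) (H := Subgroup.centralizer {u * y})
    (IsPGroup.iff_card.2 (((Nat.dvd_prime_pow hp.1).1 (by rw [Nat.card_zpowers, pow_one]; exact u2 : _ ∣ p ^ 1)).imp
      fun _ h => h.2))
    (Subgroup.zpowers_le.2 (Subgroup.mem_centralizer_singleton_iff.2 ((Commute.refl u).mul_right u3.commute)))
  have h3 : ∀ {ψ : IrrCharacter (Perm (Fin n))} {q}, ψ ∈ B → Rp p w S ψ.1 q → blockHeight p B ψ.1 =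
      (KK (eS p S) (qS p S) w q).natAbs.factorization p +
        (XX p S (n - (w * p + y.cycleType.sum)) y).natAbs.factorization p := fun {ψ q} hψ hq => by
    obtain ⟨K, k1, k2⟩ := hq.apply h
    have a1 := not_ideal_centralChar_mul_defectClass hM hB hy (sylIn_of_card (hE.le.trans (h1.trans inf_le_right))
      (by rw [hE.card_eq, h2, hy.factorization_centralizer hM hB])) (hu (Subgroup.mem_zpowers u))
      (fun x hx => (Subgroup.mem_centralizer_singleton_iff.1 (h1 (hE.le hx)).1).symm) hψ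
    have a2 := fact_deg hM ψ (k2 u y u1 u3) a1
    have a3 : K * XX p S (n - (w * p + y.cycleType.sum)) y ≠ 0 := fun e => a1 (by
      rw [centralChar_eq_div_mul, k2 u y u1 u3, e]; simpa using ideal_zero)
    rw [Int.natAbs_mul, Nat.factorization_mul (by simpa using left_ne_zero_of_mul a3)
      (by simpa using right_ne_zero_of_mul a3), Finsupp.add_apply, k1] at a2
    have := factorization_degree_add p hψ
    have := factorization_index_add (p := p) (Subgroup.centralizer ({u * y} : Set (Perm (Fin n))))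
    omega
  obtain ⟨ξ, hξ, h0⟩ := hB.exists_height_zero p
  obtain ⟨U, hU, e1, e2⟩ := h'.ct_eq hM hB hχ e hξ
  obtain ⟨q', hq'⟩ := h.rp hU (e2.trans e')
  have := h3 hξ (e1 ▸ hq')
  have := h3 hψ hq
  omega

theorem Ab.nakayama (h : Ab p w S) (hM : IsPModular p M) (hB : IsPBlock M B) (hχ : χ ∈ B) (e : χ.1 = chi n S)
    (hT : T ∈ SS n (n + ∑ i : Fin n, i.val)) (e' : ct p T = ct p S) : (⟨_, isIrr_chi hT⟩ : IrrCharacter _) ∈ B := by
  haveI := hM.2.1
  have hB' := isPBlock_blockOf (M := M) (⟨_, isIrr_chi hT⟩ : IrrCharacter _)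
  have h' := h.congr hT e'
  obtain ⟨ξ, hξ, h0⟩ := hB.exists_height_zero p
  obtain ⟨ξ', hξ', h0'⟩ := hB'.exists_height_zero p
  obtain ⟨U, hU, e1, e2⟩ := h.ct_eq hM hB hχ e hξ
  obtain ⟨U', hU', e1', e2'⟩ := h'.ct_eq hM hB' (mem_blockOf_self _) rfl hξ'
  obtain ⟨q, hq⟩ := h.rp hU e2
  obtain ⟨q', hq'⟩ := h.rp hU' (e2'.trans e')
  obtain ⟨K, k1, k2⟩ := hq.apply h
  obtain ⟨K', k1', k2'⟩ := hq'.apply h
  have a1 := factorization_degree_add p hξ
  have a2 := factorization_degree_add p hξ'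
  have a3 := h.defect hM hB hχ e
  have a4 := h'.defect hM hB' (mem_blockOf_self _) rfl
  have a5 := h.height hT e' hM hB' (mem_blockOf_self _) rfl hξ' (e1' ▸ hq')
  have a6 : K' ≠ 0 := fun e0 => by
    obtain ⟨u, u1, -, u3⟩ := exists_u' (p := p) (w := w) (y := (1 : Perm (Fin n))) (by simpa using h.le)
    exact (h'.congr hU' e2').ne u u1 (by simpa [e0] using k2' u 1 u1 u3)
  obtain ⟨D, hD⟩ := hB.exists_isDefectGroup p
  have := mem_of_prop (ψ := ξ') (K := K) (L := K') hM hB hξ h0 (by omega) (fun a => by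
    rw [← k1', h0', eq_comm, Nat.factorization_eq_zero_iff] at a5
    simp [hp.1, a6, ← Int.natCast_dvd, a] at a5) fun g hg hc => by
      obtain ⟨R, hR⟩ := exists_sylIn p (Subgroup.centralizer {g})
      have b1 := hD.of_subConj_of_card hB (hD.subConj_of_coeff hM hB hR.isPGroup (le_centralizer_singleton_iff.1 hR.le) hg)
        (by rw [hR.card_eq, hc, hD.card_eq hM hB])
      obtain ⟨u, u1, u2, u3⟩ := exists_u' (h.exists_u hM hB b1 hχ e (hB.not_dvd_of_coeff_eB_ne_zero hM hg) hR.le)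
      have b2 : ∃ k, orderOf u = p ^ k := ((Nat.dvd_prime_pow hp.1).1 ((pow_one p).symm ▸ u2)).imp fun _ h => h.2
      have b3 := ideal_sub (ideal_mul_left (ring_intCast K') (ideal_sub_of_commute hM ξ.2.isCharacter b2 u3.commute))
        (ideal_mul_left (ring_intCast K) (ideal_sub_of_commute hM ξ'.2.isCharacter b2 u3.commute))
      rw [e1, e1', k2 u g u1 u3, k2' u g u1 u3] at b3
      rw [e1, e1']
      convert b3 using 1
      push_cast; ring
  rw [hB.eq_of_mem hB' this hξ']
  exact mem_blockOf_self _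

end H21.An
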