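import Cfsg.Agent.H21.An6
import Cfsg.Agent.H21.An7

/-!
Heights in blocks of symmetric and alternating groups (namespace `H21.An`).
* `deg_index_two`, `height_index_two`
* `Ab.supp`, `Ab.deg_p`, `Ab.exists_height_one`
-/

set_option autoImplicit false
set_option linter.unusedSectionVars false
set_option linter.unusedVariables false

open MvPolynomial Finset Equiv Cfsg H05 H20 H21 H24.Sym Classical

namespace H21.An

theorem deg_index_two {G : Type*} [Group G] [Finite G] {N : Subgroup G} [hN : N.Normal] (h2 : N.index = 2)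
    {χ : IrrCharacter G} {θ : IrrCharacter N} (h : Over N χ.1 θ) : charDegree χ.1 = charDegree θ.1 ∨
      charDegree χ.1 = 2 * charDegree θ.1 ∧ ∀ u, u ∉ N → χ.1 u = 0 := by
  haveI := Fintype.ofFinite G
  obtain ⟨s, hs⟩ : ∃ s, s ∉ N := by
    by_contra! e
    simp [(Subgroup.eq_top_iff' N).2 e] at h2
  have h0 := over_iff.1 h
  have h1 := Cfsg.Agent.S0174.result N hN _ χ.2 _ θ.2 h0
  obtain ⟨m, hm⟩ := (χ.2.isCharacter.comp N.subtype).exists_classInner_eq_nat θ.2.isCharacter
  change classInner (fun x : N => χ.1 x) θ.1 = m at hm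
  let θ' := irrComap (MulAut.conjNormal s : N ≃* N) θ
  rw [show {ψ : N → ℂ | ∃ g : G, ψ = fun n : N => θ.1 ⟨g * n * g⁻¹, hN.conj_mem n n.2 g⟩} = {θ.1, θ'.1} by
    ext ψ
    refine ⟨?_, ?_⟩
    · rintro ⟨g, rfl⟩
      by_cases hg : g ∈ N
      · exact .inl (funext fun x => θ.2.isClassFunction x ⟨g, hg⟩)
      · have h3 : g * s⁻¹ ∈ N := (Subgroup.mul_mem_iff_of_index_two h2).2 (by simp [hg, hs])
        refine .inr (funext fun x => (congrArg θ.1 (Subtype.ext ?_)).trans
          (θ.2.isClassFunction (MulAut.conjNormal s x) ⟨_, h3⟩))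
        simp [mul_assoc]
    · rintro (rfl | rfl)
      exacts [⟨1, by simp⟩, ⟨s, rfl⟩], hm] at h1
  rw [hm] at h0
  have h3 : ∀ r : ℝ, (classInner (fun x : N => χ.1 x) fun x : N => χ.1 x).re = r → ∀ u, u ∉ N →
      ‖χ.1 u‖ ^ 2 + Nat.card N * r ≤ Nat.card N * 2 := fun r h4 u hu => by
    have h5 := congrArg Complex.re χ.2.classInner_self
    rw [classInner_self_re, inv_mul_eq_iff_eq_mul₀ (by simp)] at h4 h5
    rw [← sum_subtype (univ.filter (· ∈ N)) (by simp) fun g => ‖χ.1 g‖ ^ 2] at h4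
    rw [← sum_filter_add_sum_filter_not univ (· ∈ N), h4, ← N.card_mul_index, h2] at h5
    have h6 := single_le_sum (s := univ.filter (· ∉ N)) (f := fun g => ‖χ.1 g‖ ^ 2) (fun _ _ => by positivity)
      (a := u) (by simpa using hu)
    simp only [Complex.one_re, Nat.cast_mul, Nat.cast_ofNat] at h5 h6
    linarith
  have h4 : ∀ k : ℕ, 0 < k → ((classInner (fun x : N => χ.1 x) fun x : N => χ.1 x).re = m * m * k) → m = 1 := fun k hk e => by
    have a1 := h3 _ e s hs
    have a2 : (0 : ℝ) < Nat.card N := by exact_mod_cast Nat.card_pos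
    have a3 : m * m * k ≤ 2 := by exact_mod_cast le_of_mul_le_mul_left (le_trans (le_add_of_nonneg_left (by positivity)) a1) a2
    have : m ≠ 0 := by simpa using h0
    have : m * m ≤ 2 := (Nat.le_mul_of_pos_right _ hk).trans a3
    exact le_antisymm (by nlinarith) (by omega)
  have h5 := congrFun h1 1
  by_cases e : θ.1 = θ'.1
  · rw [← e, Set.pair_eq_singleton, finsum_mem_singleton] at h1 h5
    obtain rfl := h4 1 one_pos (by
      rw [h1, classInner_smul_left, classInner_natCast_smul_right, θ.2.classInner_self]; simp)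
    left
    simpa [← χ.2.charDegree_eq, ← θ.2.charDegree_eq] using h5
  rw [finsum_mem_pair e] at h1 h5
  have h6 : (classInner (fun x : N => χ.1 x) fun x : N => χ.1 x).re = m * m * (2 : ℕ) := by
    rw [h1, classInner_smul_left, classInner_natCast_smul_right, classInner_add_left, classInner_add_right,
      classInner_add_right, θ.2.classInner_self, θ'.2.classInner_self, θ.2.classInner_of_ne θ'.2 e,
      θ'.2.classInner_of_ne θ.2 (Ne.symm e)]
    simp; ring
  obtain rfl := h4 2 two_pos h6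
  refine .inr ⟨?_, fun u hu => ?_⟩
  · have : θ'.1 1 = θ.1 1 := congrArg θ.1 (map_one _)
    simp only [Nat.cast_one, one_smul, Pi.add_apply, this, OneMemClass.coe_one, ← χ.2.charDegree_eq,
      ← θ.2.charDegree_eq] at h5
    exact_mod_cast h5.trans (two_mul _).symm
  · simpa using h3 _ h6 u hu

variable {n p w : ℕ} [hp : Fact p.Prime] {M : Ideal AlgInt}

theorem height_index_two {G : Type*} [Group G] [Finite G] {N : Subgroup G} [hN : N.Normal] (h2 : N.index = 2)
    (hM : IsPModular p M) {B : Set (IrrCharacter G)} {b : Set (IrrCharacter N)} (hB : IsPBlock M B) (hb : IsPBlock M b)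
    {P : Subgroup G} {D : Subgroup N} (hP : IsDefectGroup p M B P) (hD : IsDefectGroup p M b D)
    (e : P ⊓ N = D.map N.subtype) : (¬ P ≤ N → blockDefect p b < blockDefect p B) ∧
    ∀ χ ∈ B, ∀ θ ∈ b, Over N χ.1 θ → (p = 2 → ¬ P ≤ N ∧ ∃ u, u ∉ N ∧ χ.1 u ≠ 0) →
      blockHeight p b θ.1 = blockHeight p B χ.1 := by
  have h1 : (N.subgroupOf P).index.factorization p + blockDefect p b = blockDefect p B := by
    have := factorization_index_add (p := p) (N.subgroupOf P)
    rwa [show Nat.card (N.subgroupOf P) = p ^ blockDefect p b by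
      rw [← Subgroup.inf_subgroupOf_left, Nat.card_congr (Subgroup.subgroupOfEquivOfLe inf_le_left).toEquiv, e,
        Subgroup.card_map_of_injective N.subtype_injective, hD.card_eq hM hb], hP.card_eq hM hB, hp.1.factorization_pow,
      hp.1.factorization_pow, Finsupp.single_eq_same, Finsupp.single_eq_same] at this
  have h3 : (N.subgroupOf P).index ∣ 2 := h2 ▸ Subgroup.relIndex_dvd_index_of_normal N P
  have h4 : ¬ P ≤ N → (N.subgroupOf P).index = 2 := fun h => ((Nat.dvd_prime Nat.prime_two).1 h3).resolve_left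
    fun e => h (Subgroup.relIndex_eq_one.1 e)
  have h5 : p ≠ 2 → Nat.factorization 2 p = 0 := fun h => Nat.factorization_eq_zero_of_not_dvd fun a =>
    h ((Nat.prime_dvd_prime_iff_eq hp.1 Nat.prime_two).1 a)
  refine ⟨fun h => ?_, fun χ hχ θ hθ h h' => ?_⟩
  · obtain ⟨k, hk⟩ := hP.isPGroup.index (N.subgroupOf P)
    rw [hk, hp.1.factorization_pow, Finsupp.single_eq_same] at h1
    have : k ≠ 0 := by rintro rfl; simp [h4 h] at hk
    omega
  have a1 := factorization_degree_add p hχ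
  have a2 := factorization_degree_add p hθ
  have a3 := factorization_index_add (p := p) N
  rw [h2] at a3
  by_cases hp2 : p = 2
  · obtain ⟨a4, u, a5, a6⟩ := h' hp2
    rw [h4 a4] at h1
    rw [(deg_index_two h2 h).resolve_right fun e => a6 (e.2 u a5)] at a1
    omega
  have a4 := (Nat.factorization_le_iff_dvd Subgroup.index_ne_zero_of_finite two_ne_zero).2 h3 p
  rw [h5 hp2] at a3 a4
  rcases deg_index_two h2 h with e | ⟨e, -⟩ <;> rw [e] at a1
  · omega
  · rw [Nat.factorization_mul two_ne_zero (charDegree_ne_zero' θ), Finsupp.add_apply, h5 hp2] at a1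
    omega

variable {S : Fin n → ℕ} {B : Set (IrrCharacter (Perm (Fin n)))} {χ : IrrCharacter (Perm (Fin n))}
  {P : Subgroup (Perm (Fin n))}

theorem Ab.supp (h : Ab p w S) (hM : IsPModular p M) (hB : IsPBlock M B) (hP : IsDefectGroup p M B P) (hχ : χ ∈ B)
    (e : χ.1 = chi n S) : (∀ (R : Subgroup (Perm (Fin n))) (A : Finset (Fin n)), IsPGroup p R → #A ≤ p * w →
      (∀ r ∈ R, r.support ⊆ A) → SubConj R P) ∧ ∀ Q : Subgroup (Perm (Fin n)), IsPGroup p Q → P ≤ Q →
      (∀ b : Fin n, P ≤ MulAction.stabilizer _ b → Q ≤ MulAction.stabilizer _ b) → Q ≤ P := by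
  haveI := hM.2.1
  obtain ⟨ψ, hψ, h0⟩ := hB.exists_height_zero p
  obtain ⟨T, hT, e1, e2⟩ := h.ct_eq hM hB hχ e hψ
  have h' := h.congr hT e2
  obtain ⟨-, h1⟩ := defect_struct hM hB hP hψ h0 hT e1 h'.wt h'.le h'.ne
  refine ⟨h1, fun Q q1 q2 q3 => ?_⟩
  obtain ⟨A, -, hA⟩ := exists_subset_card_eq (s := (univ : Finset (Fin n))) (n := p * w) (by simpa using h.le)
  obtain ⟨R, hR⟩ := exists_sylIn p (Perm.ofSubtype (p := (· ∈ A))).range
  have h2 : ∀ r ∈ R, r.support ⊆ A := fun r hr a ha => Perm.mem_range_ofSubtype_iff.1 (hR.le hr) ha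
  obtain ⟨x, rfl⟩ := (h1 R A hR.isPGroup hA.le h2).exists_eq_of_card (by
    rw [hR.card_eq, ← Nat.card_congr (MonoidHom.ofInjective Perm.ofSubtype_injective).toEquiv, Nat.card_perm,
      Nat.card_eq_fintype_card (α := {x // x ∈ A}), Fintype.card_coe, hA, Nat.factorization_def _ hp.1, padicValNat_factorial_mul,
      hP.card_eq hM hB, h.defect hM hB hχ e])
  refine (Subgroup.eq_of_le_of_card_ge q2 (Nat.le_of_dvd Nat.card_pos (h1 Q (A.map x.toEmbedding) q1 (by simp [hA])
    fun r hr a ha => by_contra fun a1 => Perm.mem_support.1 ha (q3 a (fun g hg => ?_) hr)).card_dvd)).ge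
  have := Perm.notMem_support.1 fun a2 => a1 (mem_map.2 ⟨x⁻¹ a, h2 _ (mem_cj.1 hg) a2, by simp⟩)
  simpa using this

theorem Ab.deg_p (h : Ab p w S) (hM : IsPModular p M) (hB : IsPBlock M B) (hP : IsDefectGroup p M B P) (hχ : χ ∈ B)
    (e : χ.1 = chi n S) (hw : p ≤ w) (hw' : 3 ≤ w) {D : Subgroup (alternatingGroup (Fin n))}
    (hD : P ⊓ alternatingGroup (Fin n) = D.map (Subgroup.subtype _)) : ∃ φ : IrrCharacter D, charDegree φ.1 = p := by
  obtain ⟨h1, h2⟩ := h.supp hM hB hP hχ e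
  have h3 : p ^ 2 ≤ p * w := pow_two p ▸ Nat.mul_le_mul_left _ hw
  obtain ⟨c, hc⟩ := (Perm.exists_with_cycleType_iff (Fin n) (m := {p ^ 2})).2 ⟨by simpa using h3.trans h.le, by
    simpa using hp.1.two_le.trans (Nat.le_self_pow two_ne_zero p)⟩
  have c1 : c.IsCycle := Perm.card_cycleType_eq_one.1 (by simp [hc])
  have c2 : #c.support = p ^ 2 := by rw [← Perm.sum_cycleType, hc, Multiset.sum_singleton]
  obtain ⟨t, t1, t2, t3, t4, t5⟩ : ∃ t : Perm (Fin n), (t = 1 ∨ t.IsSwap) ∧ t ^ p = 1 ∧ Perm.Disjoint c t ∧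
      #c.support + #t.support ≤ p * w ∧ ∀ g ∈ P, Perm.sign g = 1 ∨ Perm.sign g * Perm.sign t = 1 := by
    rcases hp.1.eq_two_or_odd' with rfl | ho
    · obtain ⟨a, ha, b, hb, hab⟩ := one_lt_card.1 (show 1 < #c.supportᶜ by
        rw [card_compl, c2, Fintype.card_fin]; have := h.le; omega)
      refine ⟨swap a b, .inr ⟨a, b, hab, rfl⟩, by simp [pow_two], Perm.disjoint_iff_disjoint_support.2 ?_,
        by rw [c2, Perm.card_support_swap hab]; omega, fun g _ => ?_⟩
      · simpa [Perm.support_swap hab] using And.intro ha hb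
      · rcases Int.units_eq_one_or (Perm.sign g) with e | e <;> simp [e, hab]
    · refine ⟨1, .inl rfl, one_pow _, Perm.disjoint_one_right _, by simpa [c2] using h3, fun g hg => .inl ?_⟩
      obtain ⟨k, hk⟩ := hP.isPGroup ⟨g, hg⟩
      have := congrArg Perm.sign (show g ^ p ^ k = 1 from congrArg Subtype.val hk)
      rwa [map_pow, map_one, Int.units_pow_eq_pow_mod_two, Nat.odd_iff.1 ho.pow, pow_one] at this
  obtain ⟨x, hx⟩ := h1 (Subgroup.zpowers c ⊔ Subgroup.zpowers t) (c.support ∪ t.support)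
    ((IsPGroup.of_card (n := 2) (by rw [Nat.card_zpowers, c1.orderOf, c2])).to_sup_of_normal_right'
      (fun ⟨_, k, rfl⟩ => ⟨1, Subtype.ext (show (t ^ k) ^ p ^ 1 = 1 by
        rw [pow_one, ← zpow_natCast, ← zpow_mul, mul_comm k, zpow_mul, zpow_natCast, t2, one_zpow])⟩)
      ((Subgroup.zpowers_le.2 (Subgroup.mem_centralizer_iff.2 (by
        rintro _ ⟨k, rfl⟩; exact t3.commute.symm.zpow_left k))).trans
        (Subgroup.centralizer_le_normalizer _))) ((card_union_le _ _).trans t4) fun r hr a ha => by_contra fun a1 =>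
      Perm.mem_support.1 ha ((sup_le (Subgroup.zpowers_le.2 (Perm.notMem_support.1 fun a2 => a1 (mem_union_left _ a2)))
        (Subgroup.zpowers_le.2 (Perm.notMem_support.1 fun a2 => a1 (mem_union_right _ a2))) :
          _ ≤ MulAction.stabilizer _ a) hr)
  let f : D →* P := ((Subgroup.subtype _).comp D.subtype).codRestrict P fun d => (hD.ge ⟨d, d.2, rfl⟩).1
  have hf : ∀ g : P, Perm.sign g.1 = 1 → g ∈ f.range := fun g hg => by
    obtain ⟨d, d1, d2⟩ := hD.le ⟨g.2, hg⟩
    exact ⟨⟨d, d1⟩, Subtype.ext d2⟩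
  refine exists_deg_p hP.isPGroup h2 f (c := ⟨_, hx (conj_mem_cj.2 (le_sup_left (a := Subgroup.zpowers c)
    (Subgroup.mem_zpowers c)))⟩) (t := ⟨_, hx (conj_mem_cj.2 (le_sup_right (b := Subgroup.zpowers t)
    (Subgroup.mem_zpowers t)))⟩) c1.conj (by rw [Perm.card_support_conj, c2]) (t3.conj x)
    (t1.imp (fun e => Subtype.ext (by simp [e])) fun ⟨a, b, hab, e⟩ => ⟨x a, x b, x.injective.ne hab, by
      simp [e, swap_apply_apply]⟩) fun g => (t5 g.1 g.2).imp (hf g) fun e => hf _ (by simpa [mul_comm, mul_left_comm] using e)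

theorem _root_.H21.An.Bd.mono {ε q0 : Fin n → ℕ} {i j j' : Fin n} (h0 : Core ε q0) (h : Bd ε q0 i j j') {a c e : ℕ}
    (he : e ≤ c) (l l' : Fin n) (h1 : ε l = ε l') (h2 : q0 l < q0 l') : (q0 + dv i j j' a c e) l < (q0 + dv i j j' a c e) l' := by
  have a1 : l ≠ i := by rintro rfl; exact (h.ti l' h1.symm).not_gt h2
  have a2 : l ≠ j := by rintro rfl; exact (h.tj l' h1.symm).not_gt h2
  by_cases a3 : l = j'
  · subst a3
    have := h.nx
    obtain rfl := h0.1 l' j (h1.symm.trans h.eq) (le_antisymm (h.tj l' (h1.symm.trans h.eq)) (by omega))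
    simp only [Pi.add_apply, dv, a1, a2, h.ne1, if_false, if_true]
    omega
  · simp only [Pi.add_apply, dv, a1, a2, a3, if_false]
    omega

theorem Ab.exists_height_one (h : Ab p w S) (hM : IsPModular p M) (hB : IsPBlock M B) (hχ : χ ∈ B)
    (e : χ.1 = chi n S) (hw : p ≤ w) (hw' : 3 ≤ w) :
    ∃ ψ ∈ B, blockHeight p B ψ.1 = 1 ∧ (p = 2 → ∃ u, u ∉ alternatingGroup (Fin n) ∧ ψ.1 u ≠ 0) := by
  obtain ⟨i, j, j', hb⟩ := exists_bd hp.1.one_lt eS_lt h.core (by omega) h.sum h.le
  obtain ⟨a, c, d, h1, h2, h3, h4⟩ : ∃ a c d, d ≤ c ∧ a + c + d = w ∧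
      (KK (eS p S) (qS p S) w (qS p S + dv i j j' a c d)).natAbs.factorization p = 1 ∧ (w % p = 0 → d = 0) := by
    rcases exists_choose hp.1 hw with ⟨a, a1, a2⟩ | ⟨a1, a2, a3⟩
    · exact ⟨a, w - a, 0, zero_le, by omega, by rwa [KK_two eS_lt h.core hb (by omega), Int.natAbs_natCast], fun _ => rfl⟩
    · obtain ⟨a, rfl⟩ : ∃ a, w = a + p + 1 := ⟨w - p - 1, by omega⟩
      refine ⟨a, p, 1, hp.1.pos, rfl, ?_, fun e => absurd e a1⟩
      rw [KK_three eS_lt h.core hb rfl, ← Nat.cast_mul, Int.natAbs_natCast, Nat.factorization_mul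
        (Nat.choose_pos (by omega)).ne' hp.1.ne_zero, Finsupp.add_apply, add_assoc, Nat.choose_symm_add, ← add_assoc, a3,
        hp.1.factorization_self]
  have h5 : ∑ l, (qS p S + dv i j j' a c d) l = ∑ l, qS p S l + w := by simp [sum_add_distrib, hb.sum_dv, h2]
  obtain ⟨T, hT, e1, e2⟩ := h.exists_rp (hb.mono h.core h1) h5
  have h6 := h.nakayama hM hB hχ e hT e1
  refine ⟨_, h6, (h.height h.mem rfl hM hB hχ e h6 e2).trans h3, ?_⟩
  rintro rfl
  obtain ⟨u, u1, -, u3⟩ := exists_u' (p := 2) (w := w) (y := (1 : Perm (Fin n))) (by simpa using h.le)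
  have u4 := (h.congr hT e1).ne u u1
  rcases Nat.even_or_odd w with ho | ho
  · obtain rfl := h4 (Nat.even_iff.1 ho)
    obtain ⟨w, rfl⟩ : ∃ w', w = w' + 2 := ⟨w - 2, by omega⟩
    obtain ⟨K, -, k2⟩ := e2.apply h
    have u5 := k2 u 1 u1 u3
    obtain ⟨g, hg⟩ := (Perm.exists_with_cycleType_iff (Fin n) (m := 4 ::ₘ Multiset.replicate w 2)).2
      ⟨by have := h.le; simp; omega, by simp +contextual [Multiset.mem_replicate]⟩
    obtain ⟨-, -, s, hs⟩ := e2
    refine ⟨g, fun a1 => ?_, fun a1 => u4 ?_⟩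
    · rw [Perm.mem_alternatingGroup, Perm.sign_of_cycleType, hg, Odd.neg_one_pow (by
        simp [Nat.odd_iff]; have := Nat.even_iff.1 ho; omega)] at a1
      exact absurd a1 (by decide)
    have a2 := hs g
    rw [show chi n T g = 0 from a1, XS, PP_cycleType, hg] at a2
    simp only [Multiset.map_cons, Multiset.prod_cons, Multiset.map_replicate, Multiset.prod_replicate, Multiset.sum_cons,
      Multiset.sum_replicate, smul_eq_mul, Fintype.card_fin] at a2
    have a3 := alt_XX (n := n) 0 (n - (4 + w * 2))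
    rw [Multiset.map_zero, Multiset.prod_zero, one_mul] at a3
    rw [mul_comm (alt _), mul_assoc, mul_assoc, cf_psum_abacus eS_lt 2, sum_congr rfl fun l _ => if_ctx_congr Iff.rfl
      (fun hl => cf_eq_KK eS_lt h.core (w := w) (by have := sum_update_add _ l hl; omega) a3) fun _ => (zero_mul _).symm,
      sum_congr rfl fun l _ => (ite_mul ..).symm, ← sum_mul, eq_comm, Int.cast_eq_zero, mul_eq_zero, mul_eq_zero] at a2
    have a4 := (a2.resolve_left (Units.ne_zero s)).resolve_left (KK_four eS_lt h.core hb (a := a) (c := c) h2 (by omega)).ne'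
    rw [mul_one, XX, Perm.cycleType_one, Multiset.map_zero, Multiset.prod_zero, one_mul, Multiset.sum_zero,
      show (w + 2) * 2 + 0 = 4 + w * 2 by ring, a4] at u5
    simpa using u5
  · refine ⟨u, fun h => ?_, u4⟩
    rw [Perm.mem_alternatingGroup, Perm.sign_of_cycleType, u1, Odd.neg_one_pow (by simpa [Nat.odd_add'] using ho)] at h
    exact absurd h (by decide)

theorem em_alt (hM : IsPModular p M) {b : Set (IrrCharacter (alternatingGroup (Fin n)))}
    (hb : IsPBlock M b) {D : Subgroup (alternatingGroup (Fin n))} (hD : IsDefectGroup p M b D) :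
    ((∃ θ ∈ b, blockHeight p b θ.1 = 1) ∧ ∃ φ : IrrCharacter D, charDegree φ.1 = p) ∨
      ((∀ θ ∈ b, blockHeight p b θ.1 = 0) ∧ IsMulCommutative D) := by
  haveI := hM.2.1
  by_cases hd : blockDefect p b ≤ 2
  · refine .inr ⟨fun θ hθ => by_contra fun h => ?_, (two_gen (hD.card_eq hM hb ▸ pow_dvd_pow p hd)).1⟩
    have := height_add_two_le hM hb hθ h
    omega
  haveI : Nontrivial (Fin n) := not_subsingleton_iff_nontrivial.1 fun _ => hd (by
    have := hD.card_eq hM hb
    rw [Subsingleton.elim D ⊥, Subgroup.card_bot, eq_comm, Nat.pow_eq_one] at this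
    simp [this.resolve_left hp.1.ne_one])
  have hi := alternatingGroup.index_eq_two (α := Fin n)
  let N := alternatingGroup (Fin n)
  obtain ⟨B, hB, hcov⟩ := exists_covers hb
  obtain ⟨P, hP, hPN⟩ := Cfsg.Agent.S4438.result p M hM N b hb (D.map N.subtype) (Subgroup.map_subtype_le _)
    (by rwa [Subgroup.subgroupOf, Subgroup.comap_map_eq_self_of_injective N.subtype_injective]) B hB (covers_iff.1 hcov)
  obtain ⟨χ, hχ⟩ := hB.nonempty
  obtain ⟨S, hS, e⟩ := exists_chi_eq χ
  obtain ⟨w, h⟩ := exists_ab (p := p) hS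
  obtain ⟨h1, h2⟩ := height_index_two hi hM hB hb hP hD hPN
  have h3 := h.defect hM hB hχ e
  have h4 : blockDefect p b ≤ blockDefect p B := (Nat.pow_dvd_pow_iff_le_right hp.1.one_lt).1 (by
    rw [← hD.card_eq hM hb, ← hP.card_eq hM hB, ← Subgroup.card_map_of_injective N.subtype_injective, ← hPN]
    exact Subgroup.card_dvd_of_le inf_le_left)
  have h5 : p = 2 → ¬ P ≤ N := by
    rintro rfl a1
    obtain ⟨i, j, hij⟩ := exists_pair_ne (Fin n)
    obtain ⟨x, hx⟩ := (h.supp hM hB hP hχ e).1 (Subgroup.zpowers (swap i j)) {i, j} (IsPGroup.of_card (n := 1) (by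
      rw [Nat.card_zpowers, Perm.IsSwap.orderOf ⟨i, j, hij, rfl⟩]; rfl)) (card_le_two.trans (by
        rcases w with _ | w
        · simp at h3; omega
        · omega)) (by rintro _ ⟨k, rfl⟩; exact (Perm.support_zpow_le _ k).trans (Perm.support_swap hij).le)
    have a2 := a1 (hx (conj_mem_cj.2 (Subgroup.mem_zpowers _)))
    simp [N, Perm.sign_swap hij] at a2
  by_cases hw : p ≤ w ∧ 3 ≤ w
  · obtain ⟨ψ, hψ, a1, a2⟩ := h.exists_height_one hM hB hχ e hw.1 hw.2
    obtain ⟨θ, hθ, a3⟩ := hcov.exists_over hB hb.isInt_idem hψ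
    exact .inl ⟨⟨θ, hθ, (h2 ψ hψ θ hθ a3 fun a => ⟨h5 a, a2 a⟩).trans a1⟩, h.deg_p hM hB hP hχ e hw.1 hw.2 hPN⟩
  rcases hp.1.eq_two_or_odd' with rfl | ho
  · have := h1 (h5 rfl)
    have h12 : padicValNat 2 2 = 1 := padicValNat_self
    have : w < 3 := by omega
    interval_cases w <;> simp [h12] at h3 <;> omega
  have h6 : w < p := by have := hp.1.two_le; have := Nat.odd_iff.1 ho; omega
  have h7 : ¬ p ∣ w.factorial := by rw [hp.1.dvd_factorial]; omega
  refine .inr ⟨fun θ hθ => ?_, ?_⟩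
  · obtain ⟨ψ, hψ, a1⟩ := exists_over_mem hM hB hb hcov hθ
    obtain ⟨T, hT, e1, e2⟩ := h.ct_eq hM hB hχ e hψ
    obtain ⟨q, hq⟩ := h.rp hT e2
    rw [h2 ψ hψ θ hθ a1 (by rintro rfl; exact absurd ho (by decide)), h.height h.mem rfl hM hB hχ e hψ (e1 ▸ hq)]
    exact Nat.factorization_eq_zero_of_not_dvd fun a => h7 (a.trans (Int.natAbs_dvd_natAbs.2 (KK_dvd h.core hq.1 hq.2.1)))
  · haveI : NeZero p := ⟨hp.1.ne_zero⟩
    obtain ⟨R, F, -, r2, r3, r4, r5, r6⟩ := exists_model (n := n) (p := p) (A := ZMod p) (k := w) (by simp) (fun a => by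
      have := congrArg Perm.sign (show Equiv.addRight a ^ p = 1 by simp)
      rwa [map_pow, map_one, Int.units_pow_eq_pow_mod_two, Nat.odd_iff.1 ho, pow_one] at this) (by simpa [mul_comm] using h.le)
    obtain ⟨x, hx⟩ := ((h.supp hM hB hP hχ e).1 R F (fun a => ⟨1, Subtype.ext (by simpa using r2 _ a.2)⟩)
      (by simp [r5, mul_comm]) r6).exists_eq_of_card (by
        rw [r4, ZMod.card, hP.card_eq hM hB, h3, padicValNat.eq_zero_of_not_dvd h7, zero_add])
    have a1 : ∀ d : D, x⁻¹ * d.1.1 * x ∈ R := fun d => mem_cj.1 (hx ▸ (hPN.ge ⟨d, d.2, rfl⟩).1)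
    exact ⟨⟨fun a b => Subtype.ext (Subtype.ext ((MulAut.conj x⁻¹).injective (by
      simpa [mul_assoc] using r3 _ (a1 a) _ (a1 b))))⟩⟩

end H21.An
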