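import Cfsg.Agent.BG.Api
import Cfsg.Agent.H27.ClassSize
import Cfsg.Agent.H02.BQ1
import Cfsg.Agent.H02.Thompson
import Cfsg.Agent.H06.Degree
import Cfsg.Agent.H24.PSolv
import Cfsg.Agent.S0117

/-! Camina pairs. -/

namespace H21.Cam
open Cfsg Subgroup BG H27
open scoped commutatorElement

universe u v
variable {X : Type v} [Group X] [Finite X]

section
variable {G : Type u} [Group G] [Finite G] {f : G →* X}

theorem key (hf : Function.Surjective f) (g : G) : ∃ m ≤ Nat.card f.ker,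
    m * Nat.card (cent g) = Nat.card f.ker * Nat.card (cent (f g)) ∧
    (m = Nat.card f.ker ↔ ∀ n ∈ f.ker, ∃ x : G, x * g * x⁻¹ = g * n) := by
  set D := (cent (f g)).comap f with hD
  have hDm : ∀ x, x ∈ D ↔ g⁻¹ * (x * g * x⁻¹) ∈ f.ker := by
    intro x
    rw [hD, mem_comap, mem_cent_iff_conj, MonoidHom.mem_ker, map_mul, map_inv, inv_mul_eq_one, eq_comm]
    simp
  have hle : cent g ≤ D := fun x hx => by rw [hDm, mem_cent_iff_conj.1 hx]; simp
  have h2 : (cent g).relIndex D * Nat.card (cent g) = Nat.card D := by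
    rw [relIndex, ← H02.card_subgroupOf_of_le hle, index_mul_card]
  rw [← card_orbit_eq_relIndex, hD, H02.BQ.card_comap hf] at h2
  let φ : {y : G // ∃ h ∈ D, h * g * h⁻¹ = y} → f.ker := fun y => ⟨g⁻¹ * y, by
    obtain ⟨h, hh, e⟩ := y.2
    rw [← e]; exact (hDm h).1 hh⟩
  have hφ : Function.Injective φ := fun a b hab => Subtype.ext (mul_left_cancel (Subtype.ext_iff.1 hab))
  refine ⟨_, Nat.card_le_card_of_injective φ hφ, h2, fun h3 n hn => ?_, fun h => ?_⟩
  · obtain ⟨⟨y, x, hx, e⟩, hy⟩ := ((Nat.bijective_iff_injective_and_card φ).2 ⟨hφ, h3⟩).2 ⟨n, hn⟩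
    have : g⁻¹ * y = n := Subtype.ext_iff.1 hy
    exact ⟨x, by rw [e, ← this]; simp⟩
  · refine Nat.card_congr (Equiv.ofBijective φ ⟨hφ, fun n => ?_⟩)
    obtain ⟨x, hx⟩ := h n n.2
    exact ⟨⟨g * n, x, (hDm x).2 (by rw [hx]; simp), hx⟩, Subtype.ext (by simp [φ])⟩

theorem card_le (hf : Function.Surjective f) (g : G) : Nat.card (cent (f g)) ≤ Nat.card (cent g) := by
  obtain ⟨m, h1, h2, -⟩ := key hf g
  exact Nat.le_of_mul_le_mul_left (h2 ▸ Nat.mul_le_mul_right _ h1) Nat.card_pos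

/-- Camina pair `(G, ker f)` -/
def Inv (f : G →* X) : Prop :=
  Function.Surjective f ∧ ∀ g, f g ≠ 1 → Nat.card (cent g) ≤ Nat.card (cent (f g))

theorem Inv.of_cam (hf : Function.Surjective f)
    (h : ∀ g, f g ≠ 1 → ∀ n ∈ f.ker, ∃ x : G, x * g * x⁻¹ = g * n) : Inv f := ⟨hf, fun g hg => by
  obtain ⟨m, -, h2, h3⟩ := key hf g
  rw [h3.2 (h g hg)] at h2
  exact (Nat.eq_of_mul_eq_mul_left Nat.card_pos h2).le⟩

theorem Inv.dvd (h : Inv f) {g : G} (hg : f g ≠ 1) : Nat.card (cent g) ∣ Nat.card X :=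
  le_antisymm (h.2 g hg) (card_le h.1 g) ▸ card_subgroup_dvd_card _

theorem Inv.cam (h : Inv f) {g : G} (hg : f g ≠ 1) : ∀ n ∈ f.ker, ∃ x : G, x * g * x⁻¹ = g * n := by
  obtain ⟨m, -, h2, h3⟩ := key h.1 g
  rw [le_antisymm (h.2 g hg) (card_le h.1 g)] at h2
  exact h3.1 (Nat.eq_of_mul_eq_mul_right Nat.card_pos h2)

theorem Inv.pow (h : Inv f) {g y : G} (hg : f g ≠ 1) (hy : y ∈ f.ker) (hc : y ∈ cent g) {n : ℕ} (hn : g ^ n = 1) :
    y ^ n = 1 := by
  obtain ⟨x, hx⟩ := h.cam hg y hy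
  have := congrArg (· ^ n) hx
  simp only [conj_pow, hn, (mem_cent_iff_commute.1 hc).symm.mul_pow] at this
  simpa using this.symm

theorem Inv.sub (h : Inv f) {M : Subgroup G} (hM : f.ker ⊔ M = ⊤) : Inv (f.comp M.subtype) := by
  refine ⟨fun q => ?_, fun g hg => le_trans ?_ (h.2 g hg)⟩
  · obtain ⟨x, rfl⟩ := h.1 q
    obtain ⟨a, ha, b, hb, rfl⟩ := mem_sup_of_normal_left.1 (hM ▸ mem_top x)
    exact ⟨⟨b, hb⟩, by simp [MonoidHom.mem_ker.1 ha]⟩
  · rw [← card_map_of_injective M.subtype_injective]; exact card_le_of_le (map_cent_le _ _)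

theorem Inv.quot (h : Inv f) (W : Subgroup G) [W.Normal] (hW : W ≤ f.ker) : Inv (QuotientGroup.lift W f hW) := by
  refine ⟨fun q => ?_, fun g hg => ?_⟩
  · obtain ⟨x, rfl⟩ := h.1 q; exact ⟨x, rfl⟩
  · obtain ⟨g, rfl⟩ := QuotientGroup.mk_surjective g
    exact (card_le (QuotientGroup.mk'_surjective W) g).trans (h.2 g hg)

theorem card_eq (hf : Function.Surjective f) : Nat.card f.ker * Nat.card X = Nat.card G := by
  rw [← card_mul_index f.ker, index_ker, MonoidHom.range_eq_top.2 hf, card_top]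

theorem Inv.normal_sylow (h : Inv f) {s : ℕ} (hs : s.Prime) {W : Subgroup G} [W.Normal] (hW : IsSylowIn s W f.ker)
    (h1 : s ∣ Nat.card f.ker) (h2 : s ∣ Nat.card X) : W = f.ker := by
  haveI := Fact.mk hs
  by_contra hne
  obtain ⟨P⟩ := (inferInstance : Nonempty (Sylow s G))
  have hWP : W ≤ P := (hW.pg hs).le_sylow_of_normal P
  have hPW : (P : Subgroup G) ⊓ f.ker = W := hW.eq_of_pg hs (pg_le P.2 inf_le_left) (le_inf hWP hW.1) inf_le_right
  have hm : ∀ y ∈ (P : Subgroup G), f y = 1 → y ∈ W := fun y a b => hPW ▸ ⟨a, b⟩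
  obtain ⟨⟨z, ⟨x, hx, rfl⟩, hz⟩, ho⟩ := exists_prime_orderOf_dvd_card' s (pg_dvd hs (pg_le (P.mapSurjective h.1).2 inf_le_left)
    (pg_center_ne_bot hs (P.mapSurjective h.1).2 ((P.mapSurjective h.1).ne_bot_of_dvd_card h2)))
  replace ho : orderOf (f x) = s := (orderOf_coe _).trans ho
  have hx1 : f x ≠ 1 := fun e => hs.ne_one (by rw [← ho, e, orderOf_one])
  let π := QuotientGroup.mk' W
  have hπ : ∀ y, π y = 1 ↔ y ∈ W := fun y => QuotientGroup.eq_one_iff y
  have hc : ∀ y ∈ (P : Subgroup G), ⁅y, x⁆ ∈ ⁅W, (P : Subgroup G)⁆ := by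
    intro y hy
    by_cases hyW : y ∈ W
    · exact commutator_mem_commutator hyW hx
    have e1 : π y * π x = π x * π y := by
      rw [← commutatorElement_eq_one_iff_mul_comm, ← map_commutatorElement, hπ]
      refine hm _ (mul_mem (mul_mem (mul_mem hy hx) (inv_mem hy)) (inv_mem hx)) ?_
      rw [map_commutatorElement, commutatorElement_eq_one_iff_mul_comm]; exact hz _ ⟨y, hy, rfl⟩
    let B := closure {π x, π y}
    haveI : IsMulCommutative B := isMulCommutative_closure (by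
      rintro a (rfl | rfl) b (rfl | rfl) <;> first | rfl | exact e1 | exact e1.symm)
    have hB : B ≤ (P : Subgroup G).map π := (closure_le _).2 (by
      rintro a (rfl | rfl); exacts [mem_map_of_mem _ hx, mem_map_of_mem _ hy])
    have hBp := pg_le (P.2.map π) hB
    have hK : ¬ s ∣ Nat.card (f.ker.map π) := by
      rw [← H24.relIndex_eq_card_map]; exact hW.not_dvd' hs
    haveI : IsCyclic B := by
      by_contra hB1
      haveI : (f.ker.map π).Normal := Normal.map inferInstance _ (QuotientGroup.mk'_surjective W)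
      obtain ⟨a, ha, ha1, h3⟩ := H01.exists_centralizer_ne_bot_of_not_isCyclic (K := f.ker.map π) hB1 (fun e => by
        rw [Subgroup.map_eq_bot_iff, QuotientGroup.ker_mk'] at e; exact hne (le_antisymm hW.1 e))
        (by rw [normalizer_eq_top]; exact le_top) (pg_coprime hs hBp hK)
      obtain ⟨k, hk⟩ := hBp ⟨a, ha⟩
      obtain ⟨u, hu, rfl⟩ := hB ha
      refine h3 (pg_eq_bot hs ?_ fun hd => hK (hd.trans (card_dvd_of_le inf_le_left)))
      rintro ⟨_, ⟨n, hn, rfl⟩, h4⟩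
      exact ⟨k, Subtype.ext ((h.quot W hW.1).pow (g := π u) (fun e => ha1 ((hπ u).2 (hm u hu e))) hn h4
        (congrArg Subtype.val hk))⟩
    have hy' : π y ∈ B := subset_closure (by simp)
    have := H06.mem_of_pow_card_eq_one_of_isCyclic (zpowers (⟨π y, hy'⟩ : B)) (z := ⟨π x, subset_closure (by simp)⟩) (by
      obtain ⟨c, hc⟩ := pg_dvd hs (hBp.to_subgroup (zpowers (⟨π y, hy'⟩ : B)))
        (fun e => hyW ((hπ y).1 (congrArg Subtype.val (zpowers_eq_bot.1 e))))
      refine Subtype.ext ?_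
      rw [hc, pow_mul, coe_pow, coe_pow, ← map_pow, (hπ _).2 (hm _ (pow_mem hx _) (by rw [map_pow, ← ho, pow_orderOf_eq_one]))]
      simp)
    obtain ⟨i, hi⟩ := mem_zpowers_iff.1 this
    have hi : π (y ^ i) = π x := by simpa using congrArg Subtype.val hi
    have h5 : x * (y ^ i)⁻¹ ∈ W := by rw [← hπ, map_mul, map_inv, hi, mul_inv_cancel]
    rw [Subgroup.commutator_comm]
    convert commutator_mem_commutator hy h5 using 1
    simp only [commutatorElement_def]; group
  have hlt := nil_comm_lt (K := W) (A := P) (by rw [normalizer_eq_top]; exact le_top)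
    (by rw [sup_eq_right.2 hWP]; exact pg_nil hs P.2) (hW.ne_bot' hs h1)
  have h6 : (cent x).relIndex P ≤ Nat.card (⁅W, (P : Subgroup G)⁆ : Subgroup G) := by
    rw [← card_orbit_eq_relIndex]
    exact Nat.card_le_card_of_injective (fun y => ⟨y.1 * x⁻¹, by
      obtain ⟨u, hu, e⟩ := y.2; rw [← e]; exact hc u hu⟩) fun a b e => Subtype.ext (mul_right_cancel (Subtype.ext_iff.1 e))
  have h7 : Nat.card ((cent x).subgroupOf P) * Nat.card W ∣ Nat.card P := by
    obtain ⟨a, ha⟩ := pg_card hs (P.2.to_subgroup ((cent x).subgroupOf P))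
    obtain ⟨b, hb⟩ := pg_card hs (hW.pg hs)
    have : Nat.card ((cent x).subgroupOf P) * Nat.card W ∣ Nat.card G := by
      rw [← card_eq h.1, mul_comm]
      exact Nat.mul_dvd_mul (card_dvd_of_le hW.1) ((card_comap_dvd_of_injective _ _ P.1.subtype_injective).trans (h.dvd hx1))
    rw [ha, hb, ← pow_add] at this ⊢
    exact P.pow_dvd_card_of_pow_dvd_card this
  rw [← card_mul_index ((cent x).subgroupOf P)] at h7
  have := Nat.le_of_dvd (Nat.pos_of_ne_zero index_ne_zero_of_finite) (Nat.dvd_of_mul_dvd_mul_left Nat.card_pos h7)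
  exact hlt.ne (eq_of_le_of_card_ge hlt.le (this.trans h6))

end

theorem main (hX : ∀ p : ℕ, p.Prime → ¬ IsPGroup p X) (n : ℕ) : ∀ (G : Type u) [Group G] [Finite G] (f : G →* X),
    Nat.card G ≤ n → Inv f → ∀ p : ℕ, p.Prime → p ∣ Nat.card f.ker → p ∣ Nat.card X → IsPGroup p f.ker := by
  induction n with
  | zero => intro G _ _ f h; have := Nat.card_pos (α := G); omega
  | succ n ih =>
  intro G _ _ f hn h
  by_contra! H
  obtain ⟨p, hp, hp1, hp2, hp3⟩ := H
  have hs : ∀ s : ℕ, s.Prime → ¬ IsPGroup s f.ker := fun s hs h' => hp3 (pg_prime_eq hs h' hp hp1 ▸ h')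
  have s1 : ∀ s : ℕ, s.Prime → s ∣ Nat.card f.ker → s ∣ Nat.card X → ∀ S W : Subgroup G, IsSylowIn s S f.ker →
      W ≤ S → W ≠ ⊥ → N_(S) ≤ N_(W) → IsPGroup s ↥(f.ker ⊓ N_(W)) := by
    intro s hs' h1 h2 S W hS hW hW1 hN
    have hWp := pg_le (hS.pg hs') hW
    by_cases hM : N_(W) = ⊤
    · haveI := normalizer_eq_top_iff.1 hM
      exfalso
      by_cases e : W = S
      · subst e; exact hs s hs' (h.normal_sylow hs' hS h1 h2 ▸ hWp)
      have hk : (QuotientGroup.lift W f (hW.trans hS.1)).ker = f.ker.map (QuotientGroup.mk' W) :=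
        QuotientGroup.ker_lift _ _ _
      have := ih (G ⧸ W) _ (by
        have := card_eq_card_quotient_mul_card_subgroup W
        have h2 := (one_lt_card_iff_ne_bot W).2 hW1
        have := Nat.card_pos (α := G ⧸ W)
        nlinarith) (h.quot W (hW.trans hS.1)) s hs' (by
        rw [hk]
        refine (pg_dvd hs' ((hS.pg hs').map _) fun e' => e (le_antisymm hW ?_)).trans (card_dvd_of_le (map_mono hS.1))
        rwa [Subgroup.map_eq_bot_iff, QuotientGroup.ker_mk'] at e') h2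
      rw [hk] at this
      exact hs s hs' (pg_le (this.comap_of_ker_isPGroup _ (by rwa [QuotientGroup.ker_mk'])) (le_comap_map _ _))
    have := ih N_(W) _ (by
      have := (card_le_card_group N_(W)).lt_of_ne fun e => hM (eq_top_of_card_eq _ e); omega)
      (h.sub (M := N_(W)) (eq_top_iff.2 ((sylow_frattini hs' hS le_top (by rw [normalizer_eq_top])).ge.trans
        (sup_le_sup_left (inf_le_right.trans hN) _)))) s hs' (by
        refine (pg_dvd hs' (hWp.comap_subtype (K := N_(W))) fun e => hW1 ?_).trans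
          (card_dvd_of_le fun x hx => hS.1 (hW hx))
        rw [← map_subgroupOf_eq_of_le (le_normalizer (H := W)), subgroupOf, e, Subgroup.map_bot]) h2
    exact pg_le (this.map (N_(W)).subtype) fun x hx => ⟨⟨x, hx.2⟩, hx.1, rfl⟩
  have s2 : ∀ q : ℕ, q.Prime → q ∣ Nat.card X → q ∣ Nat.card f.ker := by
    intro q hq h1
    by_contra h2
    haveI := Fact.mk hq
    obtain ⟨g, hg⟩ := exists_prime_orderOf_dvd_card' (G := G) q (card_eq h.1 ▸ h1.mul_left _)
    have h3 := H02.isNilpotent_of_fpf (K := f.ker) (a := g) hq (by rw [normalizer_eq_top]; trivial)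
      (hg ▸ pow_orderOf_eq_one g) (pg_eq_bot hq (pg_of_pow fun y hy => h.pow (fun e => h2 (hg ▸ orderOf_dvd_natCard _ e))
        hy.1 hy.2 (hg ▸ pow_orderOf_eq_one g)) fun hd => h2 (hd.trans (card_dvd_of_le inf_le_left)))
    obtain ⟨S, hS⟩ := sylow_exists hp f.ker
    have := s1 p hp hp1 hp2 S S hS le_rfl (hS.ne_bot' hp hp1) le_rfl
    rw [inf_eq_left.2 (nil_sylow_normal hp h3 hS)] at this
    exact hp3 this
  have s3 : ∀ s : ℕ, s.Prime → ∃ r : ℕ, r.Prime ∧ r ∣ Nat.card X ∧ r ≠ s := fun s hs => by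
    by_contra! h
    exact hX s hs (IsPGroup.of_card (Nat.eq_prime_pow_of_unique_prime_dvd Nat.card_pos.ne' fun hd hd' => h _ hd hd'))
  obtain ⟨r, hr, hr1, hr2⟩ := s3 2 Nat.prime_two
  obtain ⟨t, ht, ht1, ht2⟩ := s3 r hr
  haveI := Fact.mk hr
  obtain ⟨R⟩ := (inferInstance : Nonempty (Sylow r f.ker))
  have hR := isSylowIn_map hr R
  have h3 : HasNormalPComplement r f.ker := by
    refine (Cfsg.Agent.S0117.result hr2 R).2 (H03.hasNPC_of_isPGroup ?_)
    have := s1 r hr (s2 r hr hr1) hr1 _ _ hR (H17.centerThompsonOf_le r _) (H02.inf_centralizer_ne_bot'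
      (pg_le (hR.pg hr) (H17.thompsonOf_le r _)) (H02.thompsonOf_ne_bot (hR.dvd_card' hr (s2 r hr hr1))))
      (H17.normalizer_le_normalizer_centerThompsonOf r _)
    rw [H17.centerThompsonOf_map _ f.ker.subtype_injective.injOn] at this
    exact pg_le (this.comap_subtype (K := f.ker)) fun x hx => ⟨x.2, le_normalizer_map _ (mem_map_of_mem _ hx)⟩
  let K := (pResidual r f.ker).map f.ker.subtype
  have hK : ¬ r ∣ Nat.card K := by
    rw [card_map_of_injective f.ker.subtype_injective]; exact H03.hasNPC_iff_not_dvd_card_pResidual.1 h3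
  obtain ⟨T, hT⟩ := sylow_exists ht f.ker
  have hTK : T ≤ K := fun x hx => ⟨⟨x, hT.1 hx⟩, H03.mem_pResidual_of_coprime (by
    rw [orderOf_mk]
    exact H03.orderOf_coprime_of_mem (H03.coprime_iff_not_dvd.2 (pg_not_dvd hr ht (hT.pg ht) ht2.symm)) hx), rfl⟩
  have h4 := sylow_frattini ht (sylow_of_max ht (hT.pg ht) hTK fun Y a b c => hT.eq_of_pg ht a b (c.trans (map_subtype_le _)))
    (map_subtype_le _) (by rw [normalizer_eq_top]; exact le_top)
  have h5 := s1 t ht (s2 t ht ht1) ht1 T T hT le_rfl (hT.ne_bot' ht (s2 t ht ht1)) le_rfl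
  have h6 := H01.card_sup_dvd_of_le_normalizer (H := f.ker ⊓ N_(T)) (M := K) (by rw [normalizer_eq_top K]; exact le_top)
  rw [sup_comm, h4] at h6
  exact (hr.dvd_mul.1 ((s2 r hr hr1).trans h6)).elim (pg_not_dvd hr ht h5 ht2.symm) hK

end H21.Cam
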