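import Mathlib
import Cfsg.Agent.H21.FrobB

/-!
Blocks with homocyclic defect group of rank two for `p = 2` (namespace H21): `Mx.homo_frb`.
-/

set_option autoImplicit false
set_option linter.unusedSectionVars false
set_option linter.unusedVariables false

namespace H21
open H05 Cfsg H20 MonoidAlgebra Classical
open scoped ComplexConjugate

local notation:max "𝐂" Q:max => Subgroup.centralizer (SetLike.coe Q)

attribute [-instance] H19.instFintypeSubgroupFrob

variable {M : Ideal AlgInt} [hMm : M.IsMaximal] {G : Type*} [Group G] [Fintype G]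
  {B : Set (IrrCharacter G)} {b : BrauerPairIdx G}

theorem Mx.homo_frb (h : Mx M 2 B b) {m : ℕ} (hm : 1 ≤ m)
    (e : b.1 ≃* Multiplicative (ZMod (2 ^ m) × ZMod (2 ^ m))) :
    b.1 ≤ 𝐂 b.1 ∧ Nat.card b.1 = 4 ^ m ∧ ∃ D, Frb M 2 B (cact (pstab_le b)).range D ∧
      blockRank 2 B = Nat.card (cact (pstab_le b)).range ∧
      (Nat.card (cact (pstab_le b)).range = 1 ∨ Nat.card (cact (pstab_le b)).range = 3) := by
  have hab : b.1 ≤ 𝐂 b.1 := fun x hx y hy => congrArg Subtype.val
    (e.injective (by rw [map_mul, map_mul, mul_comm]) : (⟨y, hy⟩ : b.1) * ⟨x, hx⟩ = ⟨x, hx⟩ * ⟨y, hy⟩)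
  have h1 : Nat.card b.1 = 4 ^ m := by
    rw [Nat.card_congr e.toEquiv, Nat.card_congr Multiplicative.toAdd, Nat.card_prod, Nat.card_zmod,
      ← mul_pow]; norm_num
  have h3 := card_involutions_homocyclic hm e
  obtain ⟨k, rfl⟩ := Nat.exists_eq_add_of_le' hm
  obtain ⟨D, hD⟩ := h.exists_frb hab (fun e => by
    rw [e, Subgroup.card_bot, pow_succ] at h1; omega)
    (free_of_three h.bp.1 hab (pstab_le b) (h.not_dvd_e hab le_rfl) h3)
  have h4 := hD.card_le_three h3
  have h5 := hD.ndvd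
  have h6 : 0 < Nat.card (cact (pstab_le b)).range := Nat.card_pos
  refine ⟨hab, h1, D, hD, (hD.rank_eq_or h4).resolve_right ?_, by omega⟩
  rw [h1, pow_succ]; omega

end H21
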