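import Mathlib
import Cfsg.Agent.H02.FPF
import Cfsg.Agent.H04.ElemAb
import Cfsg.Agent.H27.Zsigmondy

/-!
# Transitive coprime linear groups with few good classes

* `H21.K3.Good H a`: every element of `H` commuting with `a` generates with it a cyclic group.
* `H21.K3.card_le_three`: a p'-group of automorphisms of an elementary abelian p-group which is
  transitive on the nontrivial elements, has at most one class of nontrivial good elements, and whose
  point stabilizers have no nontrivial good element, acts on a group of order at most 3.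
-/

set_option autoImplicit false

namespace H21.K3
open Subgroup MulAction

section
variable {Γ : Type*} [Group Γ] {H : Subgroup Γ} {a b : Γ}

/-- every element of `H` commuting with `a` generates a cyclic group with it -/
def Good (H : Subgroup Γ) (a : Γ) : Prop :=
  ∀ b ∈ H, a * b = b * a → IsCyclic (closure ({a, b} : Set Γ))

theorem comm_closure_pair (h : a * b = b * a) : IsMulCommutative (closure ({a, b} : Set Γ)) := by
  refine Subgroup.isMulCommutative_closure ?_
  rintro x (rfl | rfl) y (rfl | rfl)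
  · rfl
  · exact h
  · exact h.symm
  · rfl

theorem Good.of_zpowers {y : Γ} (h : Good H y) (h1 : a ∈ zpowers y) (h2 : y ∈ zpowers a) :
    Good H a := by
  intro b hb hab
  obtain ⟨k, rfl⟩ := h2
  haveI := h b hb ((show Commute a b from hab).zpow_left k)
  refine Subgroup.isCyclic_of_le (H' := closure ({a ^ k, b} : Set Γ)) ?_
  rw [closure_le]
  rintro x (rfl | rfl)
  · exact (zpowers_le.2 (subset_closure (by simp))) h1
  · exact subset_closure (by simp)

theorem good_of_prime [Finite Γ] {s : ℕ} (hs : s.Prime) (ha : a ∈ H) (ho : orderOf a = s)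
    (h2 : ¬ s ^ 2 ∣ Nat.card H) : Good H a := by
  haveI := Fact.mk hs
  intro b hb hab
  have hc : Commute a b := hab
  have key : ∀ c : Γ, a ∈ zpowers c → b ∈ zpowers c → IsCyclic (closure ({a, b} : Set Γ)) := by
    intro c h1 h2
    refine Subgroup.isCyclic_of_le (H' := zpowers c) ?_
    rw [closure_le]
    rintro x (rfl | rfl)
    · exact h1
    · exact h2
  by_cases hd : s ∣ orderOf b
  · refine key b ?_ (mem_zpowers b)
    set b' := b ^ (orderOf b / s) with hb'
    have hob : orderOf b' = s := orderOf_pow_orderOf_div (orderOf_pos b).ne' hd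
    have p1 : IsPGroup s (zpowers a) := IsPGroup.of_card (n := 1) (by rw [Nat.card_zpowers, ho, pow_one])
    have p2 : IsPGroup s (zpowers b') := IsPGroup.of_card (n := 1) (by rw [Nat.card_zpowers, hob, pow_one])
    have p3 : IsPGroup s (zpowers a ⊔ zpowers b' : Subgroup Γ) := by
      refine IsPGroup.to_sup_of_normal_right' p1 p2 ?_
      refine (zpowers_le.2 ?_).trans (centralizer_le_normalizer _)
      rw [mem_centralizer_iff]
      rintro _ ⟨k, rfl⟩
      exact ((hc.pow_right _).zpow_right k).symm.eq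
    obtain ⟨k, hk⟩ := IsPGroup.iff_card.1 p3
    have hle : (zpowers a ⊔ zpowers b' : Subgroup Γ) ≤ H :=
      sup_le (zpowers_le.2 ha) (zpowers_le.2 (H.pow_mem hb _))
    have hk1 : k ≤ 1 := by
      by_contra hlt
      exact h2 ((pow_dvd_pow s (by omega)).trans (hk ▸ card_dvd_of_le hle))
    have he : zpowers b' = zpowers a ⊔ zpowers b' := by
      refine eq_of_le_of_card_ge le_sup_right ?_
      rw [hk, Nat.card_zpowers, hob]
      simpa using Nat.pow_le_pow_right hs.pos hk1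
    have : a ∈ zpowers b' := he ▸ mem_sup_left (mem_zpowers a)
    exact (zpowers_le.2 (npow_mem_zpowers b _)) this
  · have hco : (orderOf a).Coprime (orderOf b) := ho ▸ (Nat.Prime.coprime_iff_not_dvd hs).2 hd
    refine key (a * b) ?_ ?_
    · refine H04.mem_of_pow_mem_of_coprime hco.symm ?_
      have : (a * b) ^ orderOf b = a ^ orderOf b := by rw [hc.mul_pow, pow_orderOf_eq_one, mul_one]
      exact this ▸ npow_mem_zpowers _ _
    · refine H04.mem_of_pow_mem_of_coprime hco ?_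
      have : (a * b) ^ orderOf a = b ^ orderOf a := by rw [hc.mul_pow, pow_orderOf_eq_one, one_mul]
      exact this ▸ npow_mem_zpowers _ _

/-- at most one class of nontrivial good elements -/
def G1 (H : Subgroup Γ) : Prop :=
  ∀ a ∈ H, ∀ b ∈ H, Good H a → Good H b → a ≠ 1 → b ≠ 1 → ∃ g ∈ H, g * a * g⁻¹ = b

theorem G1.orderOf_eq (h : G1 H) (ha : a ∈ H) (hb : b ∈ H) (h1 : Good H a) (h2 : Good H b)
    (ha1 : a ≠ 1) (hb1 : b ≠ 1) : orderOf a = orderOf b := by
  obtain ⟨g, -, rfl⟩ := h a ha b hb h1 h2 ha1 hb1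
  exact ((MulAut.conj g).orderOf_eq a).symm

theorem G1.conj_pow [Finite Γ] (h : G1 H) {r : ℕ} (hr : r.Prime) (ha : a ∈ H) (h1 : Good H a)
    (ho : orderOf a = r) {i : ℕ} (hi : ¬ r ∣ i) : ∃ g ∈ H, g * a * g⁻¹ = a ^ i := by
  have hco : i.Coprime (orderOf a) := ho ▸ ((Nat.Prime.coprime_iff_not_dvd hr).2 hi).symm
  refine h a ha _ (H.pow_mem ha i) h1 (h1.of_zpowers (npow_mem_zpowers a i)
    (H04.mem_of_pow_mem_of_coprime hco (mem_zpowers _))) ?_ ?_
  · rintro rfl
    exact hr.one_lt.ne (by simpa using ho)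
  · intro e
    exact hi (ho ▸ orderOf_dvd_of_pow_eq_one e)

theorem G1.dvd_card [Finite Γ] (h : G1 H) {r p : ℕ} (hr : r.Prime) (hp : p.Prime) (ha : a ∈ H)
    (h1 : Good H a) (ho : orderOf a = r) (hd : p ∣ r - 1) : p ∣ Nat.card H := by
  haveI := Fact.mk hr
  haveI := Fact.mk hp
  obtain ⟨u, hu⟩ := exists_prime_orderOf_dvd_card' (G := (ZMod r)ˣ) p
    (by rw [Nat.card_eq_fintype_card, ZMod.card_units]; exact hd)
  have hi : ¬ r ∣ (u : ZMod r).val := by
    rw [← ZMod.natCast_eq_zero_iff, ZMod.natCast_zmod_val]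
    exact u.ne_zero
  obtain ⟨g, hg, e⟩ := h.conj_pow hr ha h1 ho hi
  have key : ∀ k : ℕ, g ^ k * a * (g ^ k)⁻¹ = a ^ ((u : ZMod r).val ^ k) := by
    intro k
    induction k with
    | zero => simp
    | succ k ih =>
      have : g ^ (k + 1) * a * (g ^ (k + 1))⁻¹ = g * (g ^ k * a * (g ^ k)⁻¹) * g⁻¹ := by
        rw [pow_succ']; group
      rw [this, ih, ← _root_.conj_pow, e, ← pow_mul, pow_succ']
  have h3 := key (Nat.card H)
  have h4 : g ^ Nat.card H = 1 := by
    exact congrArg Subtype.val (pow_card_eq_one' (x := (⟨g, hg⟩ : H)))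
  rw [h4, one_mul, inv_one, mul_one, eq_comm, ← pow_one a, ← pow_mul, one_mul,
    pow_eq_pow_iff_modEq, ho, ← ZMod.natCast_eq_natCast_iff] at h3
  rw [← hu]
  refine orderOf_dvd_of_pow_eq_one (Units.ext ?_)
  simpa using h3

theorem G1.card_le_two [Finite Γ] (h : G1 H) (hg : ∀ a ∈ H, Good H a) : Nat.card H ≤ 2 := by
  by_contra hlt
  have hnt : Nontrivial H := Finite.one_lt_card_iff_nontrivial.1 (by omega)
  obtain ⟨x, hx⟩ := exists_ne (1 : H)
  have ho : orbit (ConjAct H) x = {1}ᶜ := by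
    ext y
    rw [ConjAct.mem_orbit_conjAct, Set.mem_compl_singleton_iff]
    constructor
    · rintro h1 rfl
      exact hx (isConj_one_right.1 h1)
    · intro hy
      obtain ⟨g, hg, e⟩ := h y y.2 x x.2 (hg _ y.2) (hg _ x.2) (fun e => hy (Subtype.ext e))
        (fun e => hx (Subtype.ext e))
      exact isConj_iff.2 ⟨⟨g, hg⟩, Subtype.ext e⟩
  have h1 := (stabilizer (ConjAct H) x).index_dvd_card
  rw [index_stabilizer, ho, Set.ncard_compl, Set.ncard_singleton,
    show Nat.card (ConjAct H) = Nat.card H from rfl] at h1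
  have h2 : Nat.card H - 1 ∣ 1 := by
    have : Nat.card H = Nat.card H - 1 + 1 := by omega
    rw [this] at h1
    simpa using h1
  have := Nat.le_of_dvd one_pos h2
  omega

theorem dvd_ncard_of_orbits {Ω : Type*} [MulAction Γ Ω] [Finite Ω] {m : ℕ} (S : Set Ω)
    (hS : ∀ a ∈ H, ∀ x ∈ S, a • x ∈ S) (h : ∀ x ∈ S, m ∣ (stabilizer H x).index) : m ∣ S.ncard := by
  classical
  haveI := Fintype.ofFinite Ω
  rw [Set.ncard_eq_toFinset_card', Finset.card_eq_sum_card_image
    (Quotient.mk (orbitRel H Ω))]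
  refine Finset.dvd_sum fun q hq => ?_
  obtain ⟨x, hx, rfl⟩ := Finset.mem_image.1 hq
  rw [Set.mem_toFinset] at hx
  refine (h x hx).trans (dvd_of_eq ?_)
  rw [index_stabilizer, ← Set.ncard_coe_finset]
  congr 1
  symm
  ext y
  simp only [Finset.coe_filter, Set.mem_toFinset, Set.mem_setOf_eq, Quotient.eq, orbitRel_apply]
  exact ⟨fun h => h.2, fun ⟨a, e⟩ => ⟨e ▸ hS a a.2 x hx, a, e⟩⟩

end

section
variable {V : Type*} [Group V] [Finite V] {p n : ℕ} {E : Subgroup (MulAut V)} {a c y : MulAut V}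

theorem cyc_of_fpf (hc : IsMulCommutative V) {A : Subgroup (MulAut V)} (hA : IsMulCommutative A)
    {W : Subgroup V} (hW : W ≠ ⊥) (hi : ∀ a ∈ A, ∀ w ∈ W, a w ∈ W)
    (h : ∀ a ∈ A, a ≠ 1 → ∀ w ∈ W, a w = w → w = 1) : IsCyclic A := by
  let Γ := SemidirectProduct V (MulAut V) (MonoidHom.id _)
  haveI : Finite Γ := Finite.of_equiv _ SemidirectProduct.equivProd.symm
  let i : V →* Γ := SemidirectProduct.inl
  let j : MulAut V →* Γ := SemidirectProduct.inr
  have hi' : Function.Injective i := SemidirectProduct.inl_injective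
  have hj' : Function.Injective j := SemidirectProduct.inr_injective
  have hcj : ∀ (a : MulAut V) (v : V), j a * i v * (j a)⁻¹ = i (a v) := fun a v => by
    rw [← map_inv]; exact (SemidirectProduct.inl_aut (φ := MonoidHom.id (MulAut V)) a v).symm
  haveI : IsMulCommutative W := ⟨⟨fun x y => Subtype.ext (mul_comm' _ _)⟩⟩
  have h1 : IsCyclic (A.map j) := by
    refine H02.isCyclic_of_fpf_abelian (V := W.map i) (fun e => hW ((map_eq_bot_iff_of_injective W hi').1 e))
      ?_ ?_ (Or.inl inferInstance)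
    · rintro _ ⟨a, ha, rfl⟩
      refine mem_normalizer_fintype ?_
      rintro _ ⟨w, hw, rfl⟩
      exact ⟨a w, hi a ha w hw, (hcj a w).symm⟩
    · rintro _ ⟨a, ha, rfl⟩ h1
      rw [eq_bot_iff]
      rintro _ ⟨⟨w, hw, rfl⟩, h2⟩
      have h3 : j a * i w = i w * j a := (mem_centralizer_singleton_iff.1 h2).symm
      have h4 : i (a w) = i w := by rw [← hcj, h3, mul_inv_cancel_right]
      rw [h a ha (fun e => h1 (by rw [e, map_one])) w hw (hi' h4), map_one]
      exact one_mem _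
  exact isCyclic_of_surjective (A.equivMapOfInjective j hj').symm (MulEquiv.surjective _)

/-- the fixed points of an automorphism -/
def fx (a : MulAut V) : Subgroup V := (a : V →* V).eqLocus (MonoidHom.id V)

omit [Finite V] in
theorem mem_fx {v : V} : v ∈ fx a ↔ a v = v := Iff.rfl

omit [Finite V] in
theorem fx_ne_top (h : a ≠ 1) : fx a ≠ ⊤ := fun e =>
  h (MulEquiv.ext fun v => mem_fx.1 (e ▸ mem_top v))

omit [Finite V] in
theorem fx_inv (h : a * c = c * a) {v : V} (hv : v ∈ fx c) : a v ∈ fx c := by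
  rw [mem_fx] at hv ⊢
  rw [← MulAut.mul_apply, ← h, MulAut.mul_apply, hv]

theorem card_of_ne_top (hp : p.Prime) (hn : Nat.card V = p ^ n) {W : Subgroup V} (h : W ≠ ⊤) :
    ∃ d < n, Nat.card W = p ^ d := by
  obtain ⟨d, hd, e⟩ := (Nat.dvd_prime_pow hp).1 (hn ▸ W.card_subgroup_dvd_card)
  refine ⟨d, lt_of_le_of_ne hd fun h1 => h (eq_top_of_card_eq W ?_), e⟩
  rw [e, h1, hn]

theorem dvd_sub_of_comm {r : ℕ} (hr : r.Prime) (ho : orderOf y = r) (h : y * c = c * y) :
    r ∣ Nat.card (fx c) - Nat.card (fx c ⊓ fx y : Subgroup V) := by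
  have h1 : r ∣ ((fx c : Set V) \ (fx c ⊓ fx y : Subgroup V)).ncard := by
    refine dvd_ncard_of_orbits (H := zpowers y) _ ?_ ?_
    · rintro _ ⟨k, rfl⟩ x ⟨hx, hx'⟩
      refine ⟨fx_inv ((show Commute y c from h).zpow_left k).eq hx, fun h2 => hx' ⟨hx, ?_⟩⟩
      have := fx_inv (a := (y ^ k)⁻¹) ((Commute.refl y).zpow_left k).inv_left.eq h2.2
      simpa using this
    · intro x ⟨hx, hx'⟩
      have h2 := (stabilizer (zpowers y) x).index_dvd_card
      rw [Nat.card_zpowers, ho] at h2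
      rcases (Nat.dvd_prime hr).1 h2 with h3 | h3
      · rw [index_eq_one] at h3
        have : (⟨y, mem_zpowers y⟩ : zpowers y) ∈ stabilizer (zpowers y) x := h3 ▸ mem_top _
        exact absurd ⟨hx, this⟩ hx'
      · rw [h3]
  rwa [Set.ncard_diff (by exact inf_le_left (a := fx c))] at h1

omit [Finite V] in
theorem fx_one : fx (1 : MulAut V) = ⊤ := eq_top_iff.2 fun _ _ => rfl

/-- `r` is a primitive prime divisor of `p ^ n - 1` -/
def Zs (p n r : ℕ) : Prop := r.Prime ∧ r ∣ p ^ n - 1 ∧ ∀ k : ℕ, 0 < k → k < n → ¬ r ∣ p ^ k - 1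

theorem Zs.ne {r : ℕ} (h : Zs p n r) (hp : p.Prime) (hn : 0 < n) : ¬ r ∣ p := by
  intro hd
  have h1 : r ∣ p ^ n := hd.trans (dvd_pow_self p hn.ne')
  have h2 := (Nat.dvd_sub_iff_right (Nat.one_le_pow n p hp.pos) h1).1 h.2.1
  exact h.1.one_lt.ne' (Nat.dvd_one.1 h2)

theorem Zs.fx_eq_bot {r : ℕ} (h : Zs p n r) (hp : p.Prime) (hn : Nat.card V = p ^ n)
    (ho : orderOf y = r) : fx y = ⊥ := by
  have hy : y ≠ 1 := by
    rintro rfl
    exact h.1.one_lt.ne (by simpa using ho)
  obtain ⟨d, hd, e⟩ := card_of_ne_top hp hn (fx_ne_top hy)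
  have h1 := dvd_sub_of_comm (c := 1) h.1 ho (by simp)
  rw [fx_one, top_inf_eq, card_top, hn, e] at h1
  have h2 : p ^ n - p ^ d = p ^ d * (p ^ (n - d) - 1) := by
    rw [Nat.mul_sub, mul_one, ← pow_add]; congr 2; omega
  rw [h2] at h1
  rcases (Nat.Prime.dvd_mul h.1).1 h1 with h3 | h3
  · exact absurd (h.1.dvd_of_dvd_pow h3) (h.ne hp (by omega))
  · rcases Nat.eq_zero_or_pos d with rfl | h0
    · exact eq_bot_of_card_eq _ (by simpa using e)
    · exact absurd h3 (h.2.2 _ (by omega) (by omega))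

theorem Zs.fpf {r : ℕ} (h : Zs p n r) (hp : p.Prime) (hn : Nat.card V = p ^ n)
    (ho : orderOf y = r) (hc : y * c = c * y) (h1 : c ≠ 1) : fx c = ⊥ := by
  obtain ⟨d, hd, e⟩ := card_of_ne_top hp hn (fx_ne_top h1)
  have h2 := dvd_sub_of_comm h.1 ho hc
  rw [h.fx_eq_bot hp hn ho, inf_bot_eq, card_bot, e] at h2
  rcases Nat.eq_zero_or_pos d with rfl | h0
  · exact eq_bot_of_card_eq _ (by simpa using e)
  · exact absurd h2 (h.2.2 _ h0 hd)

theorem Zs.cyc {r : ℕ} (h : Zs p n r) (hp : p.Prime) (hc : IsMulCommutative V) [Nontrivial V]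
    (hn : Nat.card V = p ^ n) (ho : orderOf y = r) {A : Subgroup (MulAut V)}
    (hA : IsMulCommutative A) (hy : ∀ a ∈ A, y * a = a * y) : IsCyclic A :=
  cyc_of_fpf hc hA (W := ⊤) top_ne_bot (fun _ _ _ _ => mem_top _) fun a ha h1 w _ hw =>
    mem_bot.1 (h.fpf hp hn ho (hy a ha) h1 ▸ mem_fx.2 hw)

theorem Zs.good {r : ℕ} (h : Zs p n r) (hp : p.Prime) (hc : IsMulCommutative V) [Nontrivial V]
    (hn : Nat.card V = p ^ n) (ho : orderOf y = r) (ha : y ∈ zpowers a) : Good E a := by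
  intro b _ hab
  haveI := comm_closure_pair hab
  have hy : y ∈ closure ({a, b} : Set (MulAut V)) := (zpowers_le.2 (subset_closure (by simp))) ha
  exact h.cyc hp hc hn ho this fun x hx => mul_comm_of_mem_isMulCommutative _ hy hx

open Polynomial in
theorem le_of_conj_pow [Fact p.Prime] (hc : IsMulCommutative V) (he : ∀ x : V, x ^ p = 1)
    (hn : Nat.card V = p ^ n) {r : ℕ} (hr : r.Prime) (ho : orderOf y = r) (hf : fx y = ⊥)
    [Nontrivial V] (h : ∀ i, ¬ r ∣ i → ∃ g : MulAut V, g * y * g⁻¹ = y ^ i) : r - 1 ≤ n := by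
  classical
  haveI := Fact.mk hr
  obtain ⟨e, φ, hφ⟩ := H04.exists_mulAut_equiv_GL hc he hn
  set Y : Matrix (Fin n) (Fin n) (ZMod p) := (φ y).val with hY
  have hn0 : n ≠ 0 := by
    rintro rfl
    exact (Finite.one_lt_card (α := V)).ne' (by simpa using hn)
  haveI : Nonempty (Fin n) := ⟨⟨0, by omega⟩⟩
  have hint : IsIntegral (ZMod p) Y := Matrix.isIntegral Y
  let K := AlgebraicClosure (ZMod p)
  obtain ⟨α, hα⟩ := IsAlgClosed.exists_aeval_eq_zero K (minpoly (ZMod p) Y)
    (minpoly.degree_pos hint).ne'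
  have hk : ∀ f : (ZMod p)[X], aeval Y f = 0 → aeval α f = 0 := fun f hf => by
    obtain ⟨q, rfl⟩ := minpoly.dvd (ZMod p) Y hf
    rw [map_mul, hα, zero_mul]
  have h1 : α ^ r = 1 := by
    have := hk (X ^ r - 1) (by
      rw [map_sub, map_pow, aeval_X, map_one, hY, ← Units.val_pow_eq_pow_val, ← map_pow, ← ho,
        pow_orderOf_eq_one, map_one, Units.val_one, sub_self])
    simpa [sub_eq_zero] using this
  have h2 : α ≠ 1 := by
    intro h2
    have h3 := hk _ (Matrix.aeval_self_charpoly Y)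
    rw [h2, ← map_one (algebraMap (ZMod p) K), aeval_algebraMap_apply, map_eq_zero, coe_aeval_eq_eval,
      Matrix.eval_charpoly, ← Matrix.exists_mulVec_eq_zero_iff] at h3
    obtain ⟨v, hv, h4⟩ := h3
    rw [Matrix.sub_mulVec, map_one, Matrix.one_mulVec, sub_eq_zero] at h4
    have h5 : e.symm (Multiplicative.ofAdd v) ∈ fx y := by
      rw [mem_fx]
      refine e.injective (Multiplicative.toAdd.injective ?_)
      rw [hφ, e.apply_symm_apply, toAdd_ofAdd]
      exact h4.symm
    rw [hf, mem_bot, MulEquiv.map_eq_one_iff] at h5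
    exact hv h5
  have h3 : orderOf α = r := orderOf_eq_prime h1 h2
  have h4 : ∀ i, ¬ r ∣ i → aeval (α ^ i) Y.charpoly = 0 := by
    intro i hi
    obtain ⟨g, hg⟩ := h i hi
    have h5 : (Y ^ i).charpoly = Y.charpoly := by
      rw [hY, ← Units.val_pow_eq_pow_val, ← map_pow, ← hg, map_mul, map_mul, map_inv, Units.val_mul,
        Units.val_mul, Matrix.coe_units_inv, Matrix.charpoly_units_conj]
    have := hk (Y.charpoly.comp (X ^ i)) (by
      rw [aeval_comp, map_pow, aeval_X, ← h5, Matrix.aeval_self_charpoly])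
    rwa [aeval_comp, map_pow, aeval_X] at this
  have h5 : ((Finset.Ioo 0 r).image fun i => α ^ i).val ⊆ (Y.charpoly.map (algebraMap _ K)).roots := by
    intro x hx
    obtain ⟨i, hi, rfl⟩ := Finset.mem_image.1 (Finset.mem_def.2 hx)
    rw [Finset.mem_Ioo] at hi
    rw [mem_roots (Y.charpoly_monic.map _).ne_zero, IsRoot, eval_map_algebraMap]
    exact h4 i (Nat.not_dvd_of_pos_of_lt hi.1 hi.2)
  have h6 := card_le_degree_of_subset_roots h5
  rw [Finset.card_image_of_injOn, Nat.card_Ioo, Y.charpoly_monic.natDegree_map,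
    Matrix.charpoly_natDegree_eq_dim, Fintype.card_fin] at h6
  · exact h6
  · refine (pow_injOn_Iio_orderOf (x := α)).mono fun i hi => ?_
    rw [h3]
    exact (Finset.mem_Ioo.1 hi).2

/-- the stabilizer of `v` in `E` -/
def st (E : Subgroup (MulAut V)) (v : V) : Subgroup (MulAut V) := E ⊓ stabilizer (MulAut V) v

omit [Finite V] in
theorem mem_st {v : V} : a ∈ st E v ↔ a ∈ E ∧ a v = v := Iff.rfl

/-- transitivity on the nontrivial elements -/
def Tr (E : Subgroup (MulAut V)) : Prop := ∀ v w : V, v ≠ 1 → w ≠ 1 → ∃ g ∈ E, g v = w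

theorem Tr.card_eq (h : Tr E) {v : V} (hv : v ≠ 1) :
    Nat.card E = (Nat.card V - 1) * Nat.card (st E v) := by
  have ho : orbit E v = {1}ᶜ := by
    ext w
    rw [Set.mem_compl_singleton_iff]
    constructor
    · rintro ⟨g, rfl⟩ e
      exact hv ((MulEquiv.map_eq_one_iff (g : MulAut V)).1 e)
    · intro hw
      obtain ⟨g, hg, e⟩ := h v w hv hw
      exact ⟨⟨g, hg⟩, e⟩
  rw [← (stabilizer E v).index_mul_card, index_stabilizer, ho, Set.ncard_compl, Set.ncard_singleton]
  congr 1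
  rw [← card_map_of_injective E.subtype_injective]
  congr 2
  ext a
  exact ⟨fun ⟨b, hb, e⟩ => e ▸ ⟨b.2, hb⟩, fun h => ⟨⟨a, h.1⟩, h.2, rfl⟩⟩

theorem exists_orderOf {Γ : Type*} [Group Γ] [Finite Γ] {H : Subgroup Γ} {r : ℕ} (hr : r.Prime)
    (h : r ∣ Nat.card H) : ∃ y ∈ H, orderOf y = r := by
  haveI := Fact.mk hr
  obtain ⟨y, hy⟩ := exists_prime_orderOf_dvd_card' r h
  exact ⟨y, y.2, by rw [orderOf_coe, hy]⟩

theorem good_st (hp : p.Prime) (hc : IsMulCommutative V) (he : ∀ x : V, x ^ p = 1)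
    (hn : Nat.card V = p ^ n) (h2 : n ≤ 2) (hE : ¬ p ∣ Nat.card E) {v : V} (hv : v ≠ 1)
    (ha : a ∈ st E v) (ha1 : a ≠ 1) : Good (st E v) a := by
  haveI := Fact.mk hp
  letI : CommGroup V := { (inferInstance : Group V) with mul_comm := mul_comm' }
  intro b hb hab
  haveI := comm_closure_pair hab
  have hA : closure ({a, b} : Set (MulAut V)) ≤ st E v := by
    rw [closure_le]
    rintro x (rfl | rfl)
    exacts [ha, hb]
  have haA : a ∈ closure ({a, b} : Set (MulAut V)) := subset_closure (by simp)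
  let f : V →* V := (a : V →* V) / MonoidHom.id V
  have hf : ∀ x, f x = a x / x := fun _ => rfl
  have hfx : ∀ c ∈ st E v, c ≠ 1 → fx c = zpowers v := by
    intro c hc h1
    obtain ⟨d, hd, e⟩ := card_of_ne_top hp hn (fx_ne_top h1)
    refine (eq_of_le_of_card_ge (zpowers_le.2 (mem_fx.2 hc.2)) ?_).symm
    rw [e, Nat.card_zpowers, orderOf_eq_prime (he v) hv]
    simpa using Nat.pow_le_pow_right hp.pos (show d ≤ 1 by omega)
  refine cyc_of_fpf hc this (W := f.range) (fun e => ha1 (MulEquiv.ext fun x => ?_)) ?_ ?_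
  · have : f x = 1 := mem_bot.1 (e ▸ ⟨x, rfl⟩)
    rwa [hf, div_eq_one] at this
  · rintro c hc _ ⟨x, rfl⟩
    refine ⟨c x, ?_⟩
    rw [hf, hf, map_div, ← MulAut.mul_apply, ← MulAut.mul_apply,
      mul_comm_of_mem_isMulCommutative _ haA hc]
  · rintro c hc h1 _ ⟨x, rfl⟩ hw
    have h3 : f x ∈ fx a := by rw [hfx a ha ha1, ← hfx c (hA hc) h1]; exact hw
    have h4 : ∀ k : ℕ, (a ^ k) x = x * f x ^ k := by
      intro k
      induction k with
      | zero => simp
      | succ k ih =>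
        rw [pow_succ', MulAut.mul_apply, ih, map_mul, map_pow, mem_fx.1 h3, pow_succ', ← mul_assoc, hf,
          mul_div_cancel]
    have h5 : a ∈ stabilizer (MulAut V) x := by
      refine H04.mem_of_pow_mem_of_coprime (n := p) ((Nat.Prime.coprime_iff_not_dvd hp).2 fun h6 =>
        hE (h6.trans (orderOf_dvd_natCard E ha.1))) ?_
      show (a ^ p) x = x
      rw [h4, he, mul_one]
    rw [hf, show a x = x from h5, div_self']

theorem Tr.exists_inv (h : Tr E) (hc : IsMulCommutative V) (hn : Nat.card V = 3 ^ 4) :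
    ∃ z ∈ E, z ≠ 1 ∧ ∀ x, z x = x⁻¹ := by
  haveI : Fact (Nat.Prime 2) := ⟨Nat.prime_two⟩
  haveI : Nontrivial V := Finite.one_lt_card_iff_nontrivial.1 (by rw [hn]; norm_num)
  obtain ⟨v, hv⟩ := exists_ne (1 : V)
  obtain ⟨P⟩ : Nonempty (Sylow 2 E) := inferInstance
  let S : Subgroup (MulAut V) := (P : Subgroup E).map E.subtype
  have hSE : S ≤ E := map_subtype_le _
  have hS : Nat.card S = 2 ^ (Nat.card E).factorization 2 := by
    rw [← P.card_eq_multiplicity]; exact card_map_of_injective E.subtype_injective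
  have hSp : IsPGroup 2 S := IsPGroup.of_card hS
  have hidx : ∀ x : V, x ≠ 1 → 16 ∣ (stabilizer S x).index := by
    intro x hx
    have h1 := h.card_eq hx
    have h2 : Nat.card (stabilizer S x) ∣ Nat.card (st E x) := by
      rw [← card_map_of_injective S.subtype_injective]
      refine card_dvd_of_le ?_
      rintro _ ⟨b, hb, rfl⟩
      exact ⟨hSE b.2, hb⟩
    obtain ⟨k, hk⟩ := IsPGroup.iff_card.1 (hSp.to_subgroup (stabilizer S x))
    have h3 := (stabilizer S x).index_mul_card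
    rw [hk] at h2 h3
    have h4 : 2 ^ (k + 4) ∣ Nat.card E := by
      rw [h1, hn, pow_add, mul_comm]
      exact mul_dvd_mul (by norm_num) h2
    have h5 : 2 ^ (k + 4) ∣ Nat.card S := by
      rw [hS]
      exact pow_dvd_pow 2 ((Nat.prime_two.pow_dvd_iff_le_factorization Nat.card_pos.ne').1 h4)
    rw [← h3, pow_add, mul_comm] at h5
    exact Nat.dvd_of_mul_dvd_mul_right (by positivity) h5
  have hnt : Nontrivial S := by
    rw [← Finite.one_lt_card_iff_nontrivial]
    exact lt_of_lt_of_le (by norm_num) (Nat.le_of_dvd Nat.card_pos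
      ((hidx v hv).trans (stabilizer S v).index_dvd_card))
  haveI := hSp.center_nontrivial
  obtain ⟨k, hk0, hk⟩ := (hSp.to_subgroup (center S)).nontrivial_iff_card.1 this
  obtain ⟨z, hz, hz2⟩ := exists_orderOf (H := center S) Nat.prime_two (hk ▸ dvd_pow_self 2 hk0.ne')
  have hz1 : (z : MulAut V) ≠ 1 := fun e => by
    rw [show z = 1 from Subtype.ext e] at hz2; simp at hz2
  have h1 : 16 ∣ ((fx (z : MulAut V) : Set V) \ {1}).ncard := by
    refine dvd_ncard_of_orbits (H := S) _ ?_ fun x hx => hidx x hx.2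
    rintro a ha x ⟨hx, hx'⟩
    exact ⟨fx_inv (congrArg Subtype.val (mem_center_iff.1 hz ⟨a, ha⟩)) hx,
      fun e => hx' ((MulEquiv.map_eq_one_iff a).1 e)⟩
  obtain ⟨d, hd, e⟩ := card_of_ne_top Nat.prime_three hn (fx_ne_top hz1)
  rw [Set.ncard_diff_singleton_of_mem (one_mem _), ← Nat.card_coe_set_eq, SetLike.coe_sort_coe, e] at h1
  have hd0 : d = 0 := by interval_cases d <;> simp_all
  have h2 : fx (z : MulAut V) = ⊥ := eq_bot_of_card_eq _ (by simpa [hd0] using e)
  refine ⟨z, hSE z.2, hz1, fun x => ?_⟩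
  have h3 : (z : MulAut V) * z = 1 := by
    rw [← sq, ← coe_pow, ← hz2, pow_orderOf_eq_one, coe_one]
  have h4 : (z : MulAut V) x * x ∈ fx (z : MulAut V) := by
    rw [mem_fx, map_mul, ← MulAut.mul_apply, h3, MulAut.one_apply, mul_comm']
  rw [h2, mem_bot] at h4
  exact eq_inv_of_mul_eq_one_left h4

theorem card_le_three (hp : p.Prime) (hc : IsMulCommutative V) (he : ∀ x : V, x ^ p = 1)
    (hE : ¬ p ∣ Nat.card E) (ht : Tr E) (h1 : G1 E)
    (h2 : ∀ v : V, v ≠ 1 → ∀ a ∈ st E v, Good (st E v) a → a = 1) : Nat.card V ≤ 3 := by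
  haveI := Fact.mk hp
  by_contra hlt
  haveI : Nontrivial V := Finite.one_lt_card_iff_nontrivial.1 (by omega)
  obtain ⟨v, hv⟩ := exists_ne (1 : V)
  obtain ⟨n, hn⟩ := IsPGroup.iff_card.1 (H04.isPGroup_of_pow_eq_one he)
  have hcard := ht.card_eq hv
  have hdv : p ^ n - 1 ∣ Nat.card E := hn ▸ hcard ▸ dvd_mul_right _ _
  by_cases hn2 : n ≤ 2
  · have h3 : ∀ w : V, w ≠ 1 → ∀ a ∈ E, a w = w → a = 1 := fun w hw a ha e => by
      by_contra ha1
      exact ha1 (h2 w hw a ⟨ha, e⟩ (good_st hp hc he hn hn2 hE hw ⟨ha, e⟩ ha1))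
    have h4 := h1.card_le_two fun a ha b hb hab => by
      refine cyc_of_fpf hc (comm_closure_pair hab) (W := ⊤) top_ne_bot (fun _ _ _ _ => mem_top _)
        fun c hc hc1 w _ hw => by_contra fun hw1 => hc1 (h3 w hw1 c ?_ hw)
      refine (closure_le _).2 ?_ hc
      rintro x (rfl | rfl)
      exacts [ha, hb]
    have := Nat.le_of_dvd Nat.card_pos hdv
    omega
  have hS : ∀ s : ℕ, s.Prime → s ∣ p ^ n - 1 → ¬ s ^ 2 ∣ p ^ n - 1 → p ∣ s - 1 →
      ¬ s ^ 3 ∣ ∏ i : Fin n, (p ^ n - p ^ (i : ℕ)) → False := by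
    intro s hs d1 d2 d3 d4
    rw [← H04.card_mulAut_elemAb hc he hn] at d4
    have h3 : ¬ s ^ 2 ∣ Nat.card (st E v) := fun h3 => d4 (Dvd.dvd.trans (by
      rw [hcard, hn, pow_succ']; exact mul_dvd_mul d1 h3) E.card_subgroup_dvd_card)
    have h4 : ¬ s ∣ Nat.card (st E v) := fun h4 => by
      obtain ⟨a, ha, ho⟩ := exists_orderOf hs h4
      rw [h2 v hv a ha (good_of_prime hs ha ho h3), orderOf_one] at ho
      exact hs.one_lt.ne ho
    obtain ⟨a, ha, ho⟩ := exists_orderOf hs (d1.trans hdv)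
    refine hE (h1.dvd_card hs hp ha (good_of_prime hs ha ho fun h5 => d2 ?_) ho d3)
    rw [hcard, hn] at h5
    exact (((Nat.Prime.coprime_iff_not_dvd hs).2 h4).pow_left 2).dvd_of_dvd_mul_right h5
  have hZ : ∀ r, Zs p n r → p ∣ r - 1 → False := fun r hr hd => by
    obtain ⟨y, hy, ho⟩ := exists_orderOf hr.1 (hr.2.1.trans hdv)
    exact hE (h1.dvd_card hr.1 hp hy (hr.good hp hc hn ho (mem_zpowers y)) ho hd)
  by_cases c1 : p = 2 ∧ n = 6
  · obtain ⟨rfl, rfl⟩ := c1
    exact hS 7 (by norm_num) (by norm_num) (by norm_num) (by norm_num) (by decide)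
  by_cases c2 : p = 5 ∧ n = 6
  · obtain ⟨rfl, rfl⟩ := c2
    exact hS 31 (by norm_num) (by norm_num) (by norm_num) (by norm_num) (by decide)
  by_cases c3 : p = 2
  · subst c3
    obtain ⟨r, hr⟩ := H27.zsigmondy_of_three_le le_rfl (show 3 ≤ n by omega) c1
    refine hZ r hr ?_
    rcases hr.1.eq_two_or_odd' with rfl | h3
    · exact absurd dvd_rfl (Zs.ne hr hp (by omega))
    · exact (Nat.Odd.sub_odd h3 odd_one).two_dvd
  by_cases c4 : p = 3 ∧ n = 6
  · obtain ⟨rfl, rfl⟩ := c4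
    refine hZ 7 ⟨by norm_num, by norm_num, fun k h3 h4 => ?_⟩ (by norm_num)
    interval_cases k <;> norm_num
  by_cases c5 : p = 3 ∧ n = 4
  · obtain ⟨rfl, rfl⟩ := c5
    have hr : Zs 3 4 5 := ⟨by norm_num, by norm_num, fun k h3 h4 => by interval_cases k <;> norm_num⟩
    obtain ⟨y, hy, ho⟩ := exists_orderOf hr.1 (hr.2.1.trans hdv)
    obtain ⟨z, hz, hz1, e⟩ := ht.exists_inv hc hn
    have h3 : Commute z y := MulEquiv.ext fun x => by simp [e]
    have h4 : z ^ 2 = 1 := MulEquiv.ext fun x => by simp [sq, e]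
    have h5 : y ^ 5 = 1 := ho ▸ pow_orderOf_eq_one y
    have h6 : (z * y) ^ 6 = y := by
      rw [h3.mul_pow, show 6 = 2 * 3 from rfl, pow_mul, h4, one_pow, one_mul, show 2 * 3 = 5 + 1 from rfl,
        pow_succ, h5, one_mul]
    have h7 : (z * y) ^ 5 = z := by
      rw [h3.mul_pow, h5, mul_one, show 5 = 2 * 2 + 1 from rfl, pow_succ, pow_mul, h4, one_pow, one_mul]
    have hy1 : y ≠ 1 := by
      rintro rfl
      simp at ho
    have h8 := h1.orderOf_eq (E.mul_mem hz hy) hy (hr.good hp hc hn ho ((mem_zpowers_iff).2 ⟨(6 : ℕ), (zpow_natCast _ _).trans h6⟩))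
      (hr.good hp hc hn ho (mem_zpowers y)) (fun e => hy1 (by rw [← h6, e, one_pow])) hy1
    exact hz1 (by rw [← h7, ← ho, ← h8, pow_orderOf_eq_one])
  obtain ⟨r, hr1, hr2, hr3, hr4⟩ := H27.large_zsigmondy p n hp.two_le (by omega) (by omega) (by tauto)
    (by tauto) c2
  have hr : Zs p n r := ⟨hr1, hr2, fun k h3 h4 => hr3 k h3 h4⟩
  haveI := Fact.mk hr1
  rcases hr4 with h3 | h3
  · obtain ⟨y, hy, ho⟩ := exists_orderOf hr.1 (hr.2.1.trans hdv)
    have := le_of_conj_pow hc he hn hr1 ho (hr.fx_eq_bot hp hn ho) fun i hi =>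
      (h1.conj_pow hr1 hy (hr.good hp hc hn ho (mem_zpowers y)) ho hi).imp fun g hg => hg.2
    omega
  · obtain ⟨R, hR⟩ := Sylow.exists_subgroup_card_pow_prime r (h3.trans hdv)
    have hR' : Nat.card (R.map E.subtype) = r ^ 2 :=
      (card_map_of_injective E.subtype_injective).trans hR
    have hRE : R.map E.subtype ≤ E := map_subtype_le _
    haveI := IsPGroup.isMulCommutative_of_card_eq_prime_sq hR'
    obtain ⟨y, hy, ho⟩ := exists_orderOf (H := R.map E.subtype) hr1 (hR' ▸ dvd_pow_self r two_ne_zero)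
    haveI := hr.cyc hp hc hn ho this fun a ha => mul_comm_of_mem_isMulCommutative _ hy ha
    obtain ⟨a, ha⟩ := IsCyclic.exists_generator (α := R.map E.subtype)
    have h4 : orderOf (a : MulAut V) = r ^ 2 := by
      rw [orderOf_coe, orderOf_eq_card_of_forall_mem_zpowers ha, hR']
    obtain ⟨k, hk⟩ := ha ⟨y, hy⟩
    have hy1 : y ≠ 1 := by
      rintro rfl
      exact hr1.one_lt.ne (by simpa using ho)
    have h5 := h1.orderOf_eq (hRE a.2) (hRE hy)
      (hr.good hp hc hn ho ⟨k, congrArg Subtype.val hk⟩) (hr.good hp hc hn ho (mem_zpowers y))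
      (fun e => hy1 (by simpa [e] using (congrArg Subtype.val hk).symm)) hy1
    rw [h4, ho] at h5
    have := hr1.two_le
    nlinarith

end
end H21.K3
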