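import Mathlib

/-!
Symmetric local algebras (namespace H21): `SLA ε lam`, `SLA.comm_of_finrank_center_le` (Külshammer:
a symmetric local algebra with centre of dimension at most four is commutative), `Cor`.
-/

set_option autoImplicit false
set_option linter.unusedSectionVars false
set_option linter.unusedVariables false

namespace H21
open Module Submodule

variable {k A : Type*} [Field k] [Ring A] [Algebra k A] [FiniteDimensional k A]

theorem exists_sup_span {V : Type*} [AddCommGroup V] [Module k V] [FiniteDimensional k V]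
    {U W : Submodule k V} (h : U ≤ W) {m : ℕ} (h1 : finrank k W ≤ finrank k U + (m + 1)) :
    ∃ a ∈ W, finrank k W ≤ finrank k (U ⊔ k ∙ a : Submodule k V) + m := by
  by_cases h2 : U = W
  · exact ⟨0, zero_mem _, h2 ▸ le_add_right (Submodule.finrank_mono le_sup_left)⟩
  obtain ⟨a, a1, a2⟩ := SetLike.exists_of_lt (lt_of_le_of_ne h h2)
  have := Submodule.finrank_lt_finrank_of_lt (s := U) (t := U ⊔ k ∙ a) (lt_of_le_of_ne le_sup_left
    fun e => a2 (e ▸ mem_sup_right (mem_span_singleton_self a)))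
  exact ⟨a, a1, by omega⟩

/-- a split local algebra with a symmetrizing form -/
structure SLA (ε : A →ₐ[k] k) (lam : A →ₗ[k] k) : Prop where
  nil : ∀ x, ε x = 0 → IsNilpotent x
  symm : ∀ x y, lam (x * y) = lam (y * x)
  nd : ∀ x, (∀ y, lam (x * y) = 0) → x = 0

/-- the radical -/
def rad (ε : A →ₐ[k] k) : Submodule k A := LinearMap.ker ε.toLinearMap

variable (k A) in
/-- the commutator space -/
def kom : Submodule k A := span k {z | ∃ x y, x * y - y * x = z}

variable {ε : A →ₐ[k] k} {lam : A →ₗ[k] k} {x y : A}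

theorem mem_rad : x ∈ rad ε ↔ ε x = 0 := Iff.rfl

theorem sub_mem_rad (x : A) : x - ε x • 1 ∈ rad ε := by simp [mem_rad]

theorem comm_mem_kom (x y : A) : x * y - y * x ∈ kom k A := subset_span ⟨x, y, rfl⟩

theorem kom_le {U : Submodule k A} (h : ∀ x ∈ rad ε, ∀ y ∈ rad ε, x * y - y * x ∈ U) :
    kom k A ≤ U := span_le.2 <| by
  rintro _ ⟨x, y, rfl⟩
  have e : x * y - y * x = (x - ε x • 1) * (y - ε y • 1) - (y - ε y • 1) * (x - ε x • 1) := by
    simp only [mul_sub, sub_mul, mul_smul_comm, smul_mul_assoc, mul_one, one_mul]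
    module
  exact e ▸ h _ (sub_mem_rad x) _ (sub_mem_rad y)

theorem kom_le_sq : kom k A ≤ rad ε * rad ε :=
  kom_le fun _ hx _ hy => sub_mem (mul_mem_mul hx hy) (mul_mem_mul hy hx)

theorem rad_mul_le : rad ε * rad ε ≤ rad ε := mul_le.2 fun x hx y _ => by
  rw [mem_rad, map_mul, mem_rad.1 hx, zero_mul]

theorem finrank_rad : finrank k (rad ε) + 1 = finrank k A := by
  have := LinearMap.finrank_range_add_finrank_ker ε.toLinearMap
  rw [LinearMap.range_eq_top.2 fun c => ⟨c • 1, by simp⟩, finrank_top, finrank_self] at this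
  rw [← this, add_comm]; rfl

theorem comm_of_kom (h : kom k A = ⊥) (x y : A) : x * y = y * x :=
  sub_eq_zero.1 ((Submodule.mem_bot k).1 (h ▸ comm_mem_kom x y))

namespace SLA
variable (h : SLA ε lam)
include h

theorem pow_eq_bot : ∃ n, rad ε ^ (n + 1) = ⊥ := by
  haveI := IsArtinianRing.of_finite k A
  obtain ⟨n, hn⟩ := IsSemiprimaryRing.isNilpotent (R := A)
  have h1 : rad ε ≤ (Ring.jacobson A).restrictScalars k := fun x hx => by
    rw [restrictScalars_mem, ← Ideal.jacobson_bot, Ideal.mem_jacobson_iff]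
    intro y
    obtain ⟨u, hu⟩ := (h.nil (y * x) (by rw [map_mul, mem_rad.1 hx, mul_zero])).isUnit_add_one
    exact ⟨↑u⁻¹, by rw [Ideal.mem_bot, sub_eq_zero, mul_assoc, ← mul_add_one, ← hu, Units.inv_mul]⟩
  refine ⟨n, le_bot_iff.1 ((pow_le_pow_left' h1 _).trans ?_)⟩
  rw [← restrictScalars_pow n.succ_ne_zero, Submodule.pow_succ, hn]
  simp

theorem nak {N : Submodule k A} (h1 : N ≤ N * rad ε) : N = ⊥ := by
  obtain ⟨n, hn⟩ := h.pow_eq_bot
  have : ∀ m, N ≤ N * rad ε ^ (m + 1) := fun m => by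
    induction m with
    | zero => simpa using h1
    | succ m ih => rw [pow_succ, ← mul_assoc]; exact h1.trans (mul_le_mul_left ih _)
  simpa [hn] using this n

theorem le_of_gen {S : Submodule k A} (h1 : S ≤ rad ε) (h2 : S * S ≤ S)
    (h3 : rad ε ≤ S ⊔ rad ε * rad ε) : rad ε ≤ S := by
  obtain ⟨n, hn⟩ := h.pow_eq_bot
  have : ∀ m, rad ε ≤ S ⊔ rad ε ^ (m + 1) := fun m => by
    induction m with
    | zero => simp
    | succ m ih =>
      refine h3.trans (sup_le le_sup_left ((mul_le_mul' ih ih).trans ?_))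
      rw [Submodule.mul_sup, Submodule.sup_mul, Submodule.sup_mul]
      have h4 : rad ε ^ (m + 1) ≤ rad ε := by
        clear ih
        induction m with
        | zero => simp
        | succ m ih => rw [pow_succ]; exact (mul_le_mul_left ih _).trans rad_mul_le
      refine sup_le (sup_le (h2.trans le_sup_left) ?_) (sup_le ?_ ?_) <;> refine le_sup_of_le_right ?_
      · rw [pow_succ _ (m + 1)]; exact mul_le_mul_right h1 _
      · rw [pow_succ' _ (m + 1)]; exact mul_le_mul_left h1 _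
      · rw [pow_succ _ (m + 1)]; exact mul_le_mul_right h4 _
  simpa [hn] using this n

theorem lam_kom (hx : x ∈ kom k A) : lam x = 0 := by
  refine (span_le.2 ?_ : _ ≤ LinearMap.ker lam) hx
  rintro _ ⟨x, y, rfl⟩
  simp [h.symm x y]

theorem lam_mul_soc (hx : ∀ y ∈ rad ε, x * y = 0) (y : A) : lam (x * y) = ε y * lam x := by
  have := hx _ (sub_mem_rad y)
  rw [mul_sub, sub_eq_zero] at this
  simp [this]

theorem eq_zero_of_soc (hx : ∀ y ∈ rad ε, x * y = 0) (h1 : lam x = 0) : x = 0 :=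
  h.nd x fun y => by rw [h.lam_mul_soc hx, h1, mul_zero]

theorem exists_lam_ne {N : Submodule k A} (h1 : N * rad ε ≤ N) (h2 : N ≠ ⊥) :
    ∃ x ∈ N, lam x ≠ 0 := by
  by_contra! h3
  refine h2 (eq_bot_iff.2 fun x hx => h.nd x fun y => ?_)
  have := h3 _ (h1 (mul_mem_mul hx (sub_mem_rad y)))
  simpa [mul_sub, h3 x hx] using this

theorem finrank_kom : finrank k (kom k A) + finrank k (Subalgebra.center k A) = finrank k A := by
  let B : LinearMap.BilinForm k A := (LinearMap.mul k A).compr₂ lam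
  have h1 := B.finrank_add_finrank_orthogonal' (kom k A)
  have h2 : B.ker = ⊥ := eq_bot_iff.2 fun x hx => h.nd x fun y => LinearMap.congr_fun hx y
  have h3 : B.orthogonal (kom k A) = Subalgebra.toSubmodule (Subalgebra.center k A) := by
    ext z
    simp only [LinearMap.BilinForm.mem_orthogonal_iff, Subalgebra.mem_toSubmodule,
      Subalgebra.mem_center_iff]
    refine ⟨fun hz x => sub_eq_zero.1 (h.nd _ fun y => ?_), fun hz x hx => ?_⟩
    · have : lam ((y * x - x * y) * z) = 0 := hz _ (comm_mem_kom y x)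
      rw [sub_mul, map_sub, h.symm (x * z), h.symm (z * x), ← mul_assoc, ← mul_assoc, h.symm (y * z),
        ← mul_assoc, ← map_sub, ← sub_mul, this]
    · refine (span_le.2 ?_ : _ ≤ LinearMap.ker (B.flip z)) hx
      rintro _ ⟨x, y, rfl⟩
      change lam ((x * y - y * x) * z) = 0
      rw [sub_mul, map_sub, mul_assoc y, h.symm y, mul_assoc, mul_assoc, hz, sub_self]
  rw [h2, h3, inf_bot_eq, finrank_bot, add_zero] at h1
  exact h1

theorem kom_eq_bot_of_cube (h1 : rad ε * rad ε * rad ε = ⊥) : kom k A = ⊥ :=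
  eq_bot_iff.2 fun x hx => h.eq_zero_of_soc
    (fun y hy => (Submodule.mem_bot k).1 (h1 ▸ mul_mem_mul (kom_le_sq hx) hy)) (h.lam_kom hx)

theorem kom_eq_bot_of_gen {a : A} (ha : a ∈ rad ε) (h1 : rad ε ≤ rad ε * rad ε ⊔ k ∙ a) :
    kom k A = ⊥ := by
  have h2 := h.le_of_gen (S := rad ε ⊓ Subalgebra.toSubmodule (Algebra.adjoin k {a})) inf_le_left
    (mul_le.2 fun x hx y hy => ⟨rad_mul_le (mul_mem_mul hx.1 hy.1), (Algebra.adjoin k {a}).mul_mem hx.2 hy.2⟩)
    (h1.trans (sup_le le_sup_right (le_sup_of_le_left ((span_singleton_le_iff_mem _ _).2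
      ⟨ha, Algebra.self_mem_adjoin_singleton k a⟩))))
  refine eq_bot_iff.2 (kom_le (ε := ε) fun x hx y hy => ?_)
  obtain ⟨q, rfl⟩ := Algebra.adjoin_singleton_eq_range_aeval k a ▸ (h2 hx).2
  obtain ⟨q', rfl⟩ := Algebra.adjoin_singleton_eq_range_aeval k a ▸ (h2 hy).2
  simp [← map_mul, mul_comm]

/-- if `J ^ 2 / J ^ 3` is at most one-dimensional and spanned by commutators then `J ^ 3 = 0` -/
theorem cube_eq_bot {c : A} (h1 : rad ε * rad ε ≤ rad ε * rad ε * rad ε ⊔ k ∙ c)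
    (hc : c ∈ rad ε * rad ε) (h2 : rad ε * rad ε ≤ rad ε * rad ε * rad ε ⊔ kom k A) :
    rad ε * rad ε * rad ε = ⊥ := by
  by_contra h3
  set J := rad ε
  obtain ⟨μ, μ1, μ2⟩ : ∃ μ : A →ₗ[k] k, (∃ x ∈ J * J * J, μ x ≠ 0) ∧ ∀ x ∈ J * J * J * J, μ x = 0 := by
    obtain ⟨x, x1, x2⟩ := SetLike.not_le_iff_exists.1 fun e => h3 (h.nak e)
    obtain ⟨μ, m1, m2⟩ := Submodule.exists_le_ker_of_notMem x2
    exact ⟨μ, ⟨x, x1, m1⟩, m2⟩
  choose! β hβ using fun x (hx : x ∈ J) y (hy : y ∈ J) => show ∃ t : k, x * y - t • c ∈ J * J * J by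
    obtain ⟨r, r1, _, ⟨t, rfl⟩, r2⟩ := mem_sup.1 (h1 (mul_mem_mul hx hy)) |>.imp fun r => And.imp_right
      fun ⟨s, s1, s2⟩ => (⟨s, mem_span_singleton.1 s1, s2⟩ : ∃ s, (∃ t : k, t • c = s) ∧ r + s = x * y)
    exact ⟨t, by rw [← r2, add_sub_cancel_right]; exact r1⟩
  have e1 : ∀ x ∈ J, ∀ y ∈ J, ∀ z ∈ J, β x y * μ (c * z) = β y z * μ (x * c) := fun x hx y hy z hz => by
    have a1 := μ2 _ (mul_mem_mul (hβ x hx y hy) hz)
    have a2 := μ2 _ (by simpa only [mul_assoc] using mul_mem_mul hx (hβ y hy z hz))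
    simp only [sub_mul, mul_sub, map_sub, smul_mul_assoc, mul_smul_comm, map_smul, smul_eq_mul,
      mul_assoc] at a1 a2
    linear_combination a2 - a1
  obtain ⟨z, hz, e2⟩ : ∃ z ∈ J, μ (c * z) ≠ 0 := by
    by_contra! e
    obtain ⟨x, x1, x2⟩ := μ1
    refine x2 ((?_ : J * J * J ≤ LinearMap.ker μ) x1)
    refine (mul_le_mul_left h1 _).trans ?_
    rw [Submodule.sup_mul]
    exact sup_le μ2 (span_singleton_mul.le.trans (by rintro _ ⟨y, hy, rfl⟩; exact e y hy))
  have e3 : ∀ x ∈ J, ∀ y ∈ J, β x y = β y x := fun x hx y hy => mul_left_cancel₀ e2 (mul_left_cancel₀ e2 (by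
    linear_combination μ (c * z) * e1 x hx y hy z hz - μ (c * z) * e1 y hy x hx z hz +
      μ (x * c) * e1 y hy z hz z hz - μ (y * c) * e1 x hx z hz z hz))
  have e4 : kom k A ≤ J * J * J := kom_le (ε := ε) fun x hx y hy => by
    simpa [e3 x hx y hy] using sub_mem (hβ x hx y hy) (hβ y hy x hx)
  exact h3 (by rw [h.nak (h2.trans (sup_le le_rfl e4)), bot_mul])

theorem kom_lt {N : Submodule k A} (h1 : N * rad ε ≤ N) (h2 : N ≠ ⊥) : kom k A < N ⊔ kom k A := by
  obtain ⟨x, x1, x2⟩ := h.exists_lam_ne h1 h2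
  exact lt_of_le_of_ne le_sup_right fun e => x2 (h.lam_kom (e ▸ mem_sup_left x1))

omit h in
theorem kom_le_of_two {a b : A} (ha : a ∈ rad ε) (hb : b ∈ rad ε)
    (h1 : rad ε ≤ rad ε * rad ε ⊔ (k ∙ a) ⊔ k ∙ b) :
    kom k A ≤ rad ε * rad ε * rad ε ⊔ k ∙ (a * b - b * a) := kom_le fun x hx y hy => by
  obtain ⟨_, x1, _, x2, rfl⟩ := mem_sup.1 (h1 hx)
  obtain ⟨r, x3, _, x4, rfl⟩ := mem_sup.1 x1
  obtain ⟨s, rfl⟩ := mem_span_singleton.1 x4
  obtain ⟨t, rfl⟩ := mem_span_singleton.1 x2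
  obtain ⟨r', y3, u, y4, rfl⟩ : ∃ r' ∈ rad ε * rad ε, ∃ u, (∃ s' t' : k, u = s' • a + t' • b) ∧
      r' + u = y := by
    obtain ⟨_, y1, _, y2, rfl⟩ := mem_sup.1 (h1 hy)
    obtain ⟨r', y3, _, y4, rfl⟩ := mem_sup.1 y1
    obtain ⟨s', rfl⟩ := mem_span_singleton.1 y4
    obtain ⟨t', rfl⟩ := mem_span_singleton.1 y2
    exact ⟨r', y3, _, ⟨s', t', rfl⟩, (add_assoc _ _ _).symm⟩
  obtain ⟨s', t', hu⟩ := y4
  have hv : s • a + t • b ∈ rad ε := add_mem (smul_mem _ _ ha) (smul_mem _ _ hb)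
  have l : ∀ x ∈ rad ε, ∀ y ∈ rad ε * rad ε, x * y ∈ rad ε * rad ε * rad ε := fun x hx y hy => by
    simpa only [mul_assoc] using mul_mem_mul hx hy
  refine mem_sup.2 ⟨r * (r' + u) - (r' + u) * r + ((s • a + t • b) * r' - r' * (s • a + t • b)),
    add_mem (sub_mem (mul_mem_mul x3 hy) (l _ hy _ x3)) (sub_mem (l _ hv _ y3) (mul_mem_mul y3 hv)),
    (s * t' - t * s') • (a * b - b * a), smul_mem _ _ (mem_span_singleton_self _), ?_⟩
  simp only [hu, mul_add, add_mul, smul_mul_assoc, mul_smul_comm, smul_sub, sub_smul, smul_smul,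
    smul_add]
  module

theorem comm_of_finrank_center_le (h4 : finrank k (Subalgebra.center k A) ≤ 4) (x y : A) :
    x * y = y * x := by
  refine comm_of_kom (k := k) (by_contra fun h0 => ?_) x y
  have a1 := h.finrank_kom
  have a2 := finrank_rad (ε := ε)
  have a3 : rad ε * rad ε * rad ε ≤ rad ε * rad ε := by
    rw [mul_assoc]; exact mul_le_mul_right rad_mul_le _
  have a4 := Submodule.finrank_lt_finrank_of_lt (h.kom_lt (N := rad ε * rad ε * rad ε)
    (mul_le_mul_left a3 _) fun e => h0 (h.kom_eq_bot_of_cube e))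
  have a5 := Submodule.finrank_mono (sup_le a3 (kom_le_sq (ε := ε)))
  have a6 : finrank k (rad ε * rad ε : Submodule k A) + 1 < finrank k (rad ε) := by
    by_contra! e
    obtain ⟨a, b1, b2⟩ := exists_sup_span rad_mul_le (m := 0) e
    exact h0 (h.kom_eq_bot_of_gen b1 (eq_of_le_of_finrank_le
      (sup_le rad_mul_le ((span_singleton_le_iff_mem _ _).2 b1)) b2).ge)
  have a7 := (eq_of_le_of_finrank_le (sup_le a3 (kom_le_sq (ε := ε))) (by omega)).ge
  obtain ⟨a, b1, b2⟩ := exists_sup_span (rad_mul_le (ε := ε)) (m := 1) (by omega)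
  have b3 := sup_le rad_mul_le ((span_singleton_le_iff_mem _ _).2 b1)
  obtain ⟨b, b4, b5⟩ := exists_sup_span b3 (m := 0) b2
  have b6 := (eq_of_le_of_finrank_le (sup_le b3 ((span_singleton_le_iff_mem _ _).2 b4)) b5).ge
  exact h0 (h.kom_eq_bot_of_cube (h.cube_eq_bot (a7.trans (sup_le le_sup_left
    (kom_le_of_two b1 b4 b6))) (kom_le_sq (comm_mem_kom a b)) a7))

end SLA

section Cor
variable {R : Type*} [Ring R] [Algebra k R]

variable (k) in
/-- the corner `i R i` as a non-unital subalgebra -/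
def corS (i : R) : NonUnitalSubalgebra k R where
  carrier := {x | i * x = x ∧ x * i = x}
  add_mem' := fun ⟨a1, a2⟩ ⟨b1, b2⟩ => ⟨by rw [mul_add, a1, b1], by rw [add_mul, a2, b2]⟩
  zero_mem' := by simp
  mul_mem' := fun ⟨a1, _⟩ ⟨_, b2⟩ => ⟨by rw [← mul_assoc, a1], by rw [mul_assoc, b2]⟩
  smul_mem' := fun c _ ⟨a1, a2⟩ => ⟨by rw [mul_smul_comm, a1], by rw [smul_mul_assoc, a2]⟩

variable (k) in
/-- the corner `i R i` as an algebra -/
def Cor {i : R} (_ : i * i = i) : Type _ := corS k i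

variable {i : R} (hi : i * i = i)

instance : Ring (Cor k hi) where
  __ : NonUnitalRing (Cor k hi) := inferInstanceAs (NonUnitalRing (corS k i))
  one := ⟨i, hi, hi⟩
  one_mul x := Subtype.ext x.2.1
  mul_one x := Subtype.ext x.2.2

instance : Module k (Cor k hi) := inferInstanceAs (Module k (corS k i))

instance : Algebra k (Cor k hi) := Algebra.ofModule
  (fun c x y => Subtype.ext (smul_mul_assoc c x.1 y.1)) fun c x y => Subtype.ext (mul_smul_comm c x.1 y.1)

/-- the inclusion of the corner -/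
def Cor.val : Cor k hi →ₗ[k] R where
  toFun x := x.1
  map_add' _ _ := rfl
  map_smul' _ _ := rfl

theorem Cor.val_injective : Function.Injective (Cor.val (k := k) hi) := Subtype.val_injective
theorem Cor.val_mul (x y : Cor k hi) : Cor.val hi (x * y) = Cor.val hi x * Cor.val hi y := rfl
theorem Cor.val_one : Cor.val hi (1 : Cor k hi) = i := rfl
theorem Cor.mul_val (x : Cor k hi) : i * Cor.val hi x = Cor.val hi x := x.2.1
theorem Cor.val_mul' (x : Cor k hi) : Cor.val hi x * i = Cor.val hi x := x.2.2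
theorem Cor.exists_val {x : R} (h1 : i * x = x) (h2 : x * i = x) :
    ∃ y : Cor k hi, Cor.val hi y = x := ⟨⟨x, h1, h2⟩, rfl⟩

instance [FiniteDimensional k R] : FiniteDimensional k (Cor k hi) :=
  FiniteDimensional.of_injective _ (Cor.val_injective hi)

end Cor

end H21
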