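import Mathlib
import Cfsg.Agent.H21.DadeE
import Cfsg.Agent.H21.SymLoc
import Cfsg.Agent.H21.FrobC

/-!
Blocks with one Brauer character (namespace H21): `IB.sum_t1_sq`, `exists_sla` (the basic algebra is
a symmetric local algebra of dimension `|D|`), `card_eq_of_rank_one`.
-/

set_option autoImplicit false
set_option linter.unusedSectionVars false
set_option linter.unusedVariables false

namespace H21
open H05 Cfsg H20 MonoidAlgebra Classical H12.Ri Module
open scoped ComplexConjugate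

attribute [-instance] H19.instFintypeSubgroupFrob

universe u
variable {M : Ideal AlgInt} [hMm : M.IsMaximal] {G : Type u} [Group G] [Fintype G] {p : ℕ}
  {B : Set (IrrCharacter G)} {n : ℕ} {d : Fin n → ℕ}
  {π : (Res M)[G] →ₐ[Res M] Π i, Matrix (Fin (d i)) (Fin (d i)) (Res M)}
  {e : Fin n → (Res M)[G]} {φ : Fin n → G → ℂ} {β : Fin n}

theorem IB.exists_dec (hi : IB p π e φ) (hB : IsPBlock M B) (hβ : ibr π B = {β}) :
    ∃ c : IrrCharacter G → ℕ, (∀ χ ∈ B, 0 < c χ ∧ t1 M (χ : G → ℂ) (e β) = c χ) ∧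
      ∑ χ with χ ∈ B, c χ ^ 2 = p ^ blockDefect p B := by
  have hI := hB.isInt_idem
  obtain ⟨m, c, c1, c2, c3, -⟩ := exists_rank_one hi.mod hB (by rw [hi.blockRank_eq hI, hβ]; rfl)
  obtain ⟨z, hz, -⟩ := hi.exists_inv hI (hβ ▸ Finset.mem_singleton_self β)
  choose t ht using fun χ : IrrCharacter G => exists_nat_t1 χ.2.isCharacter (hi.pm β).sq
  have h1 : ∀ χ ∈ B, (t χ : ℤ) = c χ * ∑ ψ with ψ ∈ B, m ψ * t ψ := fun χ hχ => by
    have := hi.t1_congr (θ' := ∑ ψ with ψ ∈ B, (c χ * m ψ : ℂ) • (ψ : G → ℂ)) χ.2.isClassFunction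
      (IsClassFunction.sum _ fun ψ _ => ψ.2.isClassFunction.smul _) (fun g hg => by
        simp [c2 χ hχ g hg, Finset.mul_sum, mul_assoc]) β
    rw [t1_sum_left _ _ (fun ψ _ => ψ.2.isClassFunction) (hi.pm β).sq] at this
    simp only [ht, mul_assoc, ← Finset.mul_sum] at this
    exact_mod_cast this
  generalize ∑ ψ with ψ ∈ B, m ψ * t ψ = N at h1
  have h2 := hz β
  simp only [ht, if_true] at h2
  norm_cast at h2
  rw [Finset.sum_congr rfl fun χ hχ => by
    rw [h1 χ (Finset.mem_filter.1 hχ).2, ← mul_assoc], ← Finset.sum_mul] at h2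
  obtain ⟨χ, hχ⟩ := hB.nonempty
  have h3 : N = 1 := Int.eq_one_of_mul_eq_one_left (nonneg_of_mul_nonneg_right
    (h1 χ hχ ▸ Nat.cast_nonneg _) (Nat.cast_pos.2 (c1 χ hχ))) h2
  refine ⟨c, fun χ hχ => ⟨c1 χ hχ, ?_⟩, c3⟩
  have := h1 χ hχ
  rw [h3, mul_one] at this
  rw [ht]; exact_mod_cast this

omit hMm in
theorem coeff_one_mul_comm {k : Type*} [CommRing k] (x y : k[G]) :
    (x * y).coeff 1 = (y * x).coeff 1 := by
  rw [coeff_mul_left, coeff_mul_right]
  simp [mul_comm]

theorem exists_sla (hM : IsPModular p M) (hB : IsPBlock M B) (hl : blockRank p B = 1) :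
    ∃ (A : Type u) (_ : Ring A) (_ : Algebra (Res M) A) (_ : FiniteDimensional (Res M) A)
      (ε : A →ₐ[Res M] Res M) (lam : A →ₗ[Res M] Res M), SLA ε lam ∧
      finrank (Res M) A = p ^ blockDefect p B ∧
      finrank (Res M) (Subalgebra.center (Res M) A) ≤ Nat.card B ∧
      Nat.card B ≤ p ^ blockDefect p B := by
  obtain ⟨n, d, π, e, φ, hi⟩ := exists_ib' hM G
  have hI := hB.isInt_idem
  obtain ⟨β, hβ⟩ := Finset.card_eq_one.1 ((hi.blockRank_eq hI).symm.trans hl)
  have hβ' : β ∈ ibr π B := hβ ▸ Finset.mem_singleton_self β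
  obtain ⟨c, c1, c2⟩ := hi.exists_dec hB hβ
  have h2 := (hi.pm β).sq
  obtain ⟨x, y, s1, s2, s3, s4, s5⟩ := exists_full hM hi.wed (hi.pm β) hB.eB_mul_self fun γ hγ =>
    ibr_of_notMem hi.wed hI (by simpa [hβ] using hγ)
  let v : Cor (Res M) h2 →ₗ[Res M] (Res M)[G] := Cor.val h2
  let E : Cor (Res M) h2 →ₗ[Res M] Res M :=
    Matrix.traceLinearMap _ _ _ ∘ₗ LinearMap.proj β ∘ₗ π.toLinearMap ∘ₗ v
  have e1 : ∀ a, π (v a) = E a • π (e β) := fun a => by
    obtain ⟨t, ht⟩ := (hi.pm β).loc (v a)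
    rw [Cor.mul_val, Cor.val_mul'] at ht
    have : E a = t := by simp [E, v, ht, (hi.pm β).trace]
    rw [ht, this]
  have e2 : π (e β) ≠ 0 := fun h => (hi.pm β).ne (by rw [h]; rfl)
  have e3 : ∀ a : (Res M)[G], ∃ b, v b = e β * a * e β := fun a => Cor.exists_val h2
    (by rw [← mul_assoc, ← mul_assoc, h2]) (by rw [mul_assoc, h2])
  refine ⟨Cor (Res M) h2, inferInstance, inferInstance, inferInstance, AlgHom.ofLinearMap E
    (smul_left_injective _ e2 ((e1 1).symm.trans (one_smul _ _).symm)) fun a b =>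
      smul_left_injective _ e2 ((e1 _).symm.trans (show π (v a * v b) = (E a * E b) • π (e β) from ?_)),
    (Finsupp.lapply 1 ∘ₗ (coeffLinearEquiv (Res M)).toLinearMap) ∘ₗ v,
    ⟨fun a ha => ?_, fun a b => coeff_one_mul_comm _ _, fun a ha => ?_⟩, ?_, ?_, ?_⟩
  · rw [map_mul, e1, e1, smul_mul_smul_comm, ← map_mul π, h2]
  · obtain ⟨N, hN⟩ := hi.wed.nil (v a) (by rw [e1, show E a = 0 from ha, zero_smul])
    have : ∀ m, v (a ^ (m + 1)) = v a ^ (m + 1) := fun m => by
      induction m with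
      | zero => simp
      | succ m ih => rw [pow_succ, Cor.val_mul, ih, ← pow_succ]
    exact ⟨N + 1, Cor.val_injective h2 (by rw [this, pow_succ, hN, zero_mul, map_zero])⟩
  · refine Cor.val_injective h2 (ext_coeff fun g => ?_)
    obtain ⟨b, hb⟩ := e3 (single g⁻¹ 1)
    have : (v a * v b).coeff 1 = 0 := ha b
    rw [hb, ← mul_assoc, coeff_one_mul_comm, ← mul_assoc, ← mul_assoc, Cor.mul_val,
      Cor.val_mul', coeff_mul_single_apply] at this
    simpa using this
  · rw [← c2, ← LinearMap.finrank_range_of_inj (Cor.val_injective h2),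
      show LinearMap.range (Cor.val h2) = corner (e β) (e β) from Submodule.ext fun a =>
        ⟨fun ⟨b, hb⟩ => (mem_corner h2 h2).2 (hb ▸ ⟨Cor.mul_val h2 b, Cor.val_mul' h2 b⟩), fun h =>
          Cor.exists_val h2 ((mem_corner h2 h2).1 h).1 ((mem_corner h2 h2).1 h).2⟩,
      ← Nat.cast_inj (R := ℂ), finrank_corner h2 h2, Nat.cast_sum, Finset.sum_filter]
    refine Finset.sum_congr rfl fun χ _ => ?_
    split_ifs with hχ
    · rw [(c1 χ hχ).2, Nat.cast_pow, sq]
    · rw [(hi.pm β).t1_of_mem hi.wed hI hχ hβ', zero_mul]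
  · let T : Subalgebra.center (Res M) (Cor (Res M) h2) →ₗ[Res M] (Res M)[G] :=
      (∑ j, LinearMap.mulLeft _ (x j) ∘ₗ LinearMap.mulRight _ (y j)) ∘ₗ v ∘ₗ
        (Subalgebra.val _).toLinearMap
    have t1 : ∀ w, T w = ∑ j, x j * (v w * y j) := fun w => by simp [T]
    have t2 : ∀ (w : Subalgebra.center (Res M) (Cor (Res M) h2)) a, e β * a = a → a * e β = a →
        a * v w = v w * a := fun w a a1 a2 => by
      obtain ⟨b, rfl⟩ := Cor.exists_val (k := Res M) h2 a1 a2
      exact congrArg v (Subalgebra.mem_center_iff.1 w.2 b)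
    have t3 : ∀ w, e β * T w * e β = v w := fun w => by
      rw [t1, Finset.mul_sum, Finset.sum_mul, Finset.sum_congr rfl fun j _ => by
        rw [← mul_assoc, ← mul_assoc, t2 w _ (by rw [← mul_assoc, h2]) (by rw [mul_assoc, s2]),
          mul_assoc, mul_assoc, mul_assoc, ← mul_assoc (x j)], ← Finset.mul_sum, ← Finset.mul_sum,
        ← Finset.sum_mul, s1, (hi.pm β).eB_mul hi.wed hI hβ', h2, Cor.val_mul']
    rw [← LinearMap.finrank_range_of_inj (f := T) fun w w' h =>
      Subtype.ext (Cor.val_injective h2 (by rw [← t3, ← t3, h]))]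
    refine finrank_le_card hI ?_
    rintro _ ⟨w, rfl⟩
    refine ⟨Subalgebra.mem_center_iff.2 fun a => ?_, by
      simp only [t1, Finset.mul_sum, ← mul_assoc, s4]⟩
    calc a * T w = ∑ j, ∑ l, x l * (y l * a * x j * v w * y j) := by
          rw [t1, Finset.mul_sum]
          refine Finset.sum_congr rfl fun j _ => ?_
          rw [Finset.sum_congr rfl (g := fun l => x l * y l * (a * (x j * (v w * y j))))
            fun l _ => by simp only [mul_assoc], ← Finset.sum_mul, s1, ← mul_assoc (eB M B),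
            (isCen_eB B).comm, mul_assoc, ← mul_assoc (eB M B), s4]
      _ = _ := by
          rw [t1, Finset.sum_mul, Finset.sum_comm]
          refine Finset.sum_congr rfl fun l _ => ?_
          rw [← Finset.mul_sum, Finset.sum_congr rfl fun j _ => by
            rw [t2 w _ (by rw [← mul_assoc, ← mul_assoc, s3]) (by rw [mul_assoc, s2]), mul_assoc,
              mul_assoc], ← Finset.mul_sum, ← Finset.mul_sum, s1, mul_assoc (y l),
            ← (isCen_eB B).comm, ← mul_assoc (y l), s5]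
          simp only [mul_assoc]
  · rw [← c2, natCard_eq_card_filter, Finset.card_eq_sum_ones]
    exact Finset.sum_le_sum fun χ hχ => Nat.one_le_pow _ _ (c1 χ (Finset.mem_filter.1 hχ).2).1

theorem card_eq_of_rank_one (hM : IsPModular p M) (hB : IsPBlock M B) (hl : blockRank p B = 1)
    (hk : Nat.card B ≤ 4) : Nat.card B = p ^ blockDefect p B := by
  obtain ⟨A, _, _, _, ε, lam, h1, h2, h3, h4⟩ := exists_sla hM hB hl
  have : Subalgebra.center (Res M) A = ⊤ := top_le_iff.1 fun x _ =>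
    Subalgebra.mem_center_iff.2 fun y => h1.comm_of_finrank_center_le (h3.trans hk) y x
  rw [this, Subalgebra.topEquiv.toLinearEquiv.finrank_eq, h2] at h3
  exact le_antisymm h4 h3

end H21
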