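import Cfsg.Agent.H21.SL5b

/-!
Chlebowitz-Külshammer: a symmetric local algebra over an algebraically closed field with centre of
dimension at most five is commutative or eight-dimensional (`H21.SL5.main`).
-/

set_option autoImplicit false
set_option linter.unusedSectionVars false
set_option linter.unusedVariables false

namespace H21.SL5
open Module Submodule

variable {k A : Type*} [Field k] [Ring A] [Algebra k A] [FiniteDimensional k A]
variable {ε : A →ₐ[k] k} {lam : A →ₗ[k] k} {x y : A}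

theorem singular2 {V W : Type*} [AddCommGroup V] [Module k V] [FiniteDimensional k V]
    [AddCommGroup W] [Module k W] (μ : V →ₗ[k] V →ₗ[k] W) (h2 : finrank k V = 2) :
    (∃ a, Function.Injective (μ a)) ∨ (∃ u ≠ 0, ∀ a, μ a u = 0) ∨
      ∃ l, ∀ a v, μ a v ∈ (k ∙ l : Submodule k W) := by
  by_cases hi : ∃ a, Function.Injective (μ a)
  · exact Or.inl hi
  right
  push Not at hi
  have hk : ∀ a, ∃ u ≠ 0, μ a u = 0 := fun a => by
    by_contra! e
    exact hi a ((injective_iff_map_eq_zero _).2 fun u hu => by_contra fun e' => e u e' hu)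
  have h1 : ∀ a u w, μ a u ≠ 0 → μ a w ∈ (k ∙ μ a u : Submodule k W) := fun a u w hu => by
    have e : finrank k (LinearMap.range (μ a)) ≤ finrank k (k ∙ μ a u : Submodule k W) := by
      have e1 := LinearMap.finrank_range_add_finrank_ker (μ a)
      have e2 := mt Submodule.finrank_eq_zero.1 (mt LinearMap.ker_eq_bot.1 (hi a))
      rw [finrank_span_singleton hu]; omega
    rw [eq_of_le_of_finrank_le ((span_singleton_le_iff_mem _ _).2 (LinearMap.mem_range_self _ u)) e]
    exact ⟨w, rfl⟩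
  by_cases h0 : ∀ a w, μ a w = 0
  · exact Or.inr ⟨0, fun b v => by simp [h0]⟩
  push Not at h0
  obtain ⟨a₀, w, hw⟩ := h0
  obtain ⟨u, u0, hu⟩ := hk a₀
  by_cases h3 : ∀ a, μ a u = 0
  · exact Or.inl ⟨u, u0, h3⟩
  push Not at h3
  obtain ⟨a₁, e⟩ := h3
  have e1 := h1 (a₀ + a₁) u w (by simpa [hu] using e)
  simp only [map_add, LinearMap.add_apply, hu, zero_add] at e1
  have e2 := (add_mem_cancel_right (h1 a₁ u w e)).1 e1
  refine Or.inr ⟨μ a₁ u, fun a v => ?_⟩
  have hli : LinearIndependent k ![a₀, a₁] := LinearIndependent.pair_iff.2 fun s t hst => by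
    have := congrArg (μ · u) hst
    simp only [map_add, map_smul, LinearMap.add_apply, LinearMap.smul_apply, hu, smul_zero, zero_add,
      map_zero, LinearMap.zero_apply, smul_eq_zero, e, or_false] at this
    rw [this, zero_smul, add_zero, smul_eq_zero] at hst
    exact ⟨hst.resolve_right fun e' => hw (by simp [e']), this⟩
  obtain ⟨g, rfl⟩ := (mem_span_range_iff_exists_fun k).1
    (hli.span_eq_top_of_card_eq_finrank' (by simp [h2]) ▸ mem_top (x := a))
  simp only [Fin.sum_univ_two, Matrix.cons_val_zero, Matrix.cons_val_one, map_add, map_smul,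
    LinearMap.add_apply, LinearMap.smul_apply]
  exact add_mem (smul_mem _ _ ((span_singleton_le_iff_mem _ _).2 e2 (h1 a₀ w v hw)))
    (smul_mem _ _ (h1 a₁ u v e))

theorem two_dep {U : Submodule k A} {s t : k} (h : s • x + t • y ∈ U) (h0 : ¬ (s = 0 ∧ t = 0)) :
    ∃ w, U ⊔ span k {x, y} ≤ U ⊔ k ∙ w := by
  by_cases hs : s = 0
  · have ht : t ≠ 0 := fun e => h0 ⟨hs, e⟩
    rw [hs, zero_smul, zero_add, smul_mem_iff _ ht] at h
    refine ⟨x, sup_le le_sup_left (span_le.2 ?_)⟩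
    rintro _ (rfl | rfl)
    exacts [mem_sup_right (mem_span_singleton_self _), mem_sup_left h]
  · refine ⟨y, sup_le le_sup_left (span_le.2 ?_)⟩
    rintro z (rfl | rfl)
    · refine (smul_mem_iff _ hs).1 (mem_sup.2 ⟨_, h, -t • y, smul_mem _ _ (mem_span_singleton_self _), ?_⟩)
      module
    · exact mem_sup_right (mem_span_singleton_self _)

theorem finrank_sup_le (U : Submodule k A) (w : A) :
    finrank k (U ⊔ k ∙ w : Submodule k A) ≤ finrank k U + 1 := by
  have h1 := Submodule.finrank_add_le_finrank_add_finrank U (k ∙ w)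
  have h2 := finrank_span_le_card (R := k) ({w} : Set A)
  simp at h2
  omega

theorem gen2 (hr : finrank k (rad ε) ≤ finrank k (rad ε ^ 2 : Submodule k A) + 2) (h1 : x ∈ rad ε)
    (h2 : x ∉ rad ε ^ 2) : ∃ a ∈ rad ε, rad ε ≤ rad ε ^ 2 ⊔ span k {x, a} := by
  have b0 : rad ε ^ 2 ≤ rad ε := by rw [pow_two]; exact rad_mul_le
  have b1 := sup_le b0 ((span_singleton_le_iff_mem _ _).2 h1)
  have := Submodule.finrank_lt_finrank_of_lt (s := rad ε ^ 2) (t := rad ε ^ 2 ⊔ k ∙ x)
    (lt_of_le_of_ne le_sup_left fun e => h2 (e ▸ mem_sup_right (mem_span_singleton_self x)))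
  obtain ⟨a, a1, a2⟩ := exists_sup_span b1 (m := 0) (by omega)
  refine ⟨a, a1, ?_⟩
  rw [span_insert, ← sup_assoc]
  exact (eq_of_le_of_finrank_le (sup_le b1 ((span_singleton_le_iff_mem _ _).2 a1)) a2).ge

theorem center_sub (h : SLA ε lam) (h0 : kom k A ≠ ⊥)
    (hr : finrank k (rad ε) ≤ finrank k (rad ε ^ 2 : Submodule k A) + 2) (h1 : x ∈ rad ε)
    (hz : ∀ y, y * x = x * y) : x ∈ rad ε ^ 2 := by
  by_contra h2
  obtain ⟨a, a1, a2⟩ := gen2 hr h1 h2
  have key : ∀ c, c * a = a * c → ∀ y ∈ rad ε, c * y = y * c := fun c hc y hy => by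
    have := h.le_of_gen (S := rad ε ⊓ Subalgebra.toSubmodule (Subalgebra.centralizer k {c}))
      inf_le_left (mul_le.2 fun x hx y hy => ⟨rad_mul_le (mul_mem_mul hx.1 hy.1),
        (Subalgebra.centralizer k {c}).mul_mem hx.2 hy.2⟩) (a2.trans (by
          rw [pow_two, sup_comm]
          refine sup_le_sup_right (span_le.2 ?_) _
          rintro z (rfl | rfl)
          · exact ⟨h1, by rintro _ rfl; exact hz _⟩
          · exact ⟨a1, by rintro _ rfl; exact hc⟩)) hy
    exact this.2 c rfl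
  exact h0 (eq_bot_iff.2 (kom_le (ε := ε) fun c hc y hy =>
    (mem_bot k).2 (sub_eq_zero.2 (key c (key a rfl c hc).symm y hy))))

theorem layers {w : A} (hw : w ∈ rad ε ^ 2) (h : rad ε ^ 2 ≤ rad ε ^ 3 ⊔ k ∙ w) (i : ℕ) :
    ∃ m ∈ rad ε ^ (i + 2), rad ε ^ (i + 2) ≤ rad ε ^ (i + 3) ⊔ k ∙ m := by
  induction i with
  | zero => exact ⟨w, hw, h⟩
  | succ i ih =>
    obtain ⟨m, m1, m2⟩ := ih
    by_cases h1 : rad ε ^ (i + 2) ≤ rad ε ^ (i + 3)
    · refine ⟨0, zero_mem _, le_sup_of_le_left ?_⟩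
      rw [show i + 1 + 2 = i + 2 + 1 from rfl, show i + 1 + 3 = i + 3 + 1 from rfl, pow_succ,
        pow_succ _ (i + 3)]
      exact mul_le_mul_left h1 _
    obtain ⟨f, hf⟩ := exists_coord (U := rad ε ^ (i + 3)) (w := m) fun e => h1 (m2.trans
      (sup_le le_rfl ((span_singleton_le_iff_mem _ _).2 e)))
    obtain ⟨y₀, y1, z₀, z1, h0⟩ : ∃ y ∈ rad ε ^ (i + 1), ∃ z ∈ rad ε, f (y * z) ≠ 0 := by
      by_contra! e
      refine h1 ((pow_succ _ (i + 1)).le.trans (mul_le.2 fun y hy z hz => ?_))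
      simpa [e y hy z hz] using hf _ (m2 (mpow hy (Top.p1 hz)))
    refine ⟨m * z₀, mpow m1 (Top.p1 z1), (pow_succ' _ (i + 2)).le.trans (mul_le.2 fun x hx y hy => ?_)⟩
    have e1 := mpow (Top.p1 hx) (hf _ (m2 hy)) (n := i + 1 + 3)
    have e2 := mpow (Top.p1 hx) (hf _ (m2 (mpow y1 (Top.p1 z1)))) (n := i + 1 + 3)
    have e3 := mpow (hf _ (m2 (mpow (Top.p1 hx) y1))) (Top.p1 z1) (n := i + 1 + 3)
    refine (smul_mem_iff _ h0).1 (mem_sup.2 ⟨_, add_mem (smul_mem _ (f (y₀ * z₀)) e1)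
      (smul_mem _ (f y) (sub_mem e3 e2)), (f y * f (x * y₀)) • (m * z₀),
      smul_mem _ _ (mem_span_singleton_self _), ?_⟩)
    simp only [mul_sub, sub_mul, smul_mul_assoc, mul_smul_comm, mul_assoc]
    module

theorem Top.two_one {n : ℕ} (h : Top ε lam (n + 3)) (h0 : kom k A ≠ ⊥)
    (hr : finrank k (rad ε) = finrank k (rad ε ^ 2 : Submodule k A) + 2) {w : A} (hw : w ∈ rad ε ^ 2)
    (h1 : rad ε ^ 2 ≤ rad ε ^ 3 ⊔ k ∙ w) : False := by
  have key : ∀ j ≤ n, perp lam (rad ε ^ 2) ≤ rad ε ^ (j + 2) := by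
    intro j hj
    induction j with
    | zero =>
      exact fun y hy => center_sub h.toSLA h0 hr.le (h.perp_le_rad hy)
        (mem_center_of_perp h.toSLA hy)
    | succ j ih =>
      intro y hy
      by_contra e
      obtain ⟨m, m1, m2⟩ := layers hw h1 j
      obtain ⟨u, hu, _, ht, e'⟩ := mem_sup.1 (m2 (ih (by omega) hy))
      obtain ⟨t, rfl⟩ := mem_span_singleton.1 ht
      have t0 : t ≠ 0 := by rintro rfl; exact e (by simpa [← e'] using hu)
      refine h.not_le (i := j + 2 + 2) (by omega) (by omega)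
        ((pow_add _ _ _).le.trans (mul_le.2 fun x hx z hz => ?_))
      obtain ⟨u', hu', _, ht', rfl⟩ := mem_sup.1 (m2 hx)
      obtain ⟨t', rfl⟩ := mem_span_singleton.1 ht'
      have hyz : y * z = 0 := h.nd _ fun c => by
        rw [mul_assoc]
        refine hy _ ?_
        have := mpow hz (Top.p1 (sub_mem_rad (ε := ε) c)) rfl
        simpa [mul_sub] using add_mem (anti this (i := 2)) (smul_mem _ (ε c) hz)
      have e2 : m * z = -(t⁻¹ • (u * z)) := by
        rw [← e', add_mul, smul_mul_assoc] at hyz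
        rw [eq_neg_of_add_eq_zero_left hyz, smul_neg, neg_neg, inv_smul_smul₀ t0]
      rw [add_mul, smul_mul_assoc, e2]
      exact add_mem (mpow hu' hz) (smul_mem _ _ (neg_mem (smul_mem _ _ (mpow hu hz))))
  obtain ⟨m, m1, m2⟩ := layers hw h1 n
  have a1 := Submodule.finrank_mono ((key n le_rfl).trans m2)
  have a2 := finrank_sup_le (rad ε ^ (n + 3)) m
  have a3 := finrank_perp h.toSLA (rad ε ^ 2)
  have a4 := finrank_rad (ε := ε)
  have a5 := h.finrank_top
  omega

/-- two generators and two-dimensional second layer -/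
structure G2 (ε : A →ₐ[k] k) (lam : A →ₗ[k] k) (n : ℕ) (a b : A) : Prop extends Top ε lam (n + 4) where
  ma : a ∈ rad ε ^ 1
  mb : b ∈ rad ε ^ 1
  gen : rad ε ≤ rad ε ^ 2 ⊔ span k {a, b}
  two : ∀ w, ¬ rad ε ^ 2 ≤ rad ε ^ 3 ⊔ k ∙ w
  cube : rad ε ^ 3 ≤ rad ε ^ (n + 4) ⊔ kom k A
  sq : finrank k (rad ε ^ 2 : Submodule k A) ≤ finrank k (rad ε ^ 3 ⊔ kom k A : Submodule k A) + 1

theorem k3_le : map₂ (cm k) (rad ε) (rad ε ^ 2) ≤ rad ε ^ 3 :=
  map₂_le.2 fun x hx y hy => sub_mem (mpow (Top.p1 hx) hy) (mpow hy (Top.p1 hx))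

theorem k4_le : map₂ (cm k) (rad ε) (rad ε ^ 3) ≤ rad ε ^ 4 :=
  map₂_le.2 fun x hx y hy => sub_mem (mpow (Top.p1 hx) hy) (mpow hy (Top.p1 hx))

theorem mem_pair {U : Submodule k A} {z : A} (s t : k) (h : z - (s • x + t • y) ∈ U) :
    z ∈ U ⊔ span k {x, y} :=
  mem_sup.2 ⟨_, h, _, mem_span_pair.2 ⟨s, t, rfl⟩, sub_add_cancel _ _⟩

theorem mem_one {U : Submodule k A} {z : A} (s : k) (h : z - s • x ∈ U) : z ∈ U ⊔ k ∙ x :=
  mem_sup.2 ⟨_, h, _, mem_span_singleton.2 ⟨s, rfl⟩, sub_add_cancel _ _⟩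

theorem of_pair {U : Submodule k A} {z : A} (h : z ∈ U ⊔ span k {x, y}) :
    ∃ s t : k, z - (s • x + t • y) ∈ U := by
  obtain ⟨u, hu, _, hv, rfl⟩ := mem_sup.1 h
  obtain ⟨s, t, rfl⟩ := mem_span_pair.1 hv
  exact ⟨s, t, by simpa using hu⟩

namespace G2
variable {n : ℕ} {a b : A} (h : G2 ε lam n a b)
include h

theorem cube_le : rad ε ^ 3 ≤ rad ε ^ (n + 4) ⊔ map₂ (cm k) (rad ε) (rad ε ^ 2) := by
  have hk : kom k A ≤ map₂ (cm k) (rad ε) (rad ε ^ 2) ⊔ k ∙ (a * b - b * a) := by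
    refine Top.kom_le_gen (ε := ε) (S := {a, b}) (by simpa using And.intro h.ma h.mb) h.gen
      (fun x hx y hy => mem_sup_left (apply_mem_map₂ _ hx hy)) ?_
    simp only [Set.mem_insert_iff, Set.mem_singleton_iff, forall_eq_or_imp, forall_eq, sub_self,
      zero_mem, true_and, and_true]
    exact ⟨mem_sup_right (mem_span_singleton_self _), mem_sup_right (by
        rw [← neg_sub (a * b), neg_mem_iff]; exact mem_span_singleton_self _)⟩
  have hab : a * b - b * a ∉ rad ε ^ 3 := fun e => by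
    have e1 := h.sq
    rw [sup_eq_left.2 (hk.trans (sup_le k3_le ((span_singleton_le_iff_mem _ _).2 e)))] at e1
    obtain ⟨w, w1, w2⟩ := exists_sup_span (U := rad ε ^ 3) (W := rad ε ^ 2) (fun x hx => anti hx)
      (m := 0) e1
    exact h.two w (eq_of_le_of_finrank_le (sup_le (fun x hx => anti hx)
      ((span_singleton_le_iff_mem _ _).2 w1)) w2).ge
  intro x hx
  obtain ⟨u, hu, _, hv, rfl⟩ := mem_sup.1
    ((h.cube.trans (sup_le_sup_left hk _)).trans_eq (sup_assoc _ _ _).symm hx)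
  obtain ⟨t, rfl⟩ := mem_span_singleton.1 hv
  by_cases t0 : t = 0
  · simpa [t0] using hu
  · exact (hab ((smul_mem_iff _ t0).1 ((add_mem_cancel_left
      (sup_le (fun x hx => anti hx) k3_le hu)).1 hx))).elim

theorem three (w : A) : ¬ rad ε ^ 3 ≤ rad ε ^ 4 ⊔ k ∙ w := fun e =>
  h.not_le (i := 3) (by omega) (by omega) (h.cube_le.trans (sup_le (fun x hx => anti hx)
    (map₂_le.2 fun x hx y hy => comm_mem_of_layer (j := 2) (U' := rad ε ^ 5) e
      (fun a ha y hy => mpow (Top.p1 ha) hy) (fun a ha y hy => mpow hy (Top.p1 ha))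
      h.not_le hx hy)))

theorem ind {s t : k} (h1 : map₂ (cm k) (rad ε) (rad ε ^ 2) ≤ rad ε ^ 4 ⊔ span k {x, y})
    (h2 : s • x + t • y ∈ rad ε ^ 4) : s = 0 ∧ t = 0 := by
  by_contra e
  obtain ⟨w, hw⟩ := two_dep h2 e
  exact h.three w (h.cube_le.trans ((sup_le (le_sup_of_le_left fun x hx => anti hx) h1).trans hw))

theorem noker (hb : ∀ x ∈ rad ε, x * b ∈ rad ε ^ 3) : False := by
  have ma := h.ma
  have mb := h.mb
  have h2 : rad ε ^ 2 ≤ rad ε ^ 3 ⊔ span k {a * a, b * a} := by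
    rw [pow_two]
    refine mul_le.2 (bil (LinearMap.mul k A) h.gen h.gen (fun x hx y hy => mem_sup_left
      (mpow hx (Top.p1 hy))) ?_ ?_)
    · rintro x (rfl | rfl) y hy <;> exact mem_sup_left (mpow ‹_› hy)
    · rintro x (rfl | rfl) y (rfl | rfl)
      exacts [mem_sup_right (subset_span (by simp)), mem_sup_left (hb _ (by simpa using ma)),
        mem_sup_right (subset_span (by simp)), mem_sup_left (hb _ (by simpa using mb))]
  have hab := hb a (by simpa using ma)
  have hbb := hb b (by simpa using mb)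
  refine h.three (b * a * a) (h.cube_le.trans (sup_le (le_sup_of_le_left fun x hx => anti hx)
    (map₂_le.2 (bil (cm k) h.gen h2 (fun x hx y hy => mem_sup_left (sub_mem (mpow hx hy) (mpow hy hx)))
      ?_ ?_))))
  · rintro x (rfl | rfl) y hy <;> exact mem_sup_left (sub_mem (mpow ‹_› hy) (mpow hy ‹_›))
  · simp only [Set.mem_insert_iff, Set.mem_singleton_iff, forall_eq_or_imp, forall_eq, cm_apply]
    refine ⟨⟨by simp [mul_assoc], mem_one (-1) ?_⟩, mem_one 1 ?_, mem_sup_left ?_⟩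
    · simpa [mul_assoc] using mpow hab ma (n := 4)
    · simpa [mul_assoc] using mpow ma hab (n := 4)
    · simpa [mul_assoc] using sub_mem (mpow hbb ma (n := 4)) (mpow mb hab)

theorem onto (h2 : rad ε ^ 2 ≤ rad ε ^ 3 ⊔ span k {a * a, a * b}) :
    n = 0 ∧ finrank k (rad ε ^ 3 : Submodule k A) = 3 := by
  have ma := h.ma
  have mb := h.mb
  obtain ⟨α, β, r1⟩ := of_pair (h2 (mpow mb ma))
  obtain ⟨γ, δ, r2⟩ := of_pair (h2 (mpow mb mb))
  have h3 : rad ε ^ 3 ≤ rad ε ^ 4 ⊔ span k {a * (a * a), a * (a * b)} := by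
    rw [pow_succ]
    refine mul_le.2 fun x hx y hy => ?_
    obtain ⟨s, t, e⟩ := of_pair (h2 hx)
    obtain ⟨s', t', e'⟩ := of_pair (h2 (mpow (add_mem (smul_mem _ s ma) (smul_mem _ t mb)) (Top.p1 hy)))
    refine mem_pair s' t' ?_
    convert add_mem (mpow e (Top.p1 hy) (n := 4)) (mpow ma e') using 1
    simp only [mul_sub, sub_mul, mul_add, add_mul, smul_mul_assoc, mul_smul_comm, mul_assoc]
    module
  obtain ⟨E1, E2⟩ := h.ind (s := γ + α * δ - α ^ 2 - α ^ 2 * β - β ^ 2 * γ)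
    (t := β * δ - α * β ^ 2 - α * β - β ^ 2 * δ) (k3_le.trans h3) (by
      convert add_mem (add_mem (add_mem (add_mem (sub_mem (mpow mb r1 (n := 4)) (mpow r2 ma))
        (smul_mem _ (α * β - δ) (mpow ma r1))) (smul_mem _ α (mpow r1 ma))) (smul_mem _ β (mpow r1 mb)))
        (smul_mem _ (β ^ 2) (mpow ma r2)) using 1
      simp only [mul_sub, sub_mul, mul_add, add_mul, smul_mul_assoc, mul_smul_comm, mul_assoc]
      module)
  have hk3 : map₂ (cm k) (rad ε) (rad ε ^ 2) ≤ rad ε ^ 4 ⊔ span k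
      {α • (a * (a * a)) + (β - 1) • (a * (a * b)),
        ((β - 1) * γ) • (a * (a * a)) + (α + (β - 1) * δ) • (a * (a * b))} := by
    refine map₂_le.2 (bil (cm k) h.gen h2
      (fun x hx y hy => mem_sup_left (sub_mem (mpow hx hy) (mpow hy hx))) ?_ ?_)
    · rintro x (rfl | rfl) y hy <;> exact mem_sup_left (sub_mem (mpow ‹_› hy) (mpow hy ‹_›))
    simp only [Set.mem_insert_iff, Set.mem_singleton_iff, forall_eq_or_imp, forall_eq, cm_apply]
    refine ⟨⟨by simp [mul_assoc], mem_pair (-1) 0 ?_⟩, mem_pair (1 + β) 0 ?_, mem_pair 0 1 ?_⟩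
    · convert neg_mem (mpow ma r1 (n := 4)) using 1
      simp only [mul_sub, sub_mul, mul_add, add_mul, smul_mul_assoc, mul_smul_comm, mul_assoc]
      module
    · convert add_mem (mpow r1 ma (n := 4)) (smul_mem _ β (mpow ma r1)) using 1
      simp only [mul_sub, sub_mul, mul_add, add_mul, smul_mul_assoc, mul_smul_comm, mul_assoc]
      module
    · convert add_mem (mpow r1 mb (n := 4)) (smul_mem _ (β - 1) (mpow ma r2)) using 1
      simp only [mul_sub, sub_mul, mul_add, add_mul, smul_mul_assoc, mul_smul_comm, mul_assoc]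
      module
  have hD : α * (α + (β - 1) * δ) - (β - 1) ^ 2 * γ ≠ 0 := fun e => by
    have a1 := (h.ind (s := -((β - 1) * γ)) (t := α) hk3 (by
      convert smul_mem _ (α * (α + (β - 1) * δ) - (β - 1) ^ 2 * γ) (zero_mem (rad ε ^ 4)) using 1
      rw [smul_zero, ← zero_smul k (a * (a * b)), ← e]; module)).2
    have a2 := (h.ind (s := -(α + (β - 1) * δ)) (t := β - 1) hk3 (by
      convert smul_mem _ (α * (α + (β - 1) * δ) - (β - 1) ^ 2 * γ) (zero_mem (rad ε ^ 4)) using 1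
      rw [smul_zero, ← neg_zero, ← zero_smul k (a * (a * a)), ← e]; module)).2
    exact one_ne_zero (h.ind (s := 1) (t := 0) hk3 (by simp [a1, a2])).1
  have hβ : β = -1 := by
    by_contra e
    refine mul_ne_zero (show 1 + β ≠ 0 from fun e' => e (by linear_combination e')) hD ?_
    linear_combination (β - 1) * E1 - α * E2
  subst hβ
  have hk34 : map₂ (cm k) (rad ε) (rad ε ^ 2) ≤ map₂ (cm k) (rad ε) (rad ε ^ 3) ⊔
      span k {cm k a (a * b), cm k b (a * b)} := by
    refine map₂_le.2 (bil (cm k) h.gen h2 (fun x hx y hy => mem_sup_left ?_) ?_ ?_)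
    · rw [pow_two] at hx
      refine Submodule.mul_induction_on hx (fun u hu v hv => ?_) fun u v hu hv => ?_
      · convert add_mem (apply_mem_map₂ (cm k) hu (mpow (Top.p1 hv) hy (n := 3)))
          (apply_mem_map₂ (cm k) hv (mpow hy (Top.p1 hu))) using 1
        simp only [cm_apply]; noncomm_ring
      · rw [map_add, LinearMap.add_apply]; exact add_mem hu hv
    · rintro x (rfl | rfl) y hy <;> exact mem_sup_left (apply_mem_map₂ _ (by rwa [← pow_one (rad ε)]) hy)
    simp only [Set.mem_insert_iff, Set.mem_singleton_iff, forall_eq_or_imp, forall_eq]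
    refine ⟨⟨by simp [cm_apply, mul_assoc], mem_sup_right (subset_span (by simp))⟩,
      mem_sup_left ?_, mem_sup_right (subset_span (by simp))⟩
    convert neg_mem (apply_mem_map₂ (cm k) (show a ∈ rad ε by simpa using ma) r1) using 1
    simp only [cm_apply, mul_sub, sub_mul, mul_add, add_mul, smul_mul_assoc, mul_smul_comm, mul_assoc]
    module
  rcases n with _ | n
  · refine ⟨rfl, ?_⟩
    have a1 : finrank k (rad ε ^ 4 : Submodule k A) = 1 := h.finrank_top
    have a2 := Submodule.finrank_mono h3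
    rw [span_insert, ← sup_assoc] at a2
    have a3 := finrank_sup_le (rad ε ^ 4 ⊔ k ∙ (a * (a * a))) (a * (a * b))
    have a4 := finrank_sup_le (rad ε ^ 4) (a * (a * a))
    by_contra e
    obtain ⟨w, w1, w2⟩ := exists_sup_span (U := rad ε ^ 4) (W := rad ε ^ 3) (fun x hx => anti hx)
      (m := 0) (by omega)
    exact h.three w (eq_of_le_of_finrank_le (sup_le (fun x hx => anti hx)
      ((span_singleton_le_iff_mem _ _).2 w1)) w2).ge
  exfalso
  have h4 : rad ε ^ 4 ≤ rad ε ^ 5 ⊔ map₂ (cm k) (rad ε) (rad ε ^ 3) := by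
    intro x hx
    obtain ⟨s, t, e⟩ := of_pair
      ((h.cube_le.trans (sup_le_sup_left hk34 _)).trans_eq (sup_assoc _ _ _).symm (anti hx))
    obtain ⟨rfl, rfl⟩ := h.ind (s := s) (t := t) (hk34.trans (sup_le_sup_right k4_le _)) (by
      simpa using sub_mem hx (sup_le (fun x hx => anti hx) k4_le e))
    exact (sup_le_sup_right (fun x hx => anti hx) _ : rad ε ^ (n + 1 + 4) ⊔ _ ≤ rad ε ^ 5 ⊔ _)
      (by simpa using e)
  have hk4 : map₂ (cm k) (rad ε) (rad ε ^ 3) ≤ rad ε ^ 5 ⊔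
      k ∙ (α • (a * (a * (a * a))) - (2 : k) • (a * (a * (a * b)))) := by
    refine map₂_le.2 (bil (cm k) h.gen h3
      (fun x hx y hy => mem_sup_left (sub_mem (mpow hx hy) (mpow hy hx))) ?_ ?_)
    · rintro x (rfl | rfl) y hy <;> exact mem_sup_left (sub_mem (mpow ‹_› hy) (mpow hy ‹_›))
    simp only [Set.mem_insert_iff, Set.mem_singleton_iff, forall_eq_or_imp, forall_eq, cm_apply]
    have maa := mpow ma ma rfl
    refine ⟨⟨by simp [mul_assoc], mem_one (-1) ?_⟩, mem_one 1 ?_, mem_sup_left ?_⟩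
    · convert neg_mem (mpow maa r1 (n := 5)) using 1
      simp only [mul_sub, sub_mul, mul_add, add_mul, smul_mul_assoc, mul_smul_comm, mul_assoc]
      module
    · convert add_mem (sub_mem (mpow r1 maa (n := 5)) (mpow (mpow ma r1 rfl) ma)) (mpow maa r1) using 1
      simp only [mul_sub, sub_mul, mul_add, add_mul, smul_mul_assoc, mul_smul_comm, mul_assoc]
      module
    · convert sub_mem (mpow (mpow r1 ma rfl) mb (n := 5)) (mpow (mpow ma r1 rfl) mb) using 1
      simp only [mul_sub, sub_mul, mul_add, add_mul, smul_mul_assoc, mul_smul_comm, mul_assoc]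
      module
  exact h.not_le (i := 4) (by omega) (by omega) (h4.trans (sup_le le_rfl
    (map₂_le.2 fun x hx y hy => comm_mem_of_layer (j := 3) (U' := rad ε ^ 6)
      (h4.trans (sup_le le_sup_left hk4)) (fun a ha y hy => mpow (Top.p1 ha) hy)
      (fun a ha y hy => mpow hy (Top.p1 ha)) h.not_le hx hy)))

end G2

theorem Top.two {N : ℕ} (h : Top ε lam N) (hN : 3 ≤ N) (h0 : kom k A ≠ ⊥)
    (h5 : finrank k (Subalgebra.center k A) = 5)
    (hr : finrank k (rad ε) = finrank k (rad ε ^ 2 : Submodule k A) + 2) : finrank k A = 8 := by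
  obtain ⟨n, rfl⟩ := Nat.exists_eq_add_of_le' hN
  have a1 := h.finrank_kom
  have a2 := finrank_rad (ε := ε)
  have a3 := h.finrank_sup
  have b0 : rad ε ^ 2 ≤ rad ε := by rw [pow_two]; exact rad_mul_le
  have b1 : rad ε ^ 3 ≤ rad ε ^ 2 := fun x hx => anti hx
  have b2 : kom k A ≤ rad ε ^ 2 := by rw [pow_two]; exact kom_le_sq
  obtain ⟨ι, i1, i2, i3⟩ := exists_iota (rad ε) (rad ε ^ 2) b0 hr
  obtain ⟨a, ha, a4⟩ := exists_sup_span b0 (m := 1) hr.le
  have b3 := sup_le b0 ((span_singleton_le_iff_mem _ _).2 ha)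
  obtain ⟨b, hb, b5⟩ := exists_sup_span b3 (m := 0) a4
  have b6 := (eq_of_le_of_finrank_le (sup_le b3 ((span_singleton_le_iff_mem _ _).2 hb)) b5).ge
  have b7 : kom k A ≤ rad ε ^ 3 ⊔ k ∙ (a * b - b * a) := by
    rw [pow_three']; exact SLA.kom_le_of_two ha hb (by rwa [← pow_two])
  have c1 : finrank k (rad ε ^ 3 ⊔ kom k A : Submodule k A) < finrank k (rad ε ^ 2 : Submodule k A) := by
    refine Submodule.finrank_lt_finrank_of_lt (lt_of_le_of_ne (sup_le b1 b2) fun e => h0 ?_)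
    have e1 := e.ge.trans (sup_le le_sup_left b7)
    have e2 := e.ge
    rw [pow_two, pow_three'] at e1 e2
    exact h.kom_eq_bot_of_cube (h.cube_eq_bot e1 (kom_le_sq (comm_mem_kom a b)) e2)
  have c2 : rad ε ^ (n + 3) ⊔ kom k A ≤ rad ε ^ 3 ⊔ kom k A := sup_le_sup_right (fun x hx => anti hx) _
  have c3 := eq_of_le_of_finrank_le c2 (by omega)
  have c4 := Submodule.finrank_mono (sup_le (le_sup_left (b := k ∙ (a * b - b * a))) b7)
  have c5 := finrank_sup_le (rad ε ^ 3) (a * b - b * a)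
  have c6 := congrArg (fun U : Submodule k A => finrank k U) c3
  have two : ∀ w, ¬ rad ε ^ 2 ≤ rad ε ^ 3 ⊔ k ∙ w := fun w e => by
    have e1 := (Submodule.finrank_mono e).trans (finrank_sup_le _ _)
    obtain ⟨w, w1, w2⟩ := exists_sup_span b1 (m := 0) e1
    exact h.two_one h0 hr w1 (eq_of_le_of_finrank_le (sup_le b1
      ((span_singleton_le_iff_mem _ _).2 w1)) w2).ge
  have c7 : finrank k (rad ε ^ 2 : Submodule k A) = finrank k (rad ε ^ 3 : Submodule k A) + 2 := by
    by_contra e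
    obtain ⟨w, w1, w2⟩ := exists_sup_span b1 (m := 0) (by omega)
    exact two w (eq_of_le_of_finrank_le (sup_le b1 ((span_singleton_le_iff_mem _ _).2 w1)) w2).ge
  rcases n with _ | n
  · have d1 : finrank k (rad ε ^ 3 : Submodule k A) = 1 := h.finrank_top
    have d2 : Subalgebra.toSubmodule (Subalgebra.center k A) ≤ rad ε ^ 2 ⊔ k ∙ 1 := fun z hz =>
      mem_one (ε z) (center_sub h.toSLA h0 hr.le (sub_mem_rad z) fun y => by
        simp [mul_sub, sub_mul, Subalgebra.mem_center_iff.1 ((Subalgebra.mem_toSubmodule _).1 hz) y])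
    have d3 := (Submodule.finrank_mono d2).trans (finrank_sup_le _ _)
    rw [Subalgebra.finrank_toSubmodule] at d3
    omega
  have G : ∀ a ∈ rad ε, ∀ b ∈ rad ε, rad ε ≤ rad ε ^ 2 ⊔ span k {a, b} → G2 ε lam n a b :=
    fun a ha b hb e => ⟨h, Top.p1 ha, Top.p1 hb, e, two, le_sup_left.trans c3.ge, by omega⟩
  have hg := i2
  rw [← span_eq (LinearMap.range ι)] at hg
  rcases singular2 (((LinearMap.mul k A).compl₁₂ ι ι).compr₂ (rad ε ^ 3).mkQ) (by simp) with
    ⟨u, hu⟩ | ⟨u, u0, hu⟩ | ⟨l, hl⟩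
  · have hu' : ∀ v, ι u * ι v ∈ rad ε ^ 3 → v = 0 := fun v hv =>
      (injective_iff_map_eq_zero _).1 hu v ((Submodule.Quotient.mk_eq_zero _).2 hv)
    have u0 : ι u ∉ rad ε ^ 2 := fun e => one_ne_zero (hu' 1 (mpow e (Top.p1 (i1 1))))
    obtain ⟨b, hb, e⟩ := gen2 hr.le (i1 u) u0
    have d1 : rad ε ^ 3 ⊔ LinearMap.range (LinearMap.mulLeft k (ι u) ∘ₗ ι) = rad ε ^ 2 := by
      refine eq_of_le_of_finrank_le (sup_le b1 ?_) ?_
      · rintro _ ⟨v, rfl⟩; exact mpow (Top.p1 (i1 u)) (Top.p1 (i1 v))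
      have d2 := Submodule.finrank_sup_add_finrank_inf_eq (rad ε ^ 3)
        (LinearMap.range (LinearMap.mulLeft k (ι u) ∘ₗ ι))
      rw [LinearMap.finrank_range_of_inj ((injective_iff_map_eq_zero _).2 fun v hv =>
        hu' v (by rw [show ι u * ι v = 0 from hv]; exact zero_mem _)), eq_bot_iff.2 (show
          rad ε ^ 3 ⊓ LinearMap.range (LinearMap.mulLeft k (ι u) ∘ₗ ι) ≤ ⊥ by
            rintro _ ⟨h1, v, rfl⟩; simp [hu' v h1])] at d2
      simp at d2
      omega
    obtain ⟨rfl, d3⟩ := (G _ (i1 u) b hb e).onto (d1.ge.trans (sup_le le_sup_left (by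
      rintro _ ⟨v, rfl⟩
      obtain ⟨s, t, e'⟩ := of_pair (e (i1 v))
      refine mem_pair s t ?_
      simpa [mul_sub, mul_add] using mpow (Top.p1 (i1 u)) e' (n := 3))))
    omega
  · obtain ⟨a, ha, e⟩ := gen2 hr.le (i1 u) fun e => u0 (i3 u e)
    refine ((G a ha _ (i1 u) (by rwa [Set.pair_comm])).noker fun x hx => ?_).elim
    obtain ⟨y, hy, _, ⟨v, rfl⟩, rfl⟩ := mem_sup.1 (i2 hx)
    rw [add_mul]
    exact add_mem (mpow hy (Top.p1 (i1 u))) ((Submodule.Quotient.mk_eq_zero _).1 (hu v))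
  · obtain ⟨l, rfl⟩ := (rad ε ^ 3).mkQ_surjective l
    refine (two l ?_).elim
    rw [pow_two]
    refine mul_le.2 (bil (LinearMap.mul k A) hg hg (fun x hx y hy => mem_sup_left
      (mpow hx (Top.p1 hy))) ?_ ?_)
    · rintro _ ⟨x, rfl⟩ y hy
      exact mem_sup_left (mpow (Top.p1 (i1 x)) hy)
    · rintro _ ⟨x, rfl⟩ _ ⟨y, rfl⟩
      obtain ⟨t, ht⟩ := mem_span_singleton.1 (hl x y)
      exact mem_one t ((Submodule.Quotient.eq _).1 ht.symm)

theorem main [IsAlgClosed k] (h : SLA ε lam) (h5 : finrank k (Subalgebra.center k A) ≤ 5) :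
    (∀ x y : A, x * y = y * x) ∨ finrank k A = 8 := by
  by_cases h0 : kom k A = ⊥
  · exact Or.inl (comm_of_kom h0)
  by_cases h4 : finrank k (Subalgebra.center k A) ≤ 4
  · exact Or.inl (h.comm_of_finrank_center_le h4)
  right
  obtain ⟨N, hN⟩ := exists_top h
  have h3 : 3 ≤ N := by
    by_contra e
    refine h0 (h.kom_eq_bot_of_cube (eq_bot_iff.2 fun x hx => hN.eq_zero (i := 3) ?_))
    rwa [pow_three']
  have a1 := h.finrank_kom
  have a2 := finrank_rad (ε := ε)
  have a3 := hN.finrank_sup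
  have b0 : rad ε ^ 2 ≤ rad ε := by rw [pow_two]; exact rad_mul_le
  have b1 : rad ε ^ N ⊔ kom k A ≤ rad ε ^ 2 :=
    sup_le (fun x hx => anti hx) (by rw [pow_two]; exact kom_le_sq)
  have a4 := Submodule.finrank_mono b1
  have a6 : finrank k (rad ε ^ 2 : Submodule k A) + 1 < finrank k (rad ε) := by
    by_contra! e
    obtain ⟨a, b1, b2⟩ := exists_sup_span b0 (m := 0) e
    exact h0 (h.kom_eq_bot_of_gen b1 (by
      rw [← pow_two]
      exact (eq_of_le_of_finrank_le (sup_le b0 ((span_singleton_le_iff_mem _ _).2 b1)) b2).ge))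
  by_cases hr : finrank k (rad ε) = finrank k (rad ε ^ 2 : Submodule k A) + 2
  · exact hN.two h3 h0 (by omega) hr
  · exact hN.three h3 (by omega) (eq_of_le_of_finrank_le b1 (by omega)).ge

end H21.SL5
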