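import Mathlib
import Cfsg.Agent.H21.SL5c
import Cfsg.Agent.H21.RankOne
import Cfsg.Agent.H21.CycQ
import Cfsg.Agent.H21.CFam
import Cfsg.Agent.S4698

/-!
Blocks with `k(B) = 5` and `l(B) = 1` (namespace H21): `card_of_k5`, `not_comm_of_k5`.
-/

set_option autoImplicit false
set_option linter.unusedSectionVars false
set_option linter.unusedVariables false

namespace H21
open H05 Cfsg H20 MonoidAlgebra Classical Module
open scoped ComplexConjugate

local notation:max "𝐂" Q:max => Subgroup.centralizer (SetLike.coe Q)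
local notation:max "⟪" x "⟫" => Subgroup.zpowers x

attribute [-instance] H19.instFintypeSubgroupFrob

universe u
variable {M : Ideal AlgInt} {G : Type u} [Group G] [Fintype G] {p : ℕ} {B : Set (IrrCharacter G)}

theorem pow_of_k5 (hM : IsPModular p M) (hB : IsPBlock M B) (hl : blockRank p B = 1)
    (hk : Nat.card B = 5) : p ^ blockDefect p B = 5 ∨ p ^ blockDefect p B = 8 := by
  haveI := hM.2.1
  obtain ⟨A, _, _, _, ε, lam, h, h1, h2, h3⟩ := exists_sla hM hB hl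
  rcases SL5.main h (hk ▸ h2) with e | e
  · rw [show Subalgebra.center (Res M) A = ⊤ from
      eq_top_iff.2 fun x _ => Subalgebra.mem_center_iff.2 fun y => e y x,
      Subalgebra.topEquiv.toLinearEquiv.finrank_eq] at h2
    omega
  · exact Or.inr (h1 ▸ e)

theorem rank_sb_le (hM : IsPModular p M) (hB : IsPBlock M B) {b : BrauerPairIdx G} [M.IsMaximal]
    (h : Mx M p B b) {u : G} (hu : u ∈ b.1) (hu1 : u ≠ 1) (hc : b.1 ≤ 𝐂 ⟪u⟫)
    (hd : blockDefect p B ≤ 3) : blockRank p (sb M p b u) < p ^ 2 := by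
  haveI := Fact.mk hM.1
  have h1 := h.sub hu
  have h3 := h.defect_sb hu hc
  have hb := h1.ind.1
  generalize sb M p b u = f at h1 h3 hb
  let u' : 𝐂 ⟪u⟫ := ⟨u, hc hu⟩
  have hZ : ⟪u'⟫ ≤ Subgroup.center _ := by
    rw [Subgroup.zpowers_le, Subgroup.mem_center_iff]
    exact fun g => Subtype.ext (g.2 u (Subgroup.mem_zpowers u)).symm
  haveI : (⟪u'⟫).Normal :=
    ⟨fun n hn g => by rw [Subgroup.mem_center_iff.1 (hZ hn) g, mul_inv_cancel_right]; exact hn⟩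
  have h4 : Nat.card ⟪u'⟫ = orderOf u := by rw [Nat.card_zpowers, Subgroup.orderOf_mk]
  have hq := pQuot_of_center (p := p) (h1.ord.elim fun k hk => IsPGroup.of_card (h4.trans hk)) hZ
  have h6 := hq.isPBlock_dom hM hb
  have h7 := hq.pow_blockDefect_dom hM hb
  rw [← hq.blockRank_dom hM hb.isInt_idem]
  rw [QuotientGroup.ker_mk', h4, h3] at h7
  have hp := hM.1.one_lt
  have h8 : blockDefect p (dom hq.surj f) < blockDefect p B := (Nat.pow_lt_pow_iff_right hp).1 (by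
    rw [h7]
    exact lt_mul_left (by positivity) (Nat.one_lt_iff_ne_zero_and_ne_one.2 ⟨(orderOf_pos _).ne',
      fun e => hu1 (orderOf_eq_one_iff.1 e)⟩))
  have h9 := ((Cfsg.Agent.S4698.result p M hM _ h6 _ rfl).1 (by omega)).trans
    (Nat.pow_le_pow_right hp.le (show _ ≤ 2 by omega))
  by_contra e
  rw [rank_eq_one_of_defect_zero hM h6 (defect_zero_of_card_le_rank hM h6 (by omega))] at e
  exact e (Nat.one_lt_pow two_ne_zero hp)

theorem exists_height_of_k5 (hM : IsPModular 2 M) (hB : IsPBlock M B) (hl : blockRank 2 B = 1)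
    (hk : Nat.card B = 5) (hd : blockDefect 2 B = 3) : ∃ ψ ∈ B, blockHeight 2 B (ψ : G → ℂ) ≠ 0 ∧
      ∀ χ ∈ B, χ ≠ ψ → blockHeight 2 B (χ : G → ℂ) = 0 := by
  obtain ⟨n, d, h0, h1, h2, h3⟩ := exists_rank_one hM hB hl
  have h4 : ∀ χ ∈ B, cm 2 B χ χ = d χ ^ 2 := fun χ hχ => by
    apply Int.cast_injective (α := ℂ)
    rw [cast_cm hM.1 hχ, Int.cast_pow, Int.cast_natCast, ← mul_one ((d χ : ℂ) ^ 2), ← h3,
      contrib_eq_sum, contrib_eq_sum]
    simp only [Finset.mul_sum]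
    refine Finset.sum_congr rfl fun c hc => ?_
    rw [h1 χ hχ c (Finset.mem_filter.1 hc).2]
    simp only [Finset.sum_apply, Pi.smul_apply, smul_eq_mul, map_mul, map_natCast]
    ring
  have h5 : ∀ χ ∈ B, blockHeight 2 B (χ : G → ℂ) ≠ 0 ↔ 2 ∣ d χ := fun χ hχ => by
    rw [← or_self_iff (a := _ ≠ 0), ← dvd_cm_iff hM hB hχ hχ, h4 χ hχ, ← Nat.cast_pow,
      Int.natCast_dvd_natCast, Nat.prime_two.prime.dvd_pow_iff_dvd two_ne_zero]
  rw [natCard_eq_card_filter] at hk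
  set s := Finset.univ.filter fun χ => χ ∈ B with hs
  have hm : ∀ χ, χ ∈ s ↔ χ ∈ B := by simp [hs]
  obtain ⟨ψ, hψ, h6⟩ : ∃ ψ ∈ s, d ψ ≠ 1 := by
    by_contra! e
    rw [Finset.sum_congr rfl fun χ hχ => by rw [e χ hχ], hd] at h2
    simp [hk] at h2
  have h7 := h0 ψ ((hm ψ).1 hψ)
  rw [← Finset.add_sum_erase _ _ hψ, hd] at h2
  have h8 : ∀ χ ∈ s.erase ψ, 1 ≤ d χ ^ 2 := fun χ hχ =>
    Nat.one_le_pow _ _ (h0 χ ((hm χ).1 (Finset.mem_of_mem_erase hχ)))
  have h9 := Finset.card_nsmul_le_sum _ _ _ h8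
  rw [Finset.card_erase_of_mem hψ, hk] at h9
  have h10 : d ψ = 2 := by
    have : d ψ < 3 := by by_contra! e; have := Nat.pow_le_pow_left e 2; simp at h9; omega
    omega
  refine ⟨ψ, (hm ψ).1 hψ, (h5 ψ ((hm ψ).1 hψ)).2 (by omega), fun χ hχ e => ?_⟩
  have h11 := (Finset.sum_eq_sum_iff_of_le h8).1 (by
    rw [h10] at h2; simp [Finset.card_erase_of_mem hψ, hk]; omega) χ
    (Finset.mem_erase.2 ⟨e, (hm χ).2 hχ⟩)
  by_contra e'
  have := (h5 χ hχ).1 e'
  rw [eq_comm, Nat.pow_eq_one] at h11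
  omega

theorem Sub.sm_eq_four {C : Subgroup G} [Fintype C] {u : G} {b : Set (IrrCharacter C)}
    (h : Sub 2 M B C u b) (hd : blockDefect 2 b = blockDefect 2 B) (h3 : blockDefect 2 B = 3)
    (hk : Nat.card B = 5) {ψ : IrrCharacter G} (hψ : ψ ∈ B) (h1 : blockHeight 2 B (ψ : G → ℂ) ≠ 0)
    (h0 : ∀ χ ∈ B, χ ≠ ψ → blockHeight 2 B (χ : G → ℂ) = 0) : (sm 2 b u ψ ψ).re = 4 := by
  haveI := h.mod.2.1
  obtain ⟨k, ζ, F⟩ := h.cfam
  rw [natCard_eq_card_filter] at hk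
  set s := Finset.univ.filter fun χ => χ ∈ B with hs
  have hm : ∀ χ, χ ∈ s ↔ χ ∈ B := by simp [hs]
  have a1 : ∀ χ ∈ s.erase ψ, ((U 2 k).card : ℝ) * 4 ≤
      ∑ j ∈ U 2 k, Complex.normSq (sm 2 b (u ^ j) χ ψ) := fun χ hχ => by
    have hχ' := (hm χ).1 (Finset.mem_of_mem_erase hχ)
    obtain ⟨b1, b2⟩ := h.major_sm hd hψ hχ'
    have b3 := (F.cf ψ ((hm ψ).2 hψ) χ ((hm χ).2 hχ')).pow_le_sum_normSq h.mod F.root
      (n := blockHeight 2 B (ψ : G → ℂ)) (by
        rw [pow_one]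
        intro e
        exact b2.1 (by rw [e, zero_div]; exact ideal_zero) (h0 χ hχ' (Finset.ne_of_mem_erase hχ)))
      (by rwa [pow_one])
    refine le_trans (mul_le_mul_of_nonneg_left ?_ (Nat.cast_nonneg _)) (b3.trans_eq
      (Finset.sum_congr rfl fun j _ => by rw [← conj_sm, Complex.normSq_conj]))
    calc (4 : ℝ) = 2 ^ 2 := by norm_num
      _ ≤ _ := by exact_mod_cast Nat.pow_le_pow_right two_pos (by omega)
  have a2 := Finset.card_nsmul_le_sum _ _ _ a1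
  rw [Finset.card_erase_of_mem ((hm ψ).2 hψ), hk, Finset.sum_comm] at a2
  have a3 : ∀ j ∈ U 2 k, ∑ χ ∈ s.erase ψ, Complex.normSq (sm 2 b (u ^ j) χ ψ) ≤
      16 - ((sm 2 b (u ^ j) ψ ψ).re - 4) ^ 2 := fun j hj => by
    have e := F.sum_normSq (mem_U.1 hj).2 ((hm ψ).2 hψ)
    rw [← Finset.add_sum_erase _ _ ((hm ψ).2 hψ), hd, h3, Complex.normSq_apply] at e
    push_cast at e
    nlinarith [mul_self_nonneg (sm 2 b (u ^ j) ψ ψ).im]
  have a4 := a2.trans (Finset.sum_le_sum a3)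
  rw [Finset.sum_sub_distrib, Finset.sum_const, nsmul_eq_mul, nsmul_eq_mul] at a4
  have a5 := Finset.single_le_sum (f := fun j => ((sm 2 b (u ^ j) ψ ψ).re - 4) ^ 2)
    (fun j _ => sq_nonneg _) (one_mem_U Nat.prime_two k)
  rw [pow_one] at a5
  push_cast at a4
  nlinarith

theorem not_comm_of_k5 (hM : IsPModular 2 M) (hB : IsPBlock M B) (hl : blockRank 2 B = 1)
    (hk : Nat.card B = 5) (hd : blockDefect 2 B = 3) {D : Subgroup G} (hD : IsDefectGroup 2 M B D) :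
    ¬ IsMulCommutative D := by
  intro hab
  haveI := hM.2.1
  obtain ⟨b, h, rfl⟩ : ∃ b, Mx M 2 B b ∧ b.1 = D := (exists_mx hM hB hD).elim fun c h => ⟨_, h, rfl⟩
  obtain ⟨ψ, hψ, h1, h0⟩ := exists_height_of_k5 hM hB hl hk hd
  have hc : ∀ v ∈ b.1, b.1 ≤ 𝐂 ⟪v⟫ := fun v hv x hx => mem_centralizer_zpowers.2 (by
    rw [mul_inv_eq_iff_eq_mul]; exact congrArg Subtype.val (hab.1.1 ⟨x, hx⟩ ⟨v, hv⟩))
  have a1 : ∀ v ∈ b.1, (mv M 2 b v ψ ψ).re = 1 / 2 := fun v hv => by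
    have e := (h.sub hv).sm_eq_four (h.defect_sb hv (hc v hv)) hd hk hψ h1 h0
    rw [sm_eq_mv, h.defect_sb hv (hc v hv), hd, ← Nat.cast_pow, ← Complex.ofReal_natCast,
      Complex.re_ofReal_mul] at e
    push_cast at e
    linarith only [e]
  have a2' := h.classInner_eq (blockPart_irr_of_mem hψ) ψ.2.isClassFunction
  have a3' := h.card_eq
  have a2 := congrArg Complex.re a2'
  have a3 := congrArg Complex.re a3'
  have m1 : (1 : G) ∈ Finset.univ.filter fun v => v ∈ b.1 := by simp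
  rw [← Finset.add_sum_erase _ _ m1, h.nf_one, Complex.add_re, Complex.re_sum] at a2 a3
  rw [h.rank_sb_one, hl, hk] at a3
  have a4 : ∀ v ∈ (Finset.univ.filter fun v => v ∈ b.1).erase 1,
      ((nf M 2 b v : ℂ)⁻¹ * blockRank 2 (sb M 2 b v)).re ≤
      6 * ((nf M 2 b v : ℂ)⁻¹ * mv M 2 b v ψ ψ).re := fun v hv => by
    have hv' : v ∈ b.1 := (Finset.mem_filter.1 (Finset.mem_of_mem_erase hv)).2
    have e := rank_sb_le hM hB h hv' (Finset.ne_of_mem_erase hv) (hc v hv') hd.le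
    rw [← Complex.ofReal_natCast, ← Complex.ofReal_inv, Complex.re_ofReal_mul, Complex.re_ofReal_mul,
      a1 v hv', Complex.natCast_re]
    have e1 : (blockRank 2 (sb M 2 b v) : ℝ) ≤ 3 := by exact_mod_cast Nat.lt_succ_iff.1 e
    have e2 := mul_le_mul_of_nonneg_left e1 (inv_nonneg.2 (Nat.cast_nonneg (α := ℝ) (nf M 2 b v)))
    linarith only [e2]
  have a5 := Finset.sum_le_sum a4
  rw [← Finset.mul_sum] at a5
  rw [ψ.2.classInner_self, Nat.cast_one, inv_one, one_mul, a1 1 b.1.one_mem, Complex.one_re] at a2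
  rw [Nat.cast_one, inv_one, one_mul, Complex.one_re, Complex.natCast_re] at a3
  push_cast at a3
  exact absurd (((eq_sub_of_add_eq' a3.symm).symm.trans_le a5).trans_eq
    (congrArg (6 * ·) (eq_sub_of_add_eq' a2.symm))) (by norm_num)

end H21
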