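import Cfsg.Agent.H04.Count
import Cfsg.Agent.H04.Soft
import Cfsg.Agent.H04.Aut
import Cfsg.Agent.H04.Symplectic
import Cfsg.Agent.H04.MaxClass
import Cfsg.Agent.H04.Rank2
import Cfsg.Agent.BG.Api

/-! Kulakoff's theorem via the congruence `s_k + p c_{k+1} ≡ 1 + p (mod p²)`. -/

namespace H21.Kul
open Cfsg Subgroup BG H04
open scoped commutatorElement

universe u
variable {p : ℕ} [hp : Fact p.Prime]

theorem idx_cyc {Y : Type*} [Group Y] [Finite Y] (hY : IsPGroup p Y) (h : IsCyclic Y) : (frattini Y).index ≤ p := by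
  obtain ⟨n, hn⟩ := hY.index (frattini Y)
  obtain ⟨g, hg⟩ := h.exists_generator
  have := le_card_of_closure_eq_top hY hn {g} (by simpa [← zpowers_eq_closure] using (eq_top_iff' _).2 hg)
  rw [hn]; exact (Nat.pow_le_pow_right hp.out.pos this).trans (by simp)

theorem nK {K Y : Type*} [Group K] [Finite K] [Group Y] [Nontrivial Y] (hK : IsPGroup p K) (f : K →* Y)
    (hf : Function.Surjective f) (hZ : Nat.card f.ker = p) {n : ℕ}
    (hn : n = {H : Subgroup K | H.index = p ∧ ¬ f.ker ≤ H}.ncard) :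
    (IsCyclic Y → IsCyclic K → n = 0) ∧ (IsCyclic Y → ¬ IsCyclic K → n = p) ∧ (¬ IsCyclic Y → p ^ 2 ∣ n) := by
  haveI := Finite.of_surjective f hf
  have hY := hK.of_surjective f hf
  have h1 := ncard_maximal hK
  have h2 := ncard_maximal_ge hK f.ker
  have h3 : (f.ker ⊔ frattini K).index = (frattini Y).index := by
    rw [← frattini_map hK f hf, ← index_comap_of_surjective _ hf, comap_map_eq, sup_comm]
  have h4 : {M : Subgroup K | M.index = p}.ncard = n + {M | f.ker ≤ M ∧ M.index = p}.ncard := by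
    rw [hn, ← Set.ncard_union_eq (Set.disjoint_left.2 fun H a b => a.2 b.1)]
    congr 1; ext H; simp only [Set.mem_union, Set.mem_setOf_eq]; tauto
  have h5 : n * (p - 1) + (frattini Y).index = (frattini K).index := by rw [← h1, h4, ← h3, ← h2]; ring
  have h6 := relIndex_mul_index (le_sup_right : frattini K ≤ f.ker ⊔ frattini K)
  have h7 : (frattini K).relIndex (f.ker ⊔ frattini K) ∣ p := by
    rw [relIndex_sup_right, ← hZ]; exact index_dvd_card _
  have h8 : p ≤ (frattini Y).index := by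
    obtain ⟨k, hk⟩ := hY.index (frattini Y)
    rw [hk]
    exact Nat.le_self_pow (fun e => (frattini_lt_top (G := Y)).ne (index_eq_one.1 (by rw [hk, e, pow_zero]))) p
  have h9 := hp.out.two_le
  rw [h3] at h6
  have : (n = 0 ∧ (frattini K).index = (frattini Y).index) ∨
      (n = (frattini Y).index ∧ (frattini K).index = p * (frattini Y).index) := by
    rcases (Nat.dvd_prime hp.out).1 h7 with e | e <;> rw [e] at h6
    · refine Or.inl ⟨?_, by omega⟩
      have : n * (p - 1) = 0 := by omega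
      exact (Nat.mul_eq_zero.1 this).resolve_right (by omega)
    · refine Or.inr ⟨Nat.eq_of_mul_eq_mul_right (show 0 < p - 1 by omega) ?_, h6.symm⟩
      obtain ⟨q, rfl⟩ : ∃ q, p = q + 1 := ⟨p - 1, by omega⟩
      simp only [Nat.add_sub_cancel] at h5 ⊢; nlinarith
  refine ⟨fun a b => ?_, fun a b => ?_, fun a => ?_⟩
  · have := idx_cyc hK b
    rcases ‹_ ∨ _› with h | h
    · exact h.1
    · nlinarith [h.2]
  · have := idx_cyc hY a
    rcases ‹_ ∨ _› with h | h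
    · exact absurd (isCyclic_of_index_frattini_le hK (h.2 ▸ this)) b
    · omega
  · rcases this with h | h <;> rw [h.1]
    exacts [dvd_zero _, sq_dvd_index_frattini hY a]

section
variable {X : Type*} [Group X] [Finite X] {Z : Subgroup X} [Z.Normal]

omit [Finite X] [Z.Normal] in
theorem inf_bot (hZ : Nat.card Z = p) {H : Subgroup X} (h : ¬ Z ≤ H) : H ⊓ Z = ⊥ := by
  haveI : Finite Z := Nat.finite_of_card_ne_zero (hZ ▸ hp.out.ne_zero)
  have := card_dvd_of_le (inf_le_right : H ⊓ Z ≤ Z)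
  rw [hZ] at this
  exact Subgroup.card_eq_one.1 (((Nat.dvd_prime hp.out).1 this).resolve_right fun e =>
    h (inf_eq_right.1 (eq_of_le_of_card_ge inf_le_right (by rw [e, hZ]))))

noncomputable def eqv (hZ : Nat.card Z = p) {H : Subgroup X} (h : ¬ Z ≤ H) : H ≃* H.map (QuotientGroup.mk' Z) :=
  MulEquiv.ofBijective ((QuotientGroup.mk' Z).subgroupMap H) ⟨by
    rw [injective_iff_map_eq_one]
    exact fun x hx => Subtype.ext (mem_bot.1 (inf_bot hZ h ▸ ⟨x.2, (QuotientGroup.eq_one_iff _).1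
      (congrArg Subtype.val hx)⟩)), MonoidHom.subgroupMap_surjective _ _⟩

theorem nX (hX : IsPGroup p X) (hZ : Nat.card Z = p) {L : Subgroup (X ⧸ Z)} (hL : L ≠ ⊥) {n : ℕ}
    (hn : n = {H : Subgroup X | ¬ Z ≤ H ∧ H.map (QuotientGroup.mk' Z) = L}.ncard) :
    (IsCyclic L → IsCyclic (L.comap (QuotientGroup.mk' Z)) → n = 0) ∧
      (IsCyclic L → ¬ IsCyclic (L.comap (QuotientGroup.mk' Z)) → n = p) ∧ (¬ IsCyclic L → p ^ 2 ∣ n) := by
  haveI := (nontrivial_iff_ne_bot L).2 hL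
  set K := L.comap (QuotientGroup.mk' Z)
  have hZK : Z ≤ K := QuotientGroup.le_comap_mk' Z L
  have hk : ((QuotientGroup.mk' Z).subgroupComap L).ker = Z.subgroupOf K := by
    ext x; rw [MonoidHom.mem_ker, Subtype.ext_iff]; exact QuotientGroup.eq_one_iff _
  have hc : Nat.card K = Nat.card L * p := by rw [H02.card_comap_mk', hZ]
  refine nK (hX.to_subgroup K) ((QuotientGroup.mk' Z).subgroupComap L)
    (MonoidHom.subgroupComap_surjective_of_surjective _ _ (QuotientGroup.mk'_surjective Z))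
    (by rw [hk, H02.card_subgroupOf_of_le hZK, hZ]) (hn.trans ?_)
  have := ncard_map_subtype K fun H => H.relIndex K = p ∧ ¬ Z ≤ H
  refine Eq.trans ?_ (this.symm.trans ?_) <;> congr 1 <;> ext H
  · refine ⟨fun ⟨h1, h2⟩ => ?_, fun ⟨h0, h1, h2⟩ => ⟨h2, eq_of_le_of_card_ge (map_le_iff_le_comap.2 h0) ?_⟩⟩
    · have h0 : H ≤ K := map_le_iff_le_comap.1 h2.le
      exact ⟨h0, relIndex_eq_of_card_eq_mul h0 (by rw [hc, ← h2, ← Nat.card_congr (eqv hZ h1).toEquiv, mul_comm]), h1⟩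
    · have := H04.card_mul_relIndex h0
      rw [h1, hc] at this
      rw [← Nat.card_congr (eqv hZ h2).toEquiv, Nat.eq_of_mul_eq_mul_right hp.out.pos this]
  · rw [Set.mem_setOf_eq, Set.mem_setOf_eq, relIndex_map_subtype', hk,
      ← map_le_map_iff_of_injective K.subtype_injective, map_subgroupOf_eq_of_le hZK]

omit hp in
theorem ncard_ge (Q : Subgroup X → Prop) :
    {H : Subgroup X | Z ≤ H ∧ Q H}.ncard = {L : Subgroup (X ⧸ Z) | Q (L.comap (QuotientGroup.mk' Z))}.ncard := by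
  rw [← Set.ncard_image_of_injective _ (comap_injective (QuotientGroup.mk'_surjective Z))]
  congr 1; ext H
  refine ⟨fun ⟨h1, h2⟩ => ?_, ?_⟩
  · have := comap_map_eq_self (f := QuotientGroup.mk' Z) (H := H) (by rwa [QuotientGroup.ker_mk'])
    exact ⟨H.map _, by rwa [Set.mem_setOf_eq, this], this⟩
  · rintro ⟨L, h, rfl⟩; exact ⟨QuotientGroup.le_comap_mk' Z L, h⟩

omit hp in
theorem ncard_split {α : Type*} [Finite α] (S R : α → Prop) :
    {a | S a}.ncard = {a | R a ∧ S a}.ncard + {a | ¬ R a ∧ S a}.ncard := by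
  rw [← Set.ncard_union_eq (Set.disjoint_left.2 fun H a b => b.1 a.1)]
  congr 1; ext H; simp only [Set.mem_union, Set.mem_setOf_eq]; tauto

theorem ncard_not (hZ : Nat.card Z = p) (Q : Subgroup (X ⧸ Z) → Prop) (R : Subgroup X → Prop)
    (h : ∀ H, ¬ Z ≤ H → (R H ↔ Q (H.map (QuotientGroup.mk' Z)))) :
    {H : Subgroup X | ¬ Z ≤ H ∧ R H}.ncard = ∑ L ∈ (Set.toFinite {L | Q L}).toFinset,
      {H : Subgroup X | ¬ Z ≤ H ∧ H.map (QuotientGroup.mk' Z) = L}.ncard := by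
  rw [ncard_eq_sum_fibers (Set.toFinite _) (Set.toFinite {L | Q L}) (Subgroup.map (QuotientGroup.mk' Z))
    fun H hH => (h H hH.1).1 hH.2]
  refine Finset.sum_congr rfl fun L hL => ?_
  congr 1; ext H
  exact ⟨fun a => ⟨a.1.1, a.2⟩, fun a => ⟨⟨a.1, (h H a.1).2 (a.2 ▸ by simpa using hL)⟩, a.2⟩⟩

end

theorem T (k : ℕ) : ∀ (X : Type u) [Group X] [Finite X], IsPGroup p X → p ^ (k + 1) ∣ Nat.card X →
    {H : Subgroup X | Nat.card H = p ^ k}.ncard + p * {H : Subgroup X | IsCyclic H ∧ Nat.card H = p ^ (k + 1)}.ncard ≡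
      1 + p [MOD p ^ 2] := by
  classical
  induction k with
  | zero =>
    intro X _ _ hX h
    have h1 := ncard_card_modEq_one (p := p) h
    rw [show {H : Subgroup X | Nat.card H = p ^ 0} = {⊥} from Set.ext fun H => by simp, Set.ncard_singleton,
      show {H : Subgroup X | IsCyclic H ∧ Nat.card H = p ^ (0 + 1)} = {H : Subgroup X | Nat.card H = p ^ (0 + 1)} from
        Set.ext fun H => ⟨fun h => h.2, fun h => ⟨isCyclic_of_prime_card (p := p) (by simpa using h), h⟩⟩]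
    simpa [sq] using (h1.mul_left' p).add_left 1
  | succ k ih =>
  intro X _ _ hX h
  obtain ⟨Z, _, -, hZ⟩ := exists_normal_card_eq hX ⊤ 1 (by
    rw [card_top]; exact Nat.le_of_dvd Nat.card_pos ((pow_dvd_pow p (by omega)).trans h))
  rw [pow_one] at hZ
  have h1 := ih (X ⧸ Z) (hX.to_quotient Z) (by
    rw [card_eq_card_quotient_mul_card_subgroup Z, hZ, pow_succ] at h
    exact Nat.dvd_of_mul_dvd_mul_right hp.out.pos h)
  have hc : ∀ (L : Subgroup (X ⧸ Z)) (j : ℕ), Nat.card (L.comap (QuotientGroup.mk' Z)) = p ^ (j + 1) ↔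
      Nat.card L = p ^ j := fun L j => by rw [H02.card_comap_mk', hZ, pow_succ, Nat.mul_left_inj hp.out.ne_zero]
  have hb : ∀ (L : Subgroup (X ⧸ Z)) (j : ℕ), Nat.card L = p ^ (j + 1) → L ≠ ⊥ := fun L j h e => by
    rw [e, card_bot] at h; exact hp.out.ne_one (Nat.eq_one_of_dvd_one (h ▸ dvd_pow_self p j.succ_ne_zero))
  rw [ncard_split _ (Z ≤ ·), ncard_split (fun H : Subgroup X => IsCyclic H ∧ _) (Z ≤ ·), ncard_ge, ncard_ge,
    ncard_not hZ (fun L => Nat.card L = p ^ (k + 1)) _ fun H hH => by rw [Nat.card_congr (eqv hZ hH).toEquiv],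
    ncard_not hZ (fun L => IsCyclic L ∧ Nat.card L = p ^ (k + 2)) _ fun H hH => by
      rw [Nat.card_congr (eqv hZ hH).toEquiv, (eqv hZ hH).isCyclic]]
  simp only [hc]
  rw [ncard_split (fun L : Subgroup (X ⧸ Z) => IsCyclic L ∧ _) fun L => IsCyclic (L.comap (QuotientGroup.mk' Z))] at h1
  have e1 : {L : Subgroup (X ⧸ Z) | IsCyclic (L.comap (QuotientGroup.mk' Z)) ∧ IsCyclic L ∧ Nat.card L = p ^ (k + 1)} =
      {L : Subgroup (X ⧸ Z) | IsCyclic (L.comap (QuotientGroup.mk' Z)) ∧ Nat.card L = p ^ (k + 1)} := Set.ext fun L =>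
    ⟨fun h => ⟨h.1, h.2.2⟩, fun h => ⟨h.1, (haveI := h.1; isCyclic_of_surjective ((QuotientGroup.mk' Z).subgroupComap L)
      (MonoidHom.subgroupComap_surjective_of_surjective _ _ (QuotientGroup.mk'_surjective Z))), h.2⟩⟩
  rw [e1] at h1
  have e2 : ∑ L ∈ (Set.toFinite {L : Subgroup (X ⧸ Z) | Nat.card L = p ^ (k + 1)}).toFinset,
      {H : Subgroup X | ¬ Z ≤ H ∧ H.map (QuotientGroup.mk' Z) = L}.ncard ≡
      p * {L : Subgroup (X ⧸ Z) | ¬ IsCyclic (L.comap (QuotientGroup.mk' Z)) ∧ IsCyclic L ∧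
        Nat.card L = p ^ (k + 1)}.ncard [MOD p ^ 2] := by
    refine (Nat.ModEq.sum (g := fun L : Subgroup (X ⧸ Z) => if ¬ IsCyclic (L.comap (QuotientGroup.mk' Z)) ∧ IsCyclic L then p else 0)
      fun L hL => ?_).trans ?_
    · obtain ⟨a, b, c⟩ := nX hX hZ (hb L k (by simpa using hL)) rfl
      by_cases h2 : IsCyclic L
      · by_cases h3 : IsCyclic (L.comap (QuotientGroup.mk' Z))
        · rw [a h2 h3, if_neg (by tauto)]
        · rw [b h2 h3, if_pos ⟨h3, h2⟩]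
      · rw [if_neg (by tauto)]; exact (Nat.modEq_zero_iff_dvd).2 (c h2)
    · rw [← Finset.sum_filter, Finset.sum_const, smul_eq_mul, mul_comm, ← Set.ncard_coe_finset]
      convert Nat.ModEq.refl _ using 3
      ext L; simp; tauto
  obtain ⟨c, e3⟩ : p ∣ ∑ L ∈ (Set.toFinite {L : Subgroup (X ⧸ Z) | IsCyclic L ∧ Nat.card L = p ^ (k + 2)}).toFinset,
      {H : Subgroup X | ¬ Z ≤ H ∧ H.map (QuotientGroup.mk' Z) = L}.ncard := Finset.dvd_sum fun L hL => by
    have hL : IsCyclic L ∧ Nat.card L = p ^ (k + 2) := by simpa using hL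
    obtain ⟨a, b, -⟩ := nX hX hZ (hb L _ hL.2) rfl
    by_cases h3 : IsCyclic (L.comap (QuotientGroup.mk' Z))
    · rw [a hL.1 h3]; exact dvd_zero _
    · rw [b hL.1 h3]
  rw [e3]
  refine Nat.ModEq.trans ?_ h1
  refine ((e2.add_left _).add_right _).trans ?_
  rw [mul_add, mul_add, ← mul_assoc, ← sq, ← add_assoc]
  refine ((Nat.modEq_zero_iff_dvd.2 (dvd_mul_right _ c)).add_left _).trans ?_
  rw [add_zero, add_assoc, add_comm (p * _)]

section
variable {X : Type*} [Group X] [Finite X]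

omit hp in
theorem dvd_of_inv (W : Subgroup X) {S : Set X} (h : ∀ x ∈ S, ∀ w ∈ W, x * w ∈ S) : Nat.card W ∣ S.ncard := by
  have : S = QuotientGroup.mk ⁻¹' ((QuotientGroup.mk : X → X ⧸ W) '' S) := Set.ext fun x =>
    ⟨fun hx => ⟨x, hx, rfl⟩, fun ⟨y, hy, e⟩ => by simpa using h y hy _ (QuotientGroup.eq.1 e)⟩
  rw [this, ← Nat.card_coe_set_eq, QuotientGroup.card_preimage_mk]
  exact dvd_mul_right _ _

omit hp in
theorem ncard_order (n : ℕ) : {x : X | orderOf x = n}.ncard =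
    {H : Subgroup X | IsCyclic H ∧ Nat.card H = n}.ncard * n.totient := by
  classical
  refine ncard_eq_mul_of_fibers (Set.toFinite _) (Set.toFinite _) zpowers
    (fun x hx => show IsCyclic (zpowers x) ∧ _ from ⟨inferInstance, (Nat.card_zpowers x).trans hx⟩) ?_
  rintro H ⟨_, rfl⟩
  haveI := Fintype.ofFinite H
  rw [← IsCyclic.card_orderOf_eq_totient (α := H) (d := Nat.card H) (by simp), ← Set.ncard_coe_finset,
    ← Set.ncard_image_of_injective _ H.subtype_injective]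
  congr 1; ext x
  refine ⟨fun ⟨h1, h2⟩ => ⟨⟨x, h2 ▸ mem_zpowers x⟩, by simpa using show orderOf x = _ from h1, rfl⟩, ?_⟩
  rintro ⟨y, hy, rfl⟩
  have : orderOf (y : X) = Nat.card H := by simpa using hy
  exact ⟨this, eq_of_le_of_card_ge (zpowers_le.2 y.2) (by rw [Nat.card_zpowers]; exact this.ge)⟩

theorem miller (V : Subgroup X) [V.Normal] (hV : ¬ IsCyclic V) {j : ℕ} (hX : IsPGroup p X)
    (h : ∀ y : X, ∀ v ∈ V, (y * v) ^ p ^ j = y ^ p ^ j) (hj : j ≠ 0) :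
    p ∣ {H : Subgroup X | IsCyclic H ∧ Nat.card H = p ^ (j + 1)}.ncard := by
  have h1 : p ^ (j + 1) ∣ {x : X | orderOf x = p ^ (j + 1)}.ncard := by
    rw [ncard_eq_sum_fibers (Set.toFinite _) Set.finite_univ (fun x => zpowers (x ^ p) ⊔ V) fun _ _ => trivial]
    refine Finset.dvd_sum fun L _ => ?_
    rcases Set.eq_empty_or_nonempty {a | a ∈ {x : X | orderOf x = p ^ (j + 1)} ∧ zpowers (a ^ p) ⊔ V = L} with e | ⟨x, hx, rfl⟩
    · rw [e]; simp
    refine dvd_trans ?_ (dvd_of_inv (zpowers (x ^ p) ⊔ V) ?_)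
    · obtain ⟨m, hm⟩ := card_eq_pow hX (zpowers (x ^ p) ⊔ V)
      have := H04.card_lt_of_lt (lt_of_le_of_ne (le_sup_left : zpowers (x ^ p) ≤ zpowers (x ^ p) ⊔ V) fun e =>
        hV (isCyclic_of_le (e ▸ le_sup_right : V ≤ zpowers (x ^ p))))
      rw [Nat.card_zpowers, orderOf_pow_of_dvd hp.out.ne_zero (hx ▸ dvd_pow_self p j.succ_ne_zero), hx, hm, pow_succ,
        Nat.mul_div_cancel _ hp.out.pos, Nat.pow_lt_pow_iff_right hp.out.one_lt] at this
      rw [hm]; exact pow_dvd_pow p this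
    rintro y ⟨hy, e⟩ w hw
    rw [← e] at hw ⊢
    obtain ⟨u, hu, v, hv, rfl⟩ := mem_sup_of_normal_right.1 hw
    obtain ⟨a, rfl⟩ := (mem_powers_iff_mem_zpowers.2 hu)
    have hco : (orderOf y).Coprime (1 + p * a) := by
      rw [hy]; exact Nat.Coprime.pow_left _ (by simp)
    have e2 : y * ((y ^ p) ^ a * v) = y ^ (1 + p * a) * v := by rw [pow_add, pow_one, pow_mul, mul_assoc]
    have e3 := hco.orderOf_pow
    simp only [e2]
    refine ⟨orderOf_eq_prime_pow ?_ ?_, ?_⟩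
    · rw [h _ v hv, ← orderOf_dvd_iff_pow_eq_one, e3, hy, Nat.pow_dvd_pow_iff_le_right hp.out.one_lt]; omega
    · rw [pow_succ, pow_mul, h _ v hv, ← pow_mul, ← pow_succ, ← hy, ← e3, pow_orderOf_eq_one]
    · have hk := QuotientGroup.ker_mk' V
      rw [← hk, ← comap_map_eq, ← comap_map_eq, MonoidHom.map_zpowers, MonoidHom.map_zpowers, map_pow, map_mul,
        show QuotientGroup.mk' V v = 1 from (QuotientGroup.eq_one_iff v).2 hv, mul_one, ← map_pow, ← pow_mul, mul_comm,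
        pow_mul, map_pow]
      congr 1
      refine le_antisymm (zpowers_le.2 (pow_mem (mem_zpowers _) _)) (zpowers_le.2 (mem_zpowers_pow_iff.2 ?_))
      exact (hco.coprime_dvd_left ((orderOf_map_dvd _ _).trans (orderOf_pow_dvd p))).symm
  rw [ncard_order, Nat.totient_prime_pow_succ hp.out, pow_succ, mul_left_comm] at h1
  exact (Nat.Coprime.dvd_mul_right ((Nat.coprime_self_sub_right hp.out.one_le).2 (by simp))).1
    (Nat.dvd_of_mul_dvd_mul_left (pow_pos hp.out.pos j) h1)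

theorem cen (hX : IsPGroup p X) (V : Subgroup X) [V.Normal] (hc : Nat.card V = p ^ 2) :
    ∃ Z : Subgroup X, Z.Normal ∧ Z ≤ V ∧ Nat.card Z = p ∧ Z ≤ center X ∧ ∀ v ∈ V, ∀ y, ⁅v, y⁆ ∈ Z := by
  obtain ⟨Z, _, h1, h2⟩ := exists_normal_card_eq hX V 1 (by rw [hc]; exact Nat.pow_le_pow_right hp.out.pos one_le_two)
  rw [pow_one] at h2
  exact ⟨Z, inferInstance, h1, h2, le_center_of_card_eq hX Z h2, fun v hv y => commutator_le_of_card_eq_mul hX h1
    (by rw [hc, h2, sq]) (commutator_mem_commutator hv (mem_top y))⟩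

omit hp in
theorem invol (hX : IsPGroup 2 X) (V : Subgroup X) [V.Normal] (hV : IsElementaryAbelian 2 V) (hc : Nat.card V = 2 ^ 2)
    (hC : ¬ C_(V) ≤ V) : 4 ∣ {x : X | x ^ 2 = 1}.ncard := by
  obtain ⟨Z, _, hZV, hZ, hZc, hz⟩ := cen hX V hc
  have hVC : V ≤ C_(V) := haveI := hV.1; le_centralizer V
  obtain ⟨W, _, hVW, hWC, hW, hw⟩ := exists_normal_card_mul hX V C_(V) (lt_of_le_of_ne hVC fun e => hC e.ge)
  have hsq : ∀ y : X, ∀ v ∈ V, (y * v) ^ 2 = y ^ 2 * ⁅v, y⁆ := fun y v hv => by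
    rw [mul_pow_eq_of_commute (commute_of_mem_center (hZc (hz v hv y)) _) (commute_of_mem_center (hZc (hz v hv y)) _),
      hV.2 v hv]; simp
  rw [ncard_split _ (· ∈ C_(V))]
  refine Nat.dvd_add ((show 4 = Nat.card V from hc.symm) ▸ dvd_of_inv V fun x hx v hv => ⟨mul_mem hx.1 (hVC hv), ?_⟩) ?_
  · rw [hsq x v hv, hx.2, one_mul, commutatorElement_eq_one_iff_mul_comm]; exact hx.1 v hv
  have h8 : 8 ∣ {x : X | x ∉ C_(V) ∧ x ^ 2 ∈ V}.ncard := by
    refine (show 8 = Nat.card W by rw [hW, hc]; rfl) ▸ dvd_of_inv W fun x hx w hw' =>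
      ⟨fun h => hx.1 ((mul_mem_cancel_right (hWC hw')).1 h), ?_⟩
    have h1 : w ^ 2 ∈ V := by
      have := (V.subgroupOf W).pow_index_mem ⟨w, hw'⟩
      rwa [show (V.subgroupOf W).index = 2 from relIndex_eq_of_card_eq_mul hVW hW] at this
    convert mul_mem (mul_mem hx.2 (hw (commutator_mem_commutator (mem_top x⁻¹) hw' |> (commutator_comm ⊤ W).le))) h1 using 1
    simp only [commutatorElement_def, sq]; group
  obtain ⟨v, hv, hvZ⟩ := SetLike.exists_of_lt (lt_of_le_of_ne hZV fun e => by rw [e, hc] at hZ; omega)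
  obtain ⟨z, hz1, hzu⟩ := (Nat.card_eq_two_iff' (1 : Z)).1 hZ
  have hu : ∀ a ∈ Z, a ≠ 1 → a = z := fun a ha h => congrArg Subtype.val (hzu ⟨a, ha⟩ fun e => h (congrArg Subtype.val e))
  have hgen : ∀ v ∈ V, v ∉ Z → ∀ x : X, x * v = v * x → x ∈ C_(V) := fun v hv hvZ x hx u hu' => by
    have : Z ⊔ zpowers v = V := BG.eq_of_le_of_card_eq (sup_le hZV (zpowers_le.2 hv)) (by
      rw [card_sup_zpowers (p := 2) Z (by rw [normalizer_eq_top]; trivial) hvZ (hV.2 v hv ▸ one_mem _), hZ, hc]; rfl)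
    exact ((sup_le (fun a ha => mem_centralizer_singleton_iff.2 (mem_center_iff.1 (hZc ha) x).symm)
      (zpowers_le.2 (mem_centralizer_singleton_iff.2 hx.symm)) : Z ⊔ zpowers v ≤ C_[x]) (this ▸ hu')) |>
      mem_centralizer_singleton_iff.1
  have hcz : ∀ x ∉ C_(V), ⁅v, x⁆ = z := fun x hx => hu _ (hz v hv x) fun e =>
    hx (hgen v hv hvZ x (commutatorElement_eq_one_iff_mul_comm.1 e).symm)
  have hzz : (z : X) * z = 1 := by rw [← sq]; exact hV.2 _ (hZV z.2)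
  rw [ncard_split _ (· ^ 2 = 1)] at h8
  have e1 : {x : X | x ^ 2 = 1 ∧ x ∉ C_(V) ∧ x ^ 2 ∈ V} = {x : X | x ∉ C_(V) ∧ x ^ 2 = 1} := Set.ext fun x =>
    ⟨fun h => ⟨h.2.1, h.1⟩, fun h => ⟨h.2, h.1, h.2 ▸ one_mem _⟩⟩
  have e2 : {x : X | ¬ x ^ 2 = 1 ∧ x ∉ C_(V) ∧ x ^ 2 ∈ V} = (· * v) '' {x : X | x ∉ C_(V) ∧ x ^ 2 = 1} := by
    ext x
    constructor
    · rintro ⟨h1, h2, h3⟩
      refine ⟨x * v, ⟨fun h => h2 ((mul_mem_cancel_right (hVC hv)).1 h), ?_⟩, by
        simp only [mul_assoc]; rw [← sq, hV.2 v hv, mul_one]⟩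
      have : x ^ 2 ∈ Z := by_contra fun h => h2 (hgen _ h3 h x (by group))
      rw [hsq x v hv, hcz x h2, hu _ this h1, hzz]
    · rintro ⟨x, ⟨h1, h2⟩, rfl⟩
      simp only [Set.mem_setOf_eq, hsq x v hv, hcz x h1, h2, one_mul]
      exact ⟨fun e => hz1 (Subtype.ext e), fun h => h1 ((mul_mem_cancel_right (hVC hv)).1 h), hZV z.2⟩
  rw [e1, e2, Set.ncard_image_of_injective _ (mul_left_injective v)] at h8
  omega

omit hp [Finite X] in
theorem pow_eq_one_iff_of_dvd_aux {x : X} {m n : ℕ} (h : x ^ m = 1) (hd : m ∣ n) : x ^ n = 1 := by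
  obtain ⟨c, rfl⟩ := hd; rw [pow_mul, h, one_pow]

theorem kul (hX : IsPGroup p X) (hnc : ¬ IsCyclic X) (h2 : p = 2 → ¬ IsDSQ X ∧ 4 < Nat.card X) {k : ℕ} (hk : k ≠ 0)
    (h : p ^ (k + 1) ∣ Nat.card X) : {H : Subgroup X | Nat.card H = p ^ k}.ncard ≡ 1 + p [MOD p ^ 2] := by
  obtain ⟨B, _, hBc, hBn⟩ : ∃ B : Subgroup X, B.Normal ∧ IsMulCommutative B ∧ ¬ IsCyclic B := by
    by_contra! h
    exact (isCyclic_or_isDSQ_of_normal hX h).elim hnc fun h => (h2 h.1).1 h.2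
  obtain ⟨V, -, _, hV, hc⟩ := exists_normal_elemAb_sq_of_comm hX hBc hBn
  by_cases h3 : p = 2 ∧ k = 1
  · obtain ⟨rfl, rfl⟩ := h3
    have h4 := invol hX V hV hc fun hC => by
      obtain ⟨x, hx⟩ := exists_card_centralizer_le hX hc.le hC
      refine (h2 rfl).1 (isDSQ_of_card_cent_le hX (fun hc => ?_) hx)
      rw [show C_[x] = ⊤ from eq_top_iff.2 fun y _ => mem_centralizer_singleton_iff.2 (hc.is_comm.comm y x), card_top] at hx
      have := (h2 rfl).2; omega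
    have h5 := ncard_card_eq_prime (p := 2) (⊤ : Subgroup X)
    simp only [le_top, mem_top, true_and] at h5
    unfold Nat.ModEq; simp only [pow_one]; omega
  obtain ⟨Z, _, hZV, hZ, hZc, hz⟩ := cen hX V hc
  obtain ⟨c, e⟩ := miller V (not_isCyclic_of_elemAb hp.out hV (by rw [hc]; nlinarith [hp.out.two_le])) hX (j := k)
    (fun y v hv => by
      have a := commute_of_mem_center (hZc (hz v hv y))
      rw [mul_pow_eq_of_commute (a _) (a _), pow_eq_one_iff_of_dvd_aux (hV.2 v hv) (dvd_pow_self p hk),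
        pow_eq_one_iff_of_dvd_aux (show ⁅v, y⁆ ^ p = 1 from hV.2 _ (hZV (hz v hv y))) ?_, mul_one, mul_one]
      obtain ⟨j, rfl⟩ := Nat.exists_eq_succ_of_ne_zero hk
      rw [Nat.choose_two_right]
      rcases hp.out.eq_two_or_odd' with rfl | ho
      · obtain ⟨j, rfl⟩ := Nat.exists_eq_succ_of_ne_zero (n := j) (by rintro rfl; simp at h3)
        rw [Nat.dvd_div_iff_mul_dvd (Nat.even_mul_pred_self _).two_dvd]
        exact Dvd.dvd.mul_right ⟨2 ^ j, by simp [pow_succ]; ring⟩ _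
      · rw [Nat.mul_div_assoc _ (Nat.Odd.sub_odd ho.pow odd_one).two_dvd]
        exact (dvd_pow_self p hk).mul_right _) hk
  have := T k X hX h
  rw [e, ← mul_assoc, ← sq] at this
  exact (((Nat.modEq_zero_iff_dvd.2 (dvd_mul_right _ c)).add_left _).symm.trans this)

theorem dvd_sum_of_free {P : Subgroup X} (hP : IsPGroup p P) (R : Set (Subgroup X)) (hR : ∀ g ∈ P, ∀ H ∈ R, cj g H ∈ R)
    (hf : ∀ H ∈ R, ¬ P ≤ N_(H)) (t : Subgroup X → ℕ) (ht : ∀ g ∈ P, ∀ H ∈ R, t (cj g H) = t H) (hd : ∀ H ∈ R, p ∣ t H) :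
    p ^ 2 ∣ ∑ H ∈ (Set.toFinite R).toFinset, t H := by
  classical
  rw [← Finset.sum_fiberwise_of_maps_to (t := (Set.toFinite R).toFinset.image t) (g := t)
    fun x hx => Finset.mem_image_of_mem t hx]
  refine Finset.dvd_sum fun v hv => ?_
  obtain ⟨H, hH, rfl⟩ := Finset.mem_image.1 hv
  rw [Finset.sum_const_nat (m := t H) fun x hx => (Finset.mem_filter.1 hx).2, sq]
  refine Nat.mul_dvd_mul ?_ (hd H (by simpa using hH))
  have := ncard_modEq_fixed hP {K | K ∈ R ∧ t K = t H} fun g hg K hK => ⟨hR g hg K hK.1, (ht g hg K hK.1).trans hK.2⟩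
  rw [show {K | K ∈ {K | K ∈ R ∧ t K = t H} ∧ P ≤ N_(K)} = ∅ from Set.eq_empty_of_forall_notMem fun K hK =>
    hf K hK.1.1 hK.2, Set.ncard_empty, Nat.modEq_zero_iff_dvd] at this
  convert this using 1
  rw [← Set.ncard_coe_finset]; congr 1; ext K; simp

theorem between {A B C : Subgroup X} (h1 : A ≤ B) (h2 : B ≤ C) (h : Nat.card C = Nat.card A * p) : B = A ∨ B = C := by
  have := relIndex_mul h1 h2
  rw [relIndex_eq_of_card_eq_mul (h1.trans h2) (h.trans (mul_comm _ _))] at this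
  rcases (Nat.dvd_prime hp.out).1 (Dvd.intro _ this) with e | e
  · exact Or.inl (le_antisymm (relIndex_eq_one.1 e) h1)
  · rw [e] at this
    exact Or.inr (le_antisymm h2 (relIndex_eq_one.1 (Nat.eq_of_mul_eq_mul_left hp.out.pos (by simpa using this))))

theorem red {P : Subgroup X} (hP : IsSylowIn p P ⊤) {a : ℕ} (ha : p ^ (a + 1) ∣ Nat.card P) :
    {H : Subgroup X | Nat.card H = p ^ a}.ncard ≡ {H : Subgroup X | H ≤ P ∧ Nat.card H = p ^ a}.ncard [MOD p ^ 2] := by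
  have hPp := hP.pg hp.out
  rw [ncard_split _ (· ≤ P), ncard_split (fun H : Subgroup X => ¬ H ≤ P ∧ _) fun H => p ^ 2 ∣ (N_(H)).relIndex P]
  refine (Nat.modEq_zero_iff_dvd.2 (Nat.dvd_add ?_ ?_)).add_left _
  · rw [ncard_eq_sum_fibers (Set.toFinite _) Set.finite_univ (fun H => (fun d => cj d H) '' (P : Set X)) fun _ _ => trivial]
    refine Finset.dvd_sum fun L _ => ?_
    rcases Set.eq_empty_or_nonempty {H | H ∈ {H : Subgroup X | p ^ 2 ∣ (N_(H)).relIndex P ∧ ¬ H ≤ P ∧ Nat.card H = p ^ a} ∧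
      (fun d => cj d H) '' (P : Set X) = L} with e | ⟨H, hH, rfl⟩
    · rw [e]; simp
    have e : ∀ g ∈ P, (fun d => cj d (cj g H)) '' (P : Set X) = (fun d => cj d H) '' (P : Set X) := fun g hg =>
      Set.ext fun K => ⟨fun ⟨d, hd, e⟩ => ⟨d * g, mul_mem hd hg, by rw [← e]; exact (cj_cj _ _ _).symm⟩,
        fun ⟨d, hd, e⟩ => ⟨d * g⁻¹, mul_mem hd (inv_mem hg), by rw [← e]; simp [cj_cj]⟩⟩
    refine hH.1.trans (dvd_of_eq ?_)
    rw [relIndex_norm_eq_ncard]; congr 1; symm; ext K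
    refine ⟨fun h => h.2 ▸ ⟨1, one_mem _, cj_one _⟩, ?_⟩
    rintro ⟨g, hg, rfl⟩
    exact ⟨⟨by rw [relIndex_norm_eq_ncard, e g hg, ← relIndex_norm_eq_ncard]; exact hH.1,
      fun h => hH.2.1 ((cj_le_iff_of_mem_norm (le_normalizer hg)).1 h), (card_cj _ _).trans hH.2.2⟩, e g hg⟩
  have hne : ∀ H : Subgroup X, ¬ H ≤ P → Nat.card H = p ^ a → ¬ P ≤ N_(H) := fun H h1 h2 h3 =>
    h1 (hP.le_of_norm_pg hp.out (pg_of_card h2) le_top h3)
  let R := {r : Subgroup X | Nat.card r = Nat.card P ∧ r.relIndex P = p}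
  have hR : ∀ r ∈ R, Nat.card P = Nat.card ↥(r ⊓ P) * p ∧ IsPGroup p r := fun r hr =>
    ⟨by rw [← BG.card_inf_mul_relIndex r P, hr.2], by obtain ⟨n, hn⟩ := pg_card hp.out hPp; exact pg_of_card (hr.1.trans hn)⟩
  have key : ∀ H : Subgroup X, ¬ H ≤ P → Nat.card H = p ^ a → ¬ p ^ 2 ∣ (N_(H)).relIndex P → H ⊔ (N_(H) ⊓ P) ∈ R := by
    intro H h1 h2 h3
    obtain ⟨i, hi⟩ := hPp.index ((N_(H)).subgroupOf P)
    have h4 := BG.card_inf_mul_relIndex N_(H) P
    have h5 : (N_(H)).relIndex P = p := by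
      change (N_(H)).relIndex P = _ at hi
      rcases i with _ | _ | i
      · exact absurd (relIndex_eq_one.1 hi) (hne H h1 h2)
      · simpa using hi
      · exact absurd (hi ▸ pow_dvd_pow p (by omega)) h3
    have h6 := pg_sup (pg_of_card h2) (pg_le hPp (inf_le_right : N_(H) ⊓ P ≤ P)) inf_le_left
    have h7 : Nat.card ↥(H ⊔ (N_(H) ⊓ P)) = Nat.card P := by
      obtain ⟨j, hj⟩ := pg_card hp.out h6
      obtain ⟨m, hm⟩ := pg_card hp.out (pg_le hPp (inf_le_right : N_(H) ⊓ P ≤ P))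
      have a1 := Nat.le_of_dvd Nat.card_pos (hP.pow_dvd hp.out (hj ▸ card_dvd_of_le le_top))
      have a2 := BG.card_lt (lt_of_le_of_ne (le_sup_right : N_(H) ⊓ P ≤ H ⊔ (N_(H) ⊓ P)) fun e =>
        h1 (le_sup_left.trans (e.ge.trans inf_le_right)))
      rw [← h4, h5, hm, ← pow_succ] at a1 ⊢
      rw [hj, hm, Nat.pow_lt_pow_iff_right hp.out.one_lt] at a2
      rw [Nat.pow_le_pow_iff_right hp.out.one_lt] at a1
      rw [hj]; congr 1; omega
    rw [h5] at h4
    refine ⟨h7, ?_⟩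
    rcases between (le_inf le_sup_right inf_le_right : N_(H) ⊓ P ≤ (H ⊔ (N_(H) ⊓ P)) ⊓ P) inf_le_right h4.symm with e | e
    · rw [← inf_relIndex_right, e, inf_relIndex_right, h5]
    · exact absurd (le_sup_left.trans (hP.eq_of_pg hp.out h6 (e.ge.trans inf_le_left) le_top).le) h1
  rw [ncard_eq_sum_fibers (Set.toFinite _) (Set.toFinite R) (fun H => H ⊔ (N_(H) ⊓ P))
    fun H hH => key H hH.2.1 hH.2.2 hH.1]
  have fib : ∀ r ∈ R, {H | H ∈ {H : Subgroup X | ¬ p ^ 2 ∣ (N_(H)).relIndex P ∧ ¬ H ≤ P ∧ Nat.card H = p ^ a} ∧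
      H ⊔ (N_(H) ⊓ P) = r} = {H | ¬ H ≤ P ∧ H ≤ r ∧ r ≤ N_(H) ∧ Nat.card H = p ^ a} := fun r hr => Set.ext fun H => by
    refine ⟨fun ⟨h1, e⟩ => ⟨h1.2.1, e ▸ le_sup_left, e ▸ sup_le le_normalizer inf_le_left, h1.2.2⟩,
      fun ⟨h1, h2, h3, h4⟩ => ?_⟩
    have e := (between (inf_le_inf_right P h3) inf_le_right (hR r hr).1).resolve_right fun e =>
      hne H h1 h4 (e.ge.trans inf_le_left)
    refine ⟨⟨fun h => ?_, h1, h4⟩, ?_⟩
    · rw [← inf_relIndex_right, e, inf_relIndex_right, hr.2] at h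
      have := Nat.le_of_dvd hp.out.pos h
      nlinarith [hp.out.two_le]
    · rw [e]
      exact (between le_sup_right (sup_le h2 inf_le_left) (hr.1.trans (hR r hr).1)).resolve_left fun e =>
        h1 (le_sup_left.trans (e.le.trans inf_le_right))
  rw [Finset.sum_congr rfl fun r hr => congrArg Set.ncard (fib r (by simpa using hr))]
  refine dvd_sum_of_free hPp R (fun g hg r hr => ⟨(card_cj _ _).trans hr.1, ?_⟩) (fun r hr h => ?_) _ (fun g hg r hr => ?_)
    fun r hr => ?_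
  · rw [← cj_of_mem hg, relIndex_cj]; exact hr.2
  · have := hr.2
    rw [BG.eq_of_le_of_card_eq (hP.le_of_norm_pg hp.out (hR r hr).2 le_top h) hr.1, relIndex_self] at this
    exact hp.out.ne_one this.symm
  · rw [← Set.ncard_image_of_injective (f := cj g⁻¹) _ fun _ _ => cj_inj.1]
    congr 1; ext H
    have e := fun H => cj_le_iff_of_mem_norm (X := H) (le_normalizer hg : g ∈ N_(P))
    refine ⟨?_, fun h => ⟨cj g H, ⟨by rw [e]; exact h.1, cj_mono _ h.2.1, by rw [← cj_norm]; exact cj_mono _ h.2.2.1,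
      (card_cj _ _).trans h.2.2.2⟩, cj_inv_cj _ _⟩⟩
    rintro ⟨H, h, rfl⟩
    exact ⟨by rw [← e, cj_cj_inv]; exact h.1, by rw [← cj_le_cj_iff (g := g), cj_cj_inv]; exact h.2.1,
      by rw [← cj_le_cj_iff (g := g), cj_norm, cj_cj_inv]; exact h.2.2.1, (card_cj _ _).trans h.2.2.2⟩
  obtain ⟨h1, h2⟩ := hR r hr
  have h3 := ncard_normal_modEq_one' h2 (s := a) (by
    rw [hr.1]; exact Nat.le_of_dvd Nat.card_pos ((pow_dvd_pow p (by omega)).trans ha))
  have h4 := ncard_le_card_modEq_one (pg_le hPp (inf_le_right : r ⊓ P ≤ P)) (s := a) (by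
    rw [h1, pow_succ] at ha; exact Nat.le_of_dvd Nat.card_pos (Nat.dvd_of_mul_dvd_mul_right hp.out.pos ha))
  have h5 : r ≤ N_(r ⊓ P) := (normal_subgroupOf_iff_le_normalizer inf_le_left).1 (normal_of_index_eq h2
    (relIndex_eq_of_card_eq_mul inf_le_left (by rw [hr.1, h1, mul_comm])))
  have h6 := ncard_modEq_fixed h2 {H | H ≤ r ⊓ P ∧ Nat.card H = p ^ a} fun g hg H hH =>
    ⟨cj_le_of_mem_norm hH.1 (h5 hg), (card_cj _ _).trans hH.2⟩
  rw [ncard_split _ (· ≤ P)] at h3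
  rw [show {H | H ∈ {H | H ≤ r ⊓ P ∧ Nat.card H = p ^ a} ∧ r ≤ N_(H)} = {H | H ≤ P ∧ H ≤ r ∧ r ≤ N_(H) ∧ Nat.card H = p ^ a}
    from Set.ext fun H => by simp only [Set.mem_setOf_eq, le_inf_iff]; tauto] at h6
  exact Nat.modEq_zero_iff_dvd.1 (Nat.ModEq.add_left_cancel (h6.symm.trans h4) h3)

end

end H21.Kul
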