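import Mathlib
import Cfsg.Agent.H02.Higman2
import Cfsg.Agent.H21.SH1

/-!
# Higman's argument for an operator whose eigenvalue on the involutions has nearly maximal order
-/

set_option linter.unusedSectionVars false

namespace H21.SH

open Cfsg BG Subgroup H02.Suz H02.Hig
open scoped commutatorElement

local notation "#" => Nat.card

variable {G : Type*} [Group G]

/-- The modified hypothesis of Higman's theorem (without non-commutativity). -/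
structure HK (F : Type*) [Field F] [Fintype F] [CharP F 2] (S Z : Subgroup G) (k : G) : Prop where
  pg : IsPGroup 2 S
  kn : k ∈ N_(S)
  mem : ∀ x, x ∈ Z ↔ x ∈ S ∧ x * x = 1
  co : ∃ (l : F) (p : G → F), Co k Z ⊥ l p ∧ Pr l
  ne : Z ≠ ⊥
  big : 2 < Fintype.card F
  ord : k ^ (Fintype.card F - 1) = 1

variable {F : Type*} [Field F] [Fintype F] [CharP F 2] [Finite G]

namespace HK

variable {S Z : Subgroup G} {k : G} (h : HK F S Z k)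
include h

theorem Z_le_S : Z ≤ S := fun x hx => ((h.mem x).1 hx).1

theorem Z_sq {z : G} (hz : z ∈ Z) : z * z = 1 := ((h.mem z).1 hz).2

theorem Z_ne : Z ≠ ⊥ := h.ne

theorem knZ : k ∈ N_(Z) := mem_norm_of_conj fun x hx => (h.mem _).2
  ⟨conj_mem_of_norm h.kn (h.Z_le_S hx), by
    calc _ = k * (x * x) * k⁻¹ := by group
      _ = 1 := by rw [h.Z_sq hx]; group⟩

theorem exists_invol {Y : Subgroup G} (hY : Y ≤ S) (h0 : Y ≠ ⊥) : ∃ z ∈ Y, z ∈ Z ∧ z ≠ 1 := by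
  obtain ⟨z, hz, h2⟩ := H08.even_card_iff.1
    (even_iff_two_dvd.2 (pg_dvd Nat.prime_two (pg_le h.pg hY) h0))
  exact ⟨z, hz, (h.mem z).2 ⟨hY hz, H08.mul_self_of_orderOf h2⟩, H08.ne_one_of_orderOf h2⟩

theorem Z_le {Y : Subgroup G} (hY : Y ≤ S) (hk : k ∈ N_(Y)) (h0 : Y ≠ ⊥) : Z ≤ Y := by
  obtain ⟨z, hz, hzZ, hz1⟩ := h.exists_invol hY h0
  obtain ⟨l, p, hp, hl⟩ := h.co
  intro y hy
  obtain ⟨x, hx, e⟩ := surj h.big (hp.restrict (C := Y ⊓ Z) inf_le_right (kn_inf hk h.knZ)) hl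
    (fun hle => hz1 (hle ⟨hz, hzZ⟩).1) (p y)
  rw [inv_mul_eq_one.1 ((hp.eq_iff hx.2 hy).1 e)]
  exact hx.1

theorem Z_cent : Z ≤ C_(S) :=
  (h.Z_le inf_le_left (kn_inf h.kn (norm_le_norm_cent S h.kn))
    (pg_center_ne_bot Nat.prime_two h.pg (ne_bot_mono h.Z_ne h.Z_le_S))).trans inf_le_right

theorem comm_Z {g z : G} (hg : g ∈ S) (hz : z ∈ Z) : ⁅g, z⁆ = 1 :=
  commutatorElement_eq_one_iff_mul_comm.2 (h.Z_cent hz g hg)

theorem Z_ab : IsMulCommutative Z := abelian_iff.2 (h.Z_cent.trans (cent_anti h.Z_le_S))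

theorem S_norm_Z : S ≤ N_(Z) := le_norm_of_cent (cent_symm h.Z_cent)

theorem odd_k : Odd (orderOf k) := by
  obtain ⟨n, hn, he⟩ := card_two_pow (F := F)
  refine Odd.of_dvd_nat ?_ (orderOf_dvd_of_pow_eq_one h.ord)
  rw [he]
  exact Nat.Even.sub_odd Nat.one_le_two_pow ((Nat.even_pow' hn.ne').2 even_two) odd_one

theorem fpf : S ⊓ C_[k] = ⊥ := by
  by_contra h0
  obtain ⟨z, hz, hzZ, hz1⟩ := h.exists_invol inf_le_left h0
  obtain ⟨l, p, hp, hl⟩ := h.co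
  have h1 := hp.eqv z hzZ
  have h2 : Commute k z := Commute.symm (mem_cent1.1 hz.2)
  rw [h2.eq, mul_inv_cancel_right] at h1
  exact hl.ne_one h.big (mul_left_eq_self₀.1 h1.symm |>.resolve_right
    fun e => hz1 ((hp.ker z hzZ).1 e))

theorem exists_coZ : ∃ (l : F) (p : G → F), Co k Z ⊥ l p ∧ Pr l := h.co

theorem exists_exp {A : Subgroup G} (hA : A ≤ S) (h0 : A ≠ ⊥) :
    ∃ m : ℕ, (∃ a ∈ A, a ^ 2 ^ m ≠ 1) ∧ ∀ a ∈ A, a ^ 2 ^ (m + 1) = 1 := by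
  classical
  obtain ⟨n, hn⟩ := pg_card Nat.prime_two (pg_le h.pg hA)
  have hex : ∃ n, ∀ a ∈ A, a ^ 2 ^ n = 1 := ⟨n, fun a ha => by
    rw [← hn]; exact orderOf_dvd_iff_pow_eq_one.1 (A.orderOf_dvd_natCard ha)⟩
  have h1 := Nat.find_spec hex
  have h2 : Nat.find hex ≠ 0 := fun e => h0 (by
    rw [e] at h1
    exact (eq_bot_iff_forall _).2 fun a ha => by simpa using h1 a ha)
  obtain ⟨m, hm⟩ := Nat.exists_eq_succ_of_ne_zero h2
  have h3 := Nat.find_min hex (m := m) (by omega)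
  push Not at h3
  rw [hm] at h1
  exact ⟨m, h3, h1⟩

theorem om {A Y : Subgroup G} (hA : IsMulCommutative A) (hAS : A ≤ S) (hY : Y ≤ A)
    (hk : k ∈ N_(Y)) {m : ℕ} (hm : ∃ y ∈ Y, y ^ 2 ^ m ≠ 1) (j : ℕ) :
    ∀ i, i + j = m + 1 → ∀ a ∈ A, a ^ 2 ^ j = 1 → ∃ y ∈ Y, y ^ 2 ^ i = a := by
  have hZ : Z ≤ pw Y (2 ^ m) := by
    obtain ⟨y, hy, hy1⟩ := hm
    exact h.Z_le ((pw_le _ _).trans (hY.trans hAS)) (norm_pw hk _)
      (ne_bot_of_mem (pow_mem_pw hy _) hy1)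
  induction j with
  | zero => intro i _ a _ ha; exact ⟨1, one_mem _, by simpa using ha.symm⟩
  | succ j ih =>
    intro i hi a ha h1
    obtain ⟨y, hy, e⟩ := ih (i + 1) (by omega) (a * a) (mul_mem ha ha)
      (by rw [← pow_two, ← pow_mul, ← pow_succ', h1])
    have hy' := pow_mem (hY hy) (2 ^ i)
    have hz : a * (y ^ 2 ^ i)⁻¹ ∈ Z := (h.mem _).2 ⟨hAS (mul_mem ha (inv_mem hy')), by
      rw [pow_succ, pow_mul, pow_two] at e
      calc _ = a * ((y ^ 2 ^ i)⁻¹ * a) * (y ^ 2 ^ i)⁻¹ := by group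
        _ = (a * a) * (y ^ 2 ^ i * y ^ 2 ^ i)⁻¹ := by
          rw [mul_comm_of_abelian hA (inv_mem hy') ha]; group
        _ = 1 := by rw [e]; group⟩
    obtain ⟨w, hw, e'⟩ := (mem_pw (abelian_of_le hA hY)).1 (hZ hz)
    refine ⟨w ^ 2 ^ j * y, mul_mem (pow_mem hw _) hy, ?_⟩
    rw [Commute.mul_pow (mul_comm_of_abelian hA (hY (pow_mem hw _)) (hY hy)), ← pow_mul, ← pow_add,
      show j + i = m by omega, e']
    group

/-- Higman's Lemma 1. -/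
theorem L1 {A Y : Subgroup G} (hA : IsMulCommutative A) (hAS : A ≤ S) (hkA : k ∈ N_(A))
    (hY : Y ≤ A) (hk : k ∈ N_(Y)) : Y = A ∨ Y ≤ pw A 2 := by
  by_cases h0 : A = ⊥
  · left; exact le_antisymm hY (h0 ▸ bot_le)
  obtain ⟨m, h1, h2⟩ := h.exists_exp hAS h0
  by_cases h3 : ∃ y ∈ Y, y ^ 2 ^ m ≠ 1
  · refine Or.inl (hY.antisymm fun a ha => ?_)
    obtain ⟨y, hy, rfl⟩ := h.om hA hAS hY hk h3 (m + 1) 0 (by omega) a ha (h2 a ha)
    exact pow_mem hy _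
  · push Not at h3
    refine Or.inr fun y hy => ?_
    obtain ⟨a, ha, rfl⟩ := h.om hA hAS le_rfl hkA h1 m 1 (by omega) y (hY hy) (h3 y hy)
    exact pow_mem_pw ha _

theorem not_le_pw {A : Subgroup G} (hA : IsMulCommutative A) (hAS : A ≤ S) (h0 : A ≠ ⊥) :
    ¬ A ≤ pw A 2 := by
  obtain ⟨m, ⟨a, ha, h1⟩, h2⟩ := h.exists_exp hAS h0
  intro hle
  obtain ⟨b, hb, rfl⟩ := (mem_pw hA).1 (hle ha)
  exact h1 (by rw [← pow_mul, ← pow_succ', h2 b hb])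

theorem comm_pw {A T : Subgroup G} (hA : IsMulCommutative A) (hAS : A ≤ S) (hkA : k ∈ N_(A))
    (hT : T ≤ S) (hkT : k ∈ N_(T)) (hn : T ≤ N_(A)) {g a : G} (hg : g ∈ T) (ha : a ∈ A) :
    ⁅g, a⁆ ∈ pw A 2 := by
  by_cases h0 : A = ⊥
  · subst h0; rw [mem_bot.1 ha]; simp
  have := nil_comm_lt hn (pg_nil Nat.prime_two (pg_le h.pg (sup_le hAS hT))) h0
  exact (h.L1 hA hAS hkA this.le (kn_comm hkA hkT)).resolve_left this.ne
    (comm_symm_mem (commutator_mem_commutator ha hg))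

/-- Higman's Lemma 2. -/
theorem L2 {A : Subgroup G} (hA : IsMulCommutative A) (hAS : A ≤ S) (hZ : Z ≤ A) {u : G}
    (hu : u ∈ S) (hun : u ∈ N_(A)) (h1 : u * u ∈ pw A 2) (h2 : ∀ a ∈ A, ⁅u, a⁆ ∈ pw (pw A 2) 2) :
    u ∈ A := by
  have key : ∀ j : ℕ, ∃ b ∈ A, ∃ c ∈ A, b * u * (b * u) = c ^ 2 ^ (j + 1) := by
    intro j
    induction j with
    | zero =>
      obtain ⟨c, hc, e⟩ := (mem_pw hA).1 h1
      exact ⟨1, one_mem _, c, hc, by simpa using e.symm⟩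
    | succ j ih =>
      obtain ⟨b, hb, c, hc, e⟩ := ih
      obtain ⟨d, hd, e1⟩ := (mem_pw (pw_ab hA 2)).1 (h2 _ (inv_mem hc))
      obtain ⟨d', hd', rfl⟩ := (mem_pw hA).1 hd
      have hb' := pow_mem (inv_mem hc) (2 ^ j)
      refine ⟨c⁻¹ ^ 2 ^ j * b, mul_mem hb' hb, d', hd', ?_⟩
      have e2 : ⁅u, c⁻¹ ^ 2 ^ j⁆ = d' ^ 2 ^ (j + 1 + 1) := by
        rw [dl_pow hA hun (inv_mem hc), ← e1, ← pow_mul, ← pow_mul]; congr 1; ring
      have e3 : c⁻¹ ^ 2 ^ j * c⁻¹ ^ 2 ^ j * (b * u * (b * u)) = 1 := by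
        rw [e, ← pow_add, ← two_mul, ← pow_succ', inv_pow, inv_mul_cancel]
      rw [← e2]
      generalize c⁻¹ ^ 2 ^ j = w at hb' e3
      have hw := dl_mem hun hb'
      calc _ = (w * b * ⁅u, w⁆) * (w * b⁻¹) * (b * u * (b * u)) := by
            rw [commutatorElement_def]; group
        _ = ⁅u, w⁆ * (w * w * (b * u * (b * u))) := by
            rw [mul_comm_of_abelian hA (mul_mem hb' hb) hw, mul_comm_of_abelian hA hb' (inv_mem hb)]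
            group
        _ = _ := by rw [e3, mul_one]
  obtain ⟨n, hn⟩ := pg_card Nat.prime_two (pg_le h.pg hAS)
  obtain ⟨b, hb, c, hc, e⟩ := key n
  rw [pow_succ, pow_mul, ← hn, orderOf_dvd_iff_pow_eq_one.1 (A.orderOf_dvd_natCard hc),
    one_pow] at e
  exact (mul_mem_cancel_left hb).1 (hZ ((h.mem _).2 ⟨mul_mem (hAS hb) hu, e⟩))

theorem co_cov {A C : Subgroup G} (hC : Cov S k A C) (hkA : k ∈ N_(A)) :
    ∃ (μ : F) (π : G → F), Co k C A μ π :=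
  exists_co hC.sq hC.lt hC.kn hkA h.ord hC.irr

variable {l : F} {p : G → F} (hp : Co k Z ⊥ l p) (hl : Pr l)
include hp

theorem co_ab {A : Subgroup G} (hA : IsMulCommutative A) (hAS : A ≤ S) (hkA : k ∈ N_(A)) {m : ℕ}
    (h1 : ∃ a ∈ A, a ^ 2 ^ m ≠ 1) (h2 : ∀ a ∈ A, a ^ 2 ^ (m + 1) = 1) :
    Co k A (pw A 2) l fun x => p (x ^ 2 ^ m) := by
  have hz : ∀ a ∈ A, a ^ 2 ^ m ∈ Z := fun a ha => (h.mem _).2 ⟨hAS (pow_mem ha _), by
    rw [← pow_two, ← pow_mul, ← pow_succ, h2 a ha]⟩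
  refine ⟨fun x hx y hy => ?_, fun x hx => ?_, fun x hx => ?_, hkA, hp.ne, pw_le _ _⟩
  · rw [Commute.mul_pow (mul_comm_of_abelian hA hx hy), hp.add _ (hz x hx) _ (hz y hy)]
  · rw [hp.ker _ (hz x hx), mem_bot, mem_pw hA]
    refine ⟨fun e => h.om hA hAS le_rfl hkA h1 m 1 (by omega) x hx e, ?_⟩
    rintro ⟨a, ha, rfl⟩
    rw [← pow_mul, ← pow_succ', h2 a ha]
  · rw [conj_pow, hp.eqv _ (hz x hx)]

theorem co_ab' {A : Subgroup G} (hA : IsMulCommutative A) (hAS : A ≤ S) (hkA : k ∈ N_(A))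
    (h0 : A ≠ ⊥) : ∃ ψ : G → F, Co k A (pw A 2) l ψ := by
  obtain ⟨m, h1, h2⟩ := h.exists_exp hAS h0
  exact ⟨_, h.co_ab hp hA hAS hkA h1 h2⟩

include hl

/-- Higman's Lemma 7. -/
theorem L7 {A C : Subgroup G} (hA : IsMulCommutative A) (hkA : k ∈ N_(A)) (hC : Cov S k A C)
    {u : G} (hu : u ∈ C) (hu2 : u * u ∉ pw A 2) (hc : ⁅C, C⁆ ≤ pw A 2) : IsMulCommutative C := by
  have hAC := hC.lt.le
  have hAS := hAC.trans hC.le
  have hc' : ∀ x ∈ C, ∀ y ∈ C, ⁅x, y⁆ ∈ pw A 2 := fun x hx y hy =>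
    hc (commutator_mem_commutator hx hy)
  obtain ⟨μ, π, hπ⟩ := h.co_cov hC hkA
  obtain ⟨ψ, hψ⟩ := h.co_ab' hp hA hAS hkA (by
    rintro rfl; exact hu2 (by rw [mem_bot.1 (hC.sq u hu)]; exact one_mem _))
  obtain ⟨ρ, hρ⟩ := hπ.lin_weight (f := fun x => ψ (x * x)) (fun x hx y hy => by
      simp only [hψ.sq_mul hC.sq (fun g hg d hd => hc' g hg d (hAC hd)) hx hy,
        hψ.zero (hc' x hx y hy), add_zero])
    (fun b hb => hψ.zero (sq_mem_pw hb)) hp.ne (fun x hx => by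
      rw [← hψ.eqv _ (hC.sq x hx)]; congr 1; group) hu fun e => hu2 ((hψ.ker _ (hC.sq u hu)).1 e)
  have hμ : Pr μ := Pr.of_map (hρ ▸ hl)
  rw [abelian_iff_der]
  by_contra h0
  have hDA : ⁅C, C⁆ ≤ A := hc.trans (pw_le _ _)
  have hD := abelian_of_le hA hDA
  have hkD := kn_comm hC.kn hC.kn
  obtain ⟨χ, hχ⟩ := h.co_ab' hp hD (hDA.trans hAS) hkD h0
  have hE : ∀ g ∈ C, ∀ d ∈ ⁅C, C⁆, ⁅g, d⁆ ∈ pw ⁅C, C⁆ 2 := fun g hg d hd =>
    h.comm_pw hD (hDA.trans hAS) hkD hC.le hC.kn (le_norm_der C) hg hd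
  have hcc : ∀ x ∈ C, ∀ y ∈ C, ⁅x, y⁆ ∈ ⁅C, C⁆ := fun x hx y hy => commutator_mem_commutator hx hy
  have hAp : A ≤ pw C 2 := ((h.L1 hA hAS hkA (pw2_le_iff.2 hC.sq) (norm_pw hC.kn 2)).resolve_right
    fun e => hu2 (e (sq_mem_pw hu))).ge
  have hB : ∀ b ∈ A, ∀ y ∈ C, ⁅b, y⁆ ∈ pw ⁅C, C⁆ 2 := fun b hb y hy => by
    have h1 : pw C 2 ≤ (hχ.comm_add_left hcc hE hy).ker := pw2_le_iff.2 fun x hx =>
      ⟨mul_mem hx hx, (hχ.comm_add_left hcc hE hy).sq hx⟩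
    exact (hχ.ker _ (hcc _ (hAC hb) _ hy)).1 (h1 (hAp hb)).2
  obtain ⟨c, h1, h2⟩ := hπ.comm_expand hπ hχ hcc hE hE hB fun x hx b hb =>
    comm_symm_mem (hB b hb x hx)
  obtain ⟨c₀, α, γ, -, h3⟩ := single_term h1 fun p p' e e' => by
    have e1 := hμ.W21p h.big (e.trans hρ.symm)
    have e2 := hμ.W21p h.big (e'.trans hρ.symm)
    have e3 : p.1 = p'.1 := hμ.aut_ext h.big ((Fr F).injective (by
      rw [Fr_apply, Fr_apply]; nth_rewrite 2 [e1, e2]; rw [e, e']))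
    exact Prod.ext e3 (by rw [← e1, ← e2, e3])
  have hu0 : π u ≠ 0 := fun e => hu2 (sq_mem_pw ((hπ.ker u hu).1 e))
  have h4 := h2 u hu u hu
  rw [h3, commutatorElement_self, hχ.add.one] at h4
  have h5 : c₀ = 0 := by simpa [hu0] using h4
  refine h.not_le_pw hD (hDA.trans hAS) h0 (commutator_le.2 fun x hx y hy => ?_)
  rw [← hχ.ker _ (hcc x hx y hy), h2 x hx y hy, h3, h5, zero_mul]

/-- Higman's Lemma 8. -/
theorem L8 {A C : Subgroup G} (hA : IsMulCommutative A) (hkA : k ∈ N_(A)) (hSA : S ≤ N_(A))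
    (hC : Cov S k A C) (hc : A ≤ ⁅C, C⁆) : pw A 2 = ⊥ := by
  by_contra h2
  have hAC := hC.lt.le
  have hAS := hAC.trans hC.le
  have h0 : A ≠ ⊥ := ne_bot_mono h2 (pw_le _ _)
  have hA2 := pw_ab hA 2
  have hA2S := (pw_le A 2).trans hAS
  have hk2 := norm_pw hkA 2
  have c1 : ∀ g ∈ C, ∀ a ∈ A, ⁅g, a⁆ ∈ pw A 2 := fun g hg a ha =>
    h.comm_pw hA hAS hkA le_rfl h.kn hSA (hC.le hg) ha
  have c2 : ∀ g ∈ C, ∀ a ∈ pw A 2, ⁅g, a⁆ ∈ pw (pw A 2) 2 := fun g hg a ha =>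
    h.comm_pw hA2 hA2S hk2 le_rfl h.kn (fun g hg => norm_pw (hSA hg) 2) (hC.le hg) ha
  obtain ⟨μ, π, hπ⟩ := h.co_cov hC hkA
  obtain ⟨ψ, hψ⟩ := h.co_ab' hp hA hAS hkA h0
  obtain ⟨χ, hχ⟩ := h.co_ab' hp hA2 hA2S hk2 h2
  obtain ⟨u, hu, hu2⟩ : ∃ u ∈ C, u * u ∉ pw A 2 := by
    by_contra hcon
    push Not at hcon
    exact h.not_le_pw hA hAS h0 (hc.trans (commutator_le.2 fun x hx y hy =>
      comm_mem_of_sq hcon hx hy))
  obtain ⟨σ, τ, hστ⟩ := hπ.QL hψ hC.sq c1 c1 (fun b hb => sq_mem_pw hb) hu hu2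
  have hμ := hl.of_mul hστ
  obtain ⟨c, h3, h4⟩ := hψ.comm_expand hπ hχ (fun a ha x hx => comm_symm_mem (c1 x hx a ha))
    (fun g hg d hd => c2 g (hAC hg) d hd) c2 (fun b hb y hy => comm_symm_mem (c2 y hy b hb))
    fun x hx b hb => by rw [comm_eq_one_of_ab hA hx hb]; exact one_mem _
  obtain ⟨c₀, α, γ, -, h5⟩ := single_term h3 fun p p' e e' => by
    rw [← hστ] at e e'
    exact Prod.ext (hμ.U h.big e e').1 (hμ.U h.big e e').2
  have h6 := h4 _ (hC.sq u hu) u hu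
  rw [h5, commutatorElement_eq_one_iff_commute.2 ((Commute.refl u).mul_left (Commute.refl u)),
    hχ.add.one] at h6
  have hu0 : π u ≠ 0 := fun e => hu2 (sq_mem_pw ((hπ.ker u hu).1 e))
  have hu0' : ψ (u * u) ≠ 0 := fun e => hu2 ((hψ.ker _ (hC.sq u hu)).1 e)
  have h7 : c₀ = 0 := by simpa [hu0, hu0'] using h6
  have h8 : ∀ a ∈ A, ∀ x ∈ C, ⁅a, x⁆ ∈ pw (pw A 2) 2 := fun a ha x hx => by
    rw [← hχ.ker _ (comm_symm_mem (c1 x hx a ha)), h4 a ha x hx, h5, h7, zero_mul]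
  have h9 : AddOn A fun a => χ (a * a) := fun a ha b hb => by
    simp only
    rw [← hχ.add _ (sq_mem_pw ha) _ (sq_mem_pw hb), mul_assoc, ← mul_assoc b,
      mul_comm_of_abelian hA hb ha]
    congr 1; group
  have h10 : ⁅C, C⁆ ≤ h9.ker := commutator_le.2 fun x hx y hy => by
    have hxy := hC.comm x (hC.le hx) y hy
    refine ⟨hxy, hχ.zero ?_⟩
    have := h8 _ (hC.sq x hx) y hy
    rwa [comm_sq_left, mul_mem_cancel_left (comm_symm_mem (h8 _ hxy x hx))] at this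
  exact h.not_le_pw hA2 hA2S h2 (pw2_le_iff.2 fun a ha =>
    (hχ.ker _ (sq_mem_pw ha)).1 (h10 (hc ha)).2)

/-- Higman's Lemma 3. -/
theorem L3 {A C : Subgroup G} (hA : IsMulCommutative A) (hkA : k ∈ N_(A)) (hSA : S ≤ N_(A))
    (hZ : Z ≤ A) (hC : Cov S k A C) (hsq : ∀ u ∈ C, u * u ∈ pw A 2) :
    ∀ a ∈ A, a ^ 2 ^ 2 = 1 := by
  have hAC := hC.lt.le
  have hAS := hAC.trans hC.le
  have h0 : A ≠ ⊥ := ne_bot_mono h.Z_ne hZ
  obtain ⟨m, h1, h2⟩ := h.exists_exp hAS h0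
  by_cases hm : m < 2
  · intro a ha
    obtain ⟨j, hj⟩ : ∃ j, 2 = m + 1 + j := ⟨1 - m, by omega⟩
    nth_rewrite 2 [hj]
    rw [pow_add, pow_mul, h2 a ha, one_pow]
  exfalso
  obtain ⟨m, rfl⟩ : ∃ j, m = j + 1 + 1 := ⟨m - 2, by omega⟩
  have hA2 := pw_ab hA 2
  have hA2S := (pw_le A 2).trans hAS
  have hk2 := norm_pw hkA 2
  have hn : ∀ {u}, u ∈ C → u ∈ N_(A) := fun hu => hSA (hC.le hu)
  have c1 : ∀ g ∈ C, ∀ a ∈ A, ⁅g, a⁆ ∈ pw A 2 := fun g hg a ha =>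
    h.comm_pw hA hAS hkA le_rfl h.kn hSA (hC.le hg) ha
  have c2 : ∀ g ∈ C, ∀ a ∈ pw A 2, ⁅g, a⁆ ∈ pw (pw A 2) 2 := fun g hg a ha =>
    h.comm_pw hA2 hA2S hk2 le_rfl h.kn (fun g hg => norm_pw (hSA hg) 2) (hC.le hg) ha
  have hψ := h.co_ab hp hA hAS hkA h1 h2
  have hχ := h.co_ab hp hA2 hA2S hk2 (m := m + 1) (by
      obtain ⟨a, ha, e⟩ := h1
      exact ⟨_, pow_mem_pw ha 2, by rwa [← pow_mul, ← pow_succ']⟩) (fun b hb => by
      obtain ⟨a, ha, rfl⟩ := (mem_pw hA).1 hb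
      rw [← pow_mul, ← pow_succ', h2 a ha])
  have hs := surj h.big hψ hl (h.not_le_pw hA hAS h0)
  choose s hs1 hs2 using hs
  have he : ∀ u ∈ C, AddOn A fun a => p (⁅u, a⁆ ^ 2 ^ (m + 1)) := fun u hu =>
    hχ.comm_add_right c1 (fun g hg d hd => c2 g (hAC hg) d hd) hu
  have he0 : ∀ u ∈ C, ∀ b ∈ pw A 2, p (⁅u, b⁆ ^ 2 ^ (m + 1)) = 0 := fun u hu b hb =>
    hχ.zero (c2 u hu b hb)
  let η : C → F →+ F := fun u => AddMonoidHom.mk' (fun v => p (⁅u.1, s v⁆ ^ 2 ^ (m + 1)))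
    fun v w => (hψ.dep (he u u.2) (he0 u u.2) (hs1 _) (mul_mem (hs1 v) (hs1 w))
      (by have := hψ.add _ (hs1 v) _ (hs1 w); rw [this, hs2, hs2, hs2])).trans (he u u.2 _ (hs1 v) _ (hs1 w))
  have hη : ∀ u : C, ∀ a ∈ A, η u (p (a ^ 2 ^ (m + 1 + 1))) = p (⁅u.1, a⁆ ^ 2 ^ (m + 1)) :=
    fun u a ha => hψ.dep (he u u.2) (he0 u u.2) (hs1 _) ha (hs2 _)
  have hη2 : ∀ u v : C, ∀ a ∈ A,
      η u (η v (p (a ^ 2 ^ (m + 1 + 1)))) = p (⁅u.1, ⁅v.1, a⁆⁆ ^ 2 ^ m) := fun u v a ha => by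
    obtain ⟨c, hc, e⟩ := (mem_pw hA).1 (c1 v v.2 a ha)
    rw [hη v a ha, ← e, ← pow_mul, ← pow_succ', hη u c hc, dl_pow hA (hn u.2) hc, ← pow_mul,
      ← pow_succ']
  have key := H21.SH.L3alg h.big hl η (fun u v => by
      rw [← hs2 v]
      have ha := hs1 v
      generalize s v = a at ha
      obtain ⟨c, hc, e⟩ := (mem_pw hA).1 (c1 u u.2 a ha)
      rw [hη u a ha, ← e, ← pow_mul, ← pow_succ', hη u c hc, pow_succ' 2 (m + 1), pow_mul]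
      have h3 := comm_sq_left u.1 a
      rw [comm_eq_one_of_ab hA (hC.sq u u.2) ha, ← e, dl_pow hA (hn u.2) hc, ← pow_two,
        ← Commute.mul_pow (mul_comm_of_abelian hA (dl_mem (hn u.2) hc) (pow_mem hc 2))] at h3
      apply eq_of_add_eq_zero
      have := hχ.add _ (c1 u u.2 c hc) _ (pow_mem_pw hc 2)
      rw [← this, pow_succ' 2 m, pow_mul, ← h3, one_pow, hp.add.one])
    (fun u v w => by
      rw [← hs2 w, hη2 _ _ _ (hs1 w), hη2 _ _ _ (hs1 w)]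
      have ha := hs1 w
      generalize s w = a at ha
      congr 2
      have e1 := commutatorElement_eq_one_iff_mul_comm.1 (comm_eq_one_of_ab hA
        (hC.comm _ (inv_mem (hC.le u.2)) _ (inv_mem v.2)) ha)
      have e2 : u.1 * v * a * v.1⁻¹ * u.1⁻¹ = v.1 * u * a * u.1⁻¹ * v.1⁻¹ := by
        calc _ = v.1 * u * (⁅u.1⁻¹, v.1⁻¹⁆ * a) * v.1⁻¹ * u.1⁻¹ := by
              simp only [commutatorElement_def]; group
          _ = _ := by rw [e1]; simp only [commutatorElement_def]; group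
      have hy := inv_mem (conj_mem_of_norm (hn u.2) ha)
      have hz := inv_mem (conj_mem_of_norm (hn v.2) ha)
      calc _ = u.1 * v * a * v.1⁻¹ * u.1⁻¹ * (((u.1 * a * u.1⁻¹)⁻¹ * a) * (v.1 * a * v.1⁻¹)⁻¹) := by
            simp only [commutatorElement_def]; group
        _ = _ := by
            rw [e2, mul_comm_of_abelian hA (mul_mem hy ha) hz, mul_comm_of_abelian hA hy ha]
            simp only [commutatorElement_def]; group)
    (fun u => ⟨⟨k⁻¹ * u * k, conj_mem_of_norm' hC.kn u.2⟩, fun v => by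
      rw [← hs2 v, ← hψ.eqv _ (hs1 v), hη _ _ (conj_mem_of_norm hkA (hs1 v)), hη _ _ (hs1 v),
        ← hχ.eqv _ (c1 _ (conj_mem_of_norm' hC.kn u.2) _ (hs1 v))]
      congr 2
      simp only [commutatorElement_def]; group⟩)
  have h3 : ∀ u : C, (∀ v, η u v = 0) → u.1 ∈ A := fun u hu =>
    h.L2 hA hAS hZ (hC.le u.2) (hn u.2) (hsq u u.2) fun a ha => by
      rw [← hχ.ker _ (c1 u u.2 a ha), ← hη u a ha, hu]
  have h4 : ∀ u ∈ C, ∀ v ∈ C, u ∉ A → v ∉ A → u * v ∈ A := fun u hu v hv hu' hv' =>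
    h3 ⟨u * v, mul_mem hu hv⟩ fun w => by
      have e1 := (key ⟨u, hu⟩).resolve_left (fun e => hu' (h3 _ e)) w
      have e2 := (key ⟨v, hv⟩).resolve_left (fun e => hv' (h3 _ e)) w
      have e3 := hχ.comm_add_left c1 c2 (hs1 w) u hu v hv
      exact e3.trans ((congrArg₂ (· + ·) e1 e2).trans (CharTwo.add_self_eq_zero w))
  obtain ⟨u, hu, huA⟩ := SetLike.exists_of_lt hC.lt
  have h5 := mem_sup_cent_of_coprime (A := zpowers k) (N := A) (K := C) (zpowers_le.2 hkA) hAC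
    (pg_coprime Nat.prime_two (pg_le h.pg hAS) (by
      rw [Nat.card_zpowers]; exact h.odd_k.not_two_dvd_nat)).symm
    (Or.inr (sol_of_abelian hA)) hu fun g hg => by
      have e : ⁅u, g⁆ = u * (g * u⁻¹ * g⁻¹) := by rw [commutatorElement_def]; group
      rw [e]
      refine h4 u hu _ (conj_mem_of_norm (zpowers_le.2 hC.kn hg) (inv_mem hu)) huA fun e => huA ?_
      simpa [mul_assoc] using inv_mem (conj_mem_of_norm' (zpowers_le.2 hkA hg) e)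
  rw [cent_zpowers, eq_bot_mono h.fpf (inf_le_inf_right _ hC.le), sup_bot_eq] at h5
  exact huA h5

end HK

namespace HK

variable {S Z : Subgroup G} {k : G} (h : HK F S Z k)
include h

theorem exists_maxab : ∃ A, MaxAb S Z k A := by
  obtain ⟨A, hZA, ⟨h1, h2, h3, h4⟩, hmax⟩ := exists_maximal_ge_of_wellFoundedGT
    (fun A : Subgroup G => IsMulCommutative A ∧ A ≤ S ∧ S ≤ N_(A) ∧ k ∈ N_(A)) Z
    ⟨h.Z_ab, h.Z_le_S, h.S_norm_Z, h.knZ⟩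
  exact ⟨A, h1, hZA, h2, h3, h4, fun C hC hab =>
    hC.lt.not_ge (hmax ⟨hab, hC.le, hC.Sn, hC.kn⟩ hC.lt.le)⟩

theorem sq_cent {g c : G} (hg : g ∈ S) (hc : ⁅g, c⁆ ∈ Z) : ⁅g * g, c⁆ = 1 := by
  rw [comm_sq_left, h.comm_Z hg hc, h.Z_sq hc, one_mul]

theorem pw_le_Z {A : Subgroup G} (hA : A ≤ S) (h4 : ∀ a ∈ A, a ^ 2 ^ 2 = 1) : pw A 2 ≤ Z :=
  pw2_le_iff.2 fun a ha => (h.mem _).2 ⟨hA (mul_mem ha ha), by
    rw [← h4 a ha, ← pow_two, ← pow_two, ← pow_mul]; rfl⟩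

theorem le_Z_of_pw {A : Subgroup G} (hA : A ≤ S) (h2 : pw A 2 = ⊥) : A ≤ Z := fun _ ha =>
  (h.mem _).2 ⟨hA ha, mem_bot.1 (h2 ▸ sq_mem_pw ha)⟩

variable {l : F} {p : G → F} (hp : Co k Z ⊥ l p) (hl : Pr l)
include hp hl

section

variable {A : Subgroup G} (hA : MaxAb S Z k A)
include hA

theorem cov_cases {C : Subgroup G} (hC : Cov S k A C) :
    ((∀ u ∈ C, u * u ∈ pw A 2) ∧ pw A 2 ≤ Z) ∨ pw A 2 = ⊥ := by
  by_cases hs : ∀ u ∈ C, u * u ∈ pw A 2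
  · exact Or.inl ⟨hs, h.pw_le_Z hA.le (h.L3 hp hl hA.ab hA.kn hA.Sn hA.Zle hC hs)⟩
  push Not at hs
  obtain ⟨u, hu, hu2⟩ := hs
  rcases h.L1 hA.ab hA.le hA.kn (commutator_le.2 fun x hx y hy => hC.comm x (hC.le hx) y hy)
    (kn_comm hC.kn hC.kn) with e | e
  · exact Or.inr (h.L8 hp hl hA.ab hA.kn hA.Sn hC e.ge)
  · exact absurd (h.L7 hp hl hA.ab hA.kn hC hu hu2 e) (hA.max C hC)

/-- Higman's Lemma 9. -/
theorem L9 : ∀ g ∈ S, g * g ∈ A := by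
  rw [← pw2_le_iff]
  by_contra hne
  obtain ⟨C, hCY, hC⟩ := exists_cov h.pg h.kn (left_lt_sup.2 hne) (sup_le hA.le (pw_le _ _)) hA.Sn
    hA.kn (norm_sup hA.Sn fun g hg => norm_pw (le_norm S hg) 2) (kn_sup hA.kn (norm_pw h.kn 2))
  rcases h.cov_cases hp hl hA hC with ⟨h1, h2⟩ | h1
  · have h3 : A ⊔ pw S 2 ≤ C_(A) := sup_le (abelian_iff.1 hA.ab) (pw2_le_iff.2 fun g hg =>
      mem_cent.2 fun a ha => (commutatorElement_eq_one_iff_mul_comm.1 (h.sq_cent hg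
        (h2 (h.comm_pw hA.ab hA.le hA.kn le_rfl h.kn hA.Sn hg ha)))).symm)
    obtain ⟨u, hu, huA⟩ := SetLike.exists_of_lt hC.lt
    exact huA (h.L2 hA.ab hA.le hA.Zle (hC.le hu) (hA.Sn (hC.le hu)) (h1 u hu) fun a ha => by
      rw [commutatorElement_eq_one_iff_mul_comm.2 (mem_cent.1 (h3 (hCY hu)) a ha).symm]
      exact one_mem _)
  · have h2 := h.le_Z_of_pw hA.le h1
    refine hA.max C hC (abelian_iff.2 (hCY.trans (sup_le (h2.trans (h.Z_cent.trans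
      (cent_anti hC.le))) (pw2_le_iff.2 fun g hg => mem_cent.2 fun c hc => ?_))))
    exact (commutatorElement_eq_one_iff_mul_comm.1 (h.sq_cent hg (h2 (hC.comm g hg c hc)))).symm

theorem le_of_cov {R : Subgroup G} (h1 : A ≤ R) (h2 : ∀ C, Cov S k A C → C ≤ R) : S ≤ R := by
  let T := A ⊔ sSup {C | Cov S k A C}
  have hT : T ≤ S := sup_le hA.le (sSup_le fun C hC => hC.le)
  have hkT : k ∈ N_(T) := kn_sup hA.kn (mem_norm_of_cj_le (by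
    rw [cj_le_iff]
    exact sSup_le fun C hC x hx => mem_cj_inv.2 (le_sSup hC (conj_mem_of_norm hC.kn hx))))
  obtain ⟨T', h3, h4, h5, h6, h7⟩ := maschke_mod (h.L9 hp hl hA) le_sup_left hT hA.kn hkT h.kn
    h.odd_k
  rcases h3.eq_or_lt with e | e
  · rw [← h6, ← e]
    exact sup_le (sup_le h1 (sSup_le h2)) h1
  · obtain ⟨C, hCY, hC⟩ := exists_cov h.pg h.kn e h4 hA.Sn hA.kn
      (le_norm_of_sq (h.L9 hp hl hA) h3 h4) h7
    exact absurd (h5 ▸ le_inf (le_sup_of_le_right (le_sSup hC)) hCY) hC.lt.not_ge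

theorem Dform (hZ : pw A 2 = Z) {ψ : G → F} (hψ : Co k A Z l ψ) {C : Subgroup G}
    (hC : Cov S k A C) : ∃ (μ : F) (π : G → F) (c : F) (α γ : F ≃+* F), Co k C A μ π ∧ c ≠ 0 ∧
      α ≠ 1 ∧ (∀ a, ∃ x ∈ C, π x = a) ∧
      ∀ a ∈ A, ∀ x ∈ C, p ⁅a, x⁆ = c * (α (ψ a) * γ (π x)) := by
  have hsq : ∀ u ∈ C, u * u ∈ Z := hZ ▸
    ((h.cov_cases hp hl hA hC).resolve_right (hZ ▸ h.Z_ne)).1
  obtain ⟨μ, π, hπ⟩ := h.co_cov hC hA.kn
  obtain ⟨M, h1, h2, h3, h4, h5⟩ := maschke_mod hsq hA.Zle hC.lt.le h.knZ hA.kn hC.kn h.odd_k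
  have hπ' := hπ.restrict h2 h5
  rw [h3] at hπ'
  obtain ⟨x, hx, hxZ⟩ : ∃ x ∈ M, x ∉ Z := by
    by_contra hcon
    push Not at hcon
    exact hC.lt.not_ge (h4 ▸ sup_le le_rfl (le_trans hcon hA.Zle))
  have cz : ∀ g ∈ S, ∀ z ∈ Z, ⁅g, z⁆ ∈ (⊥ : Subgroup G) := fun g hg z hz => h.comm_Z hg hz
  obtain ⟨σ, τ, hστ⟩ := hπ'.QL hp (fun x hx => hsq x (h2 hx))
    (fun g hg => cz g (hC.le (h2 hg))) (fun g hg => cz g (hC.le (h2 hg))) (fun b hb => h.Z_sq hb) hx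
    fun e => hxZ ((h.mem x).2 ⟨hC.le (h2 hx), e⟩)
  have hμ := hl.of_mul hστ
  have c1 : ∀ a ∈ A, ∀ x ∈ C, ⁅a, x⁆ ∈ Z := fun a ha x hx => comm_symm_mem
    (hZ ▸ h.comm_pw hA.ab hA.le hA.kn le_rfl h.kn hA.Sn (hC.le hx) ha)
  obtain ⟨c, h6, h7⟩ := hψ.comm_expand hπ hp c1 (fun g hg => cz g (hA.le hg))
    (fun g hg => cz g (hC.le hg)) (fun b hb y hy => comm_symm_mem (cz y (hC.le hy) b hb))
    fun x hx b hb => comm_eq_one_of_ab hA.ab hx hb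
  obtain ⟨c₀, α, γ, h8, h9⟩ := single_term h6 fun p p' e e' => by
    rw [← hστ] at e e'
    exact Prod.ext (hμ.U h.big e e').1 (hμ.U h.big e e').2
  have hc₀ : c₀ ≠ 0 := by
    rintro rfl
    obtain ⟨u, hu, huA⟩ := SetLike.exists_of_lt hC.lt
    refine huA (h.L2 hA.ab hA.le hA.Zle (hC.le hu) (hA.Sn (hC.le hu)) (hZ ▸ hsq u hu)
      fun a ha => comm_symm_mem ?_)
    rw [mem_bot.1 ((hp.ker _ (c1 a ha u hu)).1 (by rw [h7 a ha u hu, h9, zero_mul]))]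
    exact one_mem _
  refine ⟨μ, π, c₀, α, γ, hπ, hc₀, ?_, surj h.big hπ hμ hC.lt.not_ge,
    fun a ha x hx => by rw [h7 a ha x hx, h9]⟩
  rintro rfl
  have := h8 hc₀
  rw [RingAut.one_apply, mul_eq_left₀ hl.1] at this
  exact hμ.ne_one h.big (by simpa using this)

theorem H10 (hZ : pw A 2 = Z) {C C' : Subgroup G} (hC : Cov S k A C) (hC' : Cov S k A C') {x y : G}
    (hx : x ∈ C) (hy : y ∈ C') : ⁅x, y⁆ ∈ Z := by
  by_contra hne
  obtain ⟨ψ, hψ⟩ := h.co_ab' hp hA.ab hA.le hA.kn (ne_bot_mono h.Z_ne hA.Zle)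
  rw [hZ] at hψ
  have hsq : ∀ {C}, Cov S k A C → ∀ u ∈ C, u * u ∈ Z := fun hC => hZ ▸
    ((h.cov_cases hp hl hA hC).resolve_right (hZ ▸ h.Z_ne)).1
  have c1 : ∀ g ∈ S, ∀ a ∈ A, ⁅g, a⁆ ∈ Z := fun g hg a ha =>
    hZ ▸ h.comm_pw hA.ab hA.le hA.kn le_rfl h.kn hA.Sn hg ha
  have c2 : ∀ x ∈ S, ∀ y ∈ S, ⁅x, y⁆ ∈ A := fun x hx y hy => comm_mem_of_sq (h.L9 hp hl hA) hx hy
  have key : ∀ {C C' : Subgroup G} {μ μ' c c' : F} {π π' : G → F} {α γ α' γ' : F ≃+* F},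
      Cov S k A C → Cov S k A C' → Co k C A μ π → c ≠ 0 → (∀ a, ∃ x ∈ C, π x = a) →
      (∀ a ∈ A, ∀ x ∈ C, p ⁅a, x⁆ = c * (α (ψ a) * γ (π x))) →
      (∀ a ∈ A, ∀ x ∈ C', p ⁅a, x⁆ = c' * (α' (ψ a) * γ' (π' x))) →
      ∀ x ∈ C, ∀ y ∈ C', ⁅x, y⁆ ∉ Z → Fr F * α = α' := by
    intro C C' μ μ' c c' π π' α γ α' γ' hC hC' hπ hc hs e e' x hx y hy hne
    choose s hs1 hs2 using hs
    have hadd : AddOn C fun x => ψ ⁅x, y⁆ :=
      (hψ.comm_add_left c2 c1 (hC'.le hy)).mono hC.le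
    have hdep : ∀ x ∈ C, ψ ⁅s (π x), y⁆ = ψ ⁅x, y⁆ := fun x hx =>
      hπ.dep hadd (fun b hb => hψ.zero (comm_symm_mem (c1 y (hC'.le hy) b hb))) (hs1 _) hx (hs2 _)
    refine H10alg (β := fun v => ψ ⁅s v, y⁆) (x₀ := π x) (c := c) (c' := c' * γ' (π' y)) (γ := γ)
      (fun v => ?_) ?_ hc fun v => ?_
    · have := hdep _ (mul_mem (hs1 v) (hs1 1))
      rw [hπ.add _ (hs1 v) _ (hs1 1), hs2, hs2] at this
      exact this.trans (hadd _ (hs1 v) _ (hs1 1))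
    · simp only [hdep x hx]
      exact fun e => hne ((hψ.ker _ (c2 x (hC.le hx) y (hC'.le hy))).1 e)
    · have hv := hs1 v
      have hw := h.L9 hp hl hA _ (mul_mem (hC.le hv) (hC'.le hy))
      have e1 := hψ.sq_mul (h.L9 hp hl hA) c1 (hC.le hv) (hC'.le hy)
      rw [hψ.zero (hsq hC _ hv), hψ.zero (hsq hC' _ hy), zero_add, zero_add] at e1
      have e2 := hp.comm_add_right (A := A) (A' := S) (fun a ha g hg => comm_symm_mem (c1 g hg a ha))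
        (fun g hg z hz => h.comm_Z hg hz) hw _ (hC.le hv) _ (hC'.le hy)
      beta_reduce at e2
      rw [commutatorElement_eq_one_iff_commute.2 ((Commute.refl _).mul_left (Commute.refl _)),
        hp.add.one, e _ hw _ hv, e' _ hw _ hy, e1, hs2] at e2
      rw [eq_of_add_eq_zero e2.symm]; ring
  obtain ⟨μ, π, c, α, γ, hπ, hc, hα, hs, e⟩ := h.Dform hp hl hA hZ hψ hC
  obtain ⟨μ', π', c', α', γ', hπ', hc', hα', hs', e'⟩ := h.Dform hp hl hA hZ hψ hC'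
  have e1 := key (μ' := μ') hC hC' hπ hc hs e e' x hx y hy hne
  have e2 := key (μ' := μ) hC' hC hπ' hc' hs' e' e y hy x hx fun e => hne (comm_symm_mem e)
  have e3 : Fr F * Fr F = 1 := by
    apply mul_right_cancel (b := α); rw [mul_assoc, e1, e2, one_mul]
  rw [(fin_aut e3 α).resolve_left hα, e3] at e1
  exact hα' e1.symm

end

omit hp hl in
theorem sq_mem_Z (hna : ¬ IsMulCommutative S) : ∀ g ∈ S, g * g ∈ Z := by
  obtain ⟨l, p, hp, hl⟩ := h.exists_coZ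
  obtain ⟨A, hA⟩ := h.exists_maxab
  by_cases h0 : pw A 2 = ⊥
  · exact fun g hg => h.le_Z_of_pw hA.le h0 (h.L9 hp hl hA g hg)
  obtain ⟨C₀, -, hC₀⟩ := exists_cov h.pg h.kn (hA.le.lt_of_ne fun e => hna (e ▸ hA.ab)) le_rfl hA.Sn
    hA.kn (le_norm S) h.kn
  have hZ : pw A 2 = Z := le_antisymm ((h.cov_cases hp hl hA hC₀).resolve_right h0).2
    (h.Z_le ((pw_le _ _).trans hA.le) (norm_pw hA.kn 2) h0)
  have c1 : ∀ g ∈ S, ∀ a ∈ A, ⁅g, a⁆ ∈ Z := fun g hg a ha =>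
    hZ ▸ h.comm_pw hA.ab hA.le hA.kn le_rfl h.kn hA.Sn hg ha
  let R : G → Subgroup G := fun x =>
    { carrier := {g | g ∈ S ∧ ⁅g, x⁆ ∈ Z}
      one_mem' := ⟨one_mem _, by simp⟩
      mul_mem' := fun {g g'} hg hg' => ⟨mul_mem hg.1 hg'.1, by
        have : ⁅g * g', x⁆ = g * ⁅g', x⁆ * g⁻¹ * ⁅g, x⁆ := by
          simp only [commutatorElement_def]; group
        rw [this]; exact mul_mem (conj_mem_of_norm (h.S_norm_Z hg.1) hg'.2) hg.2⟩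
      inv_mem' := fun {g} hg => ⟨inv_mem hg.1, by
        have : ⁅g⁻¹, x⁆ = g⁻¹ * ⁅g, x⁆⁻¹ * g := by simp only [commutatorElement_def]; group
        rw [this]; exact conj_mem_of_norm' (h.S_norm_Z hg.1) (inv_mem hg.2)⟩ }
  have h1 : ∀ C, Cov S k A C → ∀ x ∈ C, S ≤ R x := fun C hC x hx =>
    h.le_of_cov hp hl hA (fun a ha => ⟨hA.le ha, comm_symm_mem (c1 x (hC.le hx) a ha)⟩)
      fun C' hC' y hy => ⟨hC'.le hy, h.H10 hp hl hA hZ hC' hC hy hx⟩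
  have h2 : ∀ x ∈ S, S ≤ R x := fun x hx =>
    h.le_of_cov hp hl hA (fun a ha => ⟨hA.le ha, comm_symm_mem (c1 x hx a ha)⟩)
      fun C hC y hy => ⟨hC.le hy, comm_symm_mem (h1 C hC y hy hx).2⟩
  let R' : Subgroup G :=
    { carrier := {g | g ∈ S ∧ g * g ∈ Z}
      one_mem' := ⟨one_mem _, by simp⟩
      mul_mem' := fun {x y} hx hy => ⟨mul_mem hx.1 hy.1, by
        have : x * y * (x * y) = x * x * ⁅x⁻¹, y⁆ * (y * y) := by
          simp only [commutatorElement_def]; group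
        rw [this]
        exact mul_mem (mul_mem hx.2 (h2 y hy.1 (inv_mem hx.1)).2) hy.2⟩
      inv_mem' := fun {x} hx => ⟨inv_mem hx.1, by rw [← mul_inv_rev]; exact inv_mem hx.2⟩ }
  exact fun g hg => (h.le_of_cov hp hl hA (R := R') (fun a ha => ⟨hA.le ha, hZ ▸ sq_mem_pw ha⟩)
    (fun C hC y hy => ⟨hC.le hy, hZ ▸ ((h.cov_cases hp hl hA hC).resolve_right h0).1 y hy⟩) hg).2

omit hp hl in
theorem center_eq (hna : ¬ IsMulCommutative S) : S ⊓ C_(S) = Z := by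
  have hZ : Z ≤ S ⊓ C_(S) := le_inf h.Z_le_S h.Z_cent
  refine le_antisymm (h.le_Z_of_pw inf_le_left ?_) hZ
  by_contra h0
  have hk : k ∈ N_(S ⊓ C_(S)) := kn_inf h.kn (norm_le_norm_cent S h.kn)
  have h1 := h.Z_le ((pw_le _ _).trans inf_le_left) (norm_pw hk 2) h0
  refine hna (abelian_iff.2 fun u hu => (h.L2 (abelian_center S) inf_le_left hZ hu
    (le_norm_inf_cent (le_norm S) hu) (h1 (h.sq_mem_Z hna u hu)) fun a ha => ?_).2)
  rw [commutatorElement_eq_one_iff_mul_comm.2 (ha.2 u hu)]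
  exact one_mem _

end HK

end H21.SH
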