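import Mathlib

/-!
Linear algebra for symmetric local algebras with five-dimensional centre (namespace H21.SL5):
`descend` (rank one layers are symmetric), `twisted` (three-dimensional twisted algebras),
`singular` (spaces of singular maps).
-/

set_option autoImplicit false
set_option linter.unusedSectionVars false
set_option linter.unusedVariables false

namespace H21.SL5
open Module Submodule

variable {k : Type*} [Field k]

theorem descend {A : Type*} [Ring A] [Algebra k A] (J : Submodule k A) (l m : A →ₗ[k] k)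
    {a₀ b₀ : A} (ha : a₀ ∈ J) (hb : b₀ ∈ J) (hl : l a₀ = 1) (hm : m b₀ = 1) :
    ∀ (j : ℕ) (f : A →ₗ[k] k), (∀ a ∈ J, ∀ b ∈ J, ∀ x ∈ J ^ j, l a * f (x * b) = f (a * x) * m b) →
      (∀ a ∈ J, l a = m a) ∨ ∀ x ∈ J ^ (j + 1), f x = 0 := by
  intro j
  induction j with
  | zero =>
    intro f h
    have h1 : ∀ a ∈ J, ∀ b ∈ J, l a * f b = f a * m b := fun a ha b hb => by
      simpa using h a ha b hb 1 (by rw [pow_zero]; exact Submodule.one_le.1 le_rfl)
    by_cases h0 : f b₀ = 0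
    · right
      intro x hx
      rw [zero_add, pow_one] at hx
      have := h1 x hx b₀ hb
      rw [h0, hm] at this
      simpa using this.symm
    · left
      intro a ha'
      have e1 := h1 a ha' b₀ hb
      have e2 := h1 a₀ ha a ha'
      have e3 := h1 a₀ ha b₀ hb
      rw [hm] at e1 e3
      rw [hl] at e2 e3
      apply mul_right_cancel₀ h0
      linear_combination e1 + e2 - m a * e3
  | succ j ih =>
    intro f h
    let g : A →ₗ[k] k := f ∘ₗ LinearMap.mulRight k b₀
    have hg : ∀ x, g x = f (x * b₀) := fun x => rfl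
    have e1 : ∀ a ∈ J, ∀ x ∈ J ^ (j + 1), f (a * x) = l a * g x := fun a ha' x hx => by
      have := h a ha' b₀ hb x hx
      rw [hm, mul_one] at this
      rw [hg, this]
    have e2 : ∀ b ∈ J, ∀ x ∈ J ^ (j + 1), f (x * b) = g x * m b := fun b hb' x hx => by
      have := h a₀ ha b hb' x hx
      rw [hl, one_mul, e1 a₀ ha x hx, hl, one_mul] at this
      exact this
    rcases ih g (fun a ha' b hb' x hx => by
      rw [← e1 a ha' _ (by rw [pow_succ]; exact mul_mem_mul hx hb'), ← mul_assoc,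
        e2 b hb' _ (by rw [pow_succ']; exact mul_mem_mul ha' hx)]) with h1 | h1
    · exact Or.inl h1
    · right
      intro x hx
      rw [pow_succ] at hx
      refine Submodule.mul_induction_on hx (fun y hy b hb' => ?_) fun y z hy hz => ?_
      · rw [e2 b hb' y hy, h1 y hy, zero_mul]
      · rw [map_add, hy, hz, add_zero]

/-- a one-dimensional layer followed by a nonzero layer has no commutators -/
theorem comm_mem_of_layer {A : Type*} [Ring A] [Algebra k A] {J U U' : Submodule k A} {j : ℕ}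
    {w : A} (h1 : J ^ (j + 1) ≤ U ⊔ k ∙ w) (hl : ∀ a ∈ J, ∀ x ∈ U, a * x ∈ U')
    (hr : ∀ a ∈ J, ∀ x ∈ U, x * a ∈ U') (h2 : ¬ J ^ (j + 2) ≤ U') {a x : A} (ha : a ∈ J)
    (hx : x ∈ J ^ j) : a * x - x * a ∈ U := by
  have hax : a * x ∈ J ^ (j + 1) := by rw [pow_succ']; exact mul_mem_mul ha hx
  have hxa : x * a ∈ J ^ (j + 1) := by rw [pow_succ]; exact mul_mem_mul hx ha
  by_cases hw : w ∈ U
  · rw [sup_eq_left.2 ((span_singleton_le_iff_mem _ _).2 hw)] at h1
    exact sub_mem (h1 hax) (h1 hxa)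
  obtain ⟨f', f1, f2⟩ := Submodule.exists_le_ker_of_notMem hw
  let f : A →ₗ[k] k := (f' w)⁻¹ • f'
  have hf : ∀ y ∈ J ^ (j + 1), y - f y • w ∈ U := by
    intro y hy
    obtain ⟨u, hu, _, hv, rfl⟩ := mem_sup.1 (h1 hy)
    obtain ⟨t, rfl⟩ := mem_span_singleton.1 hv
    have : f (u + t • w) = t := by
      simp only [f, LinearMap.smul_apply, map_add, map_smul, smul_eq_mul, f2 hu,
        show f' u = 0 from f2 hu]
      field_simp
      ring
    rw [this, add_sub_cancel_right]; exact hu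
  obtain ⟨z, z1, z2⟩ := SetLike.not_le_iff_exists.1 h2
  obtain ⟨g, g1, g2⟩ := Submodule.exists_le_ker_of_notMem z2
  have gl : ∀ a ∈ J, ∀ y ∈ J ^ (j + 1), g (a * y) = g (a * w) * f y := fun a ha y hy => by
    have : g _ = 0 := g2 (hl a ha _ (hf y hy))
    rw [mul_sub, map_sub, mul_smul_comm, map_smul, smul_eq_mul] at this
    linear_combination this
  have gr : ∀ a ∈ J, ∀ y ∈ J ^ (j + 1), g (y * a) = f y * g (w * a) := fun a ha y hy => by
    have : g _ = 0 := g2 (hr a ha _ (hf y hy))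
    rw [sub_mul, map_sub, smul_mul_assoc, map_smul, smul_eq_mul] at this
    linear_combination this
  obtain ⟨a₁, a1, a2⟩ : ∃ a ∈ J, g (a * w) ≠ 0 := by
    by_contra! e
    refine g1 ?_
    rw [pow_succ'] at z1
    refine Submodule.mul_induction_on z1 (fun b hb y hy => ?_) fun y z hy hz => ?_
    · rw [gl b hb y hy, e b hb, zero_mul]
    · rw [map_add, hy, hz, add_zero]
  obtain ⟨b₁, b1, b2⟩ : ∃ a ∈ J, g (w * a) ≠ 0 := by
    by_contra! e
    refine g1 ?_
    rw [pow_succ] at z1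
    refine Submodule.mul_induction_on z1 (fun y hy b hb => ?_) fun y z hy hz => ?_
    · rw [gr b hb y hy, e b hb, mul_zero]
    · rw [map_add, hy, hz, add_zero]
  let l : A →ₗ[k] k := g ∘ₗ LinearMap.mulRight k w
  let m : A →ₗ[k] k := g ∘ₗ LinearMap.mulLeft k w
  have hlm : ∀ a ∈ J, ∀ b ∈ J, ∀ x ∈ J ^ j, l a * f (x * b) = f (a * x) * m b := by
    intro a ha b hb x hx
    have e1 := gl a ha (x * b) (by rw [pow_succ]; exact mul_mem_mul hx hb)
    have e2 := gr b hb (a * x) (by rw [pow_succ']; exact mul_mem_mul ha hx)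
    rw [mul_assoc] at e2
    exact e1.symm.trans e2
  have hl0 : l ((l a₁)⁻¹ • a₁) = 1 := by rw [map_smul, smul_eq_mul]; exact inv_mul_cancel₀ a2
  have hm0 : m ((m b₁)⁻¹ • b₁) = 1 := by rw [map_smul, smul_eq_mul]; exact inv_mul_cancel₀ b2
  have key : f (a * x) = f (x * a) := by
    rcases descend J l m (J.smul_mem _ a1) (J.smul_mem _ b1) hl0 hm0 j f hlm with e | e
    · have e1 := hlm a ha _ (J.smul_mem (m b₁)⁻¹ b1) x hx
      have e2 := hlm _ (J.smul_mem (l a₁)⁻¹ a1) a ha x hx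
      have e3 := hlm _ (J.smul_mem (l a₁)⁻¹ a1) _ (J.smul_mem (m b₁)⁻¹ b1) x hx
      rw [hm0] at e1 e3
      rw [hl0] at e2 e3
      rw [e a ha] at e1
      linear_combination -e1 - e2 + m a * e3
    · rw [e _ hax, e _ hxa]
  have := sub_mem (hf _ hax) (hf _ hxa)
  rwa [key, sub_sub_sub_cancel_right] at this

section twisted
variable {V : Type*} [AddCommGroup V] [Module k V] [FiniteDimensional k V]

theorem exists_char [IsAlgClosed k] (h3 : finrank k V = 3) (c : V →ₗ[k] V →ₗ[k] V) {a : V}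
    (ha : ∀ w, c a w = w) (hσ : ∀ u, c u a = 0 → u = 0)
    (hc : ∀ u v w, c (c u v) w = c (c u a) (c v w)) :
    ∃ χ : V →ₗ[k] k, χ a = 1 ∧ ∀ u v, χ (c u v) = χ (c u a) * χ v := by
  have hσs : Function.Surjective (c.flip a) := LinearMap.injective_iff_surjective.1
    ((injective_iff_map_eq_zero _).2 hσ)
  haveI : Nontrivial V := Module.nontrivial_of_finrank_pos (R := k) (by omega)
  obtain ⟨x, hx⟩ : ∃ x, x ∉ (k ∙ a : Submodule k V) := by
    by_contra! e
    have h1 : (k ∙ a : Submodule k V) = ⊤ := eq_top_iff.2 fun x _ => e x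
    have h2 := finrank_span_le_card (R := k) ({a} : Set V)
    rw [h1, finrank_top] at h2
    simp at h2
    omega
  obtain ⟨t, ht⟩ := Module.End.exists_eigenvalue (c x)
  obtain ⟨y, hy⟩ := ht.exists_hasEigenvector
  set v := x - t • a with hv
  have hv0 : v ≠ 0 := fun e => hx (mem_span_singleton.2 ⟨t, (sub_eq_zero.1 e).symm⟩)
  have hvy : c v y = 0 := by
    rw [hv, map_sub, LinearMap.sub_apply, map_smul, LinearMap.smul_apply, ha,
      hy.apply_eq_smul, sub_self]
  let S := LinearMap.range (c.flip (c v a))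
  have hS : ∀ u, ∀ s ∈ S, c u s ∈ S := by
    rintro u _ ⟨u', rfl⟩
    obtain ⟨u'', rfl⟩ := hσs u
    exact ⟨c u'' u', hc _ _ _⟩
  have hS0 : c v a ∈ S := ⟨a, ha _⟩
  have hva : c v a ≠ 0 := fun e => hv0 (hσ v e)
  have hS1 : a ∉ S := by
    rintro ⟨u, hu⟩
    obtain ⟨u', rfl⟩ := hσs u
    have e1 : c (c u' v - a) a = 0 := by
      rw [map_sub, LinearMap.sub_apply, hc, ha]
      exact sub_eq_zero.2 hu
    have e2 := hc u' v y
    rw [sub_eq_zero.1 (hσ _ e1), ha, hvy, map_zero] at e2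
    exact hy.2 e2
  have hlt : finrank k S < 3 := by
    rw [← h3]; exact finrank_lt fun e => hS1 (e ▸ mem_top)
  have hpos : 0 < finrank k S := by
    rw [pos_iff_ne_zero, Ne, Submodule.finrank_eq_zero]
    exact fun e => hva ((mem_bot k).1 (e ▸ hS0))
  rcases (show finrank k S = 1 ∨ finrank k S = 2 by omega) with h1 | h1
  · obtain ⟨φ', φ1, -⟩ := Submodule.exists_le_ker_of_notMem (p := ⊥)
      (fun e => hva ((mem_bot k).1 e))
    set s := c v a
    let χ : V →ₗ[k] k := (φ' s)⁻¹ • (φ' ∘ₗ c.flip s)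
    have hχ : ∀ u, c u s = χ u • s := by
      intro u
      obtain ⟨r, hr⟩ := (finrank_eq_one_iff_of_nonzero' (⟨s, hS0⟩ : S)
        (fun e => hva (congrArg Subtype.val e))).1 h1 ⟨_, hS u s hS0⟩
      have hr' : r • s = c u s := congrArg Subtype.val hr
      simp only [χ, LinearMap.smul_apply, LinearMap.comp_apply, LinearMap.flip_apply, ← hr',
        map_smul, smul_eq_mul]
      congr 1
      field_simp
    refine ⟨χ, ?_, fun u w => ?_⟩
    · apply smul_left_injective k hva
      simp only [← hχ, ha, one_smul]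
    · apply smul_left_injective k hva
      simp only
      rw [← hχ, hc, hχ w, map_smul, hχ, smul_smul, mul_comm]
  · have hT : S ⊔ k ∙ a = ⊤ := by
      apply eq_top_of_finrank_eq
      have := Submodule.finrank_lt_finrank_of_lt (s := S) (t := S ⊔ k ∙ a)
        (lt_of_le_of_ne le_sup_left fun e => hS1 (e ▸ mem_sup_right (mem_span_singleton_self a)))
      have := Submodule.finrank_le (S ⊔ k ∙ a)
      omega
    obtain ⟨φ', φ1, φ2⟩ := Submodule.exists_le_ker_of_notMem hS1
    let φ : V →ₗ[k] k := (φ' a)⁻¹ • φ'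
    have φa : φ a = 1 := by simp [φ, φ1]
    have φS : ∀ s ∈ S, φ s = 0 := fun s hs => by simp [φ, show φ' s = 0 from φ2 hs]
    have hφ : ∀ u w, φ (c u w) = φ (c u a) * φ w := by
      intro u w
      obtain ⟨s, hs, _, hr, rfl⟩ := mem_sup.1 (hT ▸ mem_top (x := w))
      obtain ⟨r, rfl⟩ := mem_span_singleton.1 hr
      simp only [map_add, map_smul, φS s hs, φS _ (hS u s hs), φa, smul_eq_mul]
      ring
    refine ⟨φ ∘ₗ c.flip a, by simp [ha, φa], fun u w => ?_⟩
    simp only [LinearMap.comp_apply, LinearMap.flip_apply]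
    rw [hc, hφ]

theorem twisted [IsAlgClosed k] (h3 : finrank k V = 3) (c : V →ₗ[k] V →ₗ[k] V) {a : V}
    (ha : ∀ w, c a w = w) (hσ : ∀ u, c u a = 0 → u = 0)
    (hc : ∀ u v w, c (c u v) w = c (c u a) (c v w)) :
    (∃ τ : V →ₗ[k] k, τ ≠ 0 ∧ ∀ u v, τ (c u v) = τ (c v u)) ∨
      ∃ τ : V →ₗ[k] k, τ ≠ 0 ∧ ∀ u w, τ (c (c u a) w) = τ (c w u) := by
  obtain ⟨χ, χ1, χ2⟩ := exists_char h3 c ha hσ hc
  set σ : Module.End k V := c.flip a with hσd
  have hσi : Function.Injective σ := (injective_iff_map_eq_zero _).2 hσ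
  have hσs : Function.Surjective σ := LinearMap.injective_iff_surjective.1 hσi
  have hσa : ∀ u, c u a = σ u := fun u => rfl
  let X : ℕ → V →ₗ[k] k := fun j => χ ∘ₗ (σ ^ j)
  have X1 : ∀ j u, X (j + 1) u = X j (σ u) := fun j u => by simp [X, pow_succ]
  have Xa : ∀ j, X j a = 1 := by
    intro j
    induction j with
    | zero => simpa [X] using χ1
    | succ j ih => rw [X1, ← hσa, ha, ih]
  have Xc : ∀ j u v, X j (c u v) = X (j + 1) u * X j v := by
    intro j
    induction j with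
    | zero => intro u v; simpa [X, ← hσa] using χ2 u v
    | succ j ih => intro u v; rw [X1, ← hσa, hc, ih, hσa, hσa, ← X1, ← X1]
  have Xinj : ∀ i j, X (i + 1) = X (j + 1) → X i = X j := by
    intro i j e
    ext u
    obtain ⟨u, rfl⟩ := hσs u
    rw [← X1, ← X1, e]
  by_cases h1 : X 1 = X 0
  · refine Or.inl ⟨X 0, fun e => ?_, fun u v => ?_⟩
    · simpa [e] using Xa 0
    · rw [Xc, Xc, h1, mul_comm]
  by_cases h2 : X 2 = X 0
  · refine Or.inl ⟨X 0 + X 1, fun e => h1 ?_, fun u v => ?_⟩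
    · have e1 : ∀ u, X 0 u + X 1 u = 0 := fun u => LinearMap.congr_fun e u
      have e2 := e1 a
      rw [Xa, Xa] at e2
      ext u
      linear_combination e1 u - X 0 u * e2
    · simp only [LinearMap.add_apply, Xc, h2, zero_add, Nat.reduceAdd]
      ring
  right
  let e : V ≃ₗ[k] V := LinearEquiv.ofBijective σ ⟨hσi, hσs⟩
  have he : ∀ u, σ (e.symm u) = u := fun u => e.apply_symm_apply u
  let E : Submonoid (Module.End k V) :=
    { carrier := Set.range c
      one_mem' := ⟨a, LinearMap.ext ha⟩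
      mul_mem' := by
        rintro _ _ ⟨u, rfl⟩ ⟨v, rfl⟩
        refine ⟨c (e.symm u) v, LinearMap.ext fun w => ?_⟩
        rw [hc, hσa, he]; rfl }
  let Y : ℕ → E →* k := fun j =>
    { toFun := fun z => X j (e.symm ((z : Module.End k V) a))
      map_one' := by
        have : e.symm a = a := e.symm_apply_eq.2 (ha a).symm
        simp [this, Xa]
      map_mul' := by
        rintro ⟨_, u, rfl⟩ ⟨_, v, rfl⟩
        have e1 : ∀ u, e.symm (c u a) = u := fun u => e.symm_apply_apply u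
        have e2 : c u (c v a) = c (c (e.symm u) v) a := by rw [hc, hσa (e.symm u), he]
        change X j (e.symm (c u (c v a))) = X j (e.symm (c u a)) * X j (e.symm (c v a))
        rw [e2, e1, e1, e1, Xc, X1, he] }
  have YX : ∀ j u, Y j ⟨c u, u, rfl⟩ = X j u := fun j u =>
    congrArg (X j) (e.symm_apply_apply u)
  have hind : ∀ (n : ℕ), (Function.Injective fun i : Fin n => X i) →
      LinearIndependent k fun i : Fin n => X i := by
    intro n hn
    have := (linearIndependent_monoidHom E k).comp (fun i : Fin n => Y i) (fun i j hij =>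
      hn (LinearMap.ext fun u => by
        simp only at hij
        rw [← YX, ← YX, hij]))
    rw [Fintype.linearIndependent_iff] at this ⊢
    intro g hg
    refine this g (funext fun z => ?_)
    have := LinearMap.congr_fun hg (e.symm ((z : Module.End k V) a))
    simpa [Y] using this
  have h12 : X 1 ≠ X 2 := fun e => h1 (Xinj 0 1 e).symm
  have h3' : X 3 = X 0 := by
    by_contra h3'
    have := (hind 4 (by
      have a1 : X 3 ≠ X 1 := fun e => h2 (Xinj 2 0 e)
      have a2 : X 3 ≠ X 2 := fun e => h12 (Xinj 2 1 e).symm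
      intro i j hij
      fin_cases i <;> fin_cases j <;> first | rfl | exact absurd hij h1 | exact absurd hij.symm h1 | exact absurd hij h2 | exact absurd hij.symm h2 | exact absurd hij h12 | exact absurd hij.symm h12 | exact absurd hij h3' | exact absurd hij.symm h3' | exact absurd hij a1 | exact absurd hij.symm a1 | exact absurd hij a2 | exact absurd hij.symm a2)).fintype_card_le_finrank
    rw [Subspace.dual_finrank_eq, h3] at this
    simp at this
  refine ⟨X 0 + X 1 + X 2, fun e => ?_, fun u w => ?_⟩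
  · have := Fintype.linearIndependent_iff.1 (hind 3 (by
      intro i j hij
      fin_cases i <;> fin_cases j <;> first | rfl | exact absurd hij h1 | exact absurd hij.symm h1 | exact absurd hij h2 | exact absurd hij.symm h2 | exact absurd hij h12 | exact absurd hij.symm h12)) (fun _ => 1)
      (by simpa [Fin.sum_univ_three] using e) 0
    exact one_ne_zero this
  · have h4 : X 4 = X 1 := by ext u; rw [X1, h3', ← X1]
    simp only [LinearMap.add_apply, Xc, hσa, ← X1, zero_add, Nat.reduceAdd, h3', h4]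
    ring

end twisted

theorem cubic_zero [Infinite k] {c₀ c₁ c₂ c₃ : k}
    (h : ∀ t : k, c₀ + c₁ * t + c₂ * t ^ 2 + c₃ * t ^ 3 = 0) :
    c₀ = 0 ∧ c₁ = 0 ∧ c₂ = 0 ∧ c₃ = 0 := by
  have : (Polynomial.C c₀ + Polynomial.C c₁ * Polynomial.X + Polynomial.C c₂ * Polynomial.X ^ 2 +
      Polynomial.C c₃ * Polynomial.X ^ 3 : Polynomial k) = 0 :=
    Polynomial.funext fun t => by simpa using h t
  have e := fun n => congrArg (Polynomial.coeff · n) this
  have e0 := e 0
  have e1 := e 1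
  have e2 := e 2
  have e3 := e 3
  simp [Polynomial.coeff_X, Polynomial.coeff_C, Polynomial.coeff_X_pow] at e0 e1 e2 e3
  exact ⟨e0, e1, e2, e3⟩

section singular
variable {V W : Type*} [AddCommGroup V] [Module k V] [FiniteDimensional k V] [AddCommGroup W]
  [Module k W] [FiniteDimensional k W]

theorem lin_three [Infinite k] {γ ρ η : V →ₗ[k] k} {x y : V} (hx : γ x ≠ 0) (hy : ρ y ≠ 0)
    (h : ∀ v, γ v * ρ v * η v = 0) (v : V) : η v = 0 := by
  obtain ⟨w, w1, w2⟩ : ∃ w, γ w ≠ 0 ∧ ρ w ≠ 0 := by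
    by_cases h1 : ρ x = 0
    · by_cases h2 : γ y = 0
      · exact ⟨x + y, by simp [h2, hx], by simp [h1, hy]⟩
      · exact ⟨y, h2, hy⟩
    · exact ⟨x, hx, h1⟩
  have hw : η w = 0 := (mul_eq_zero.1 (h w)).resolve_left (mul_ne_zero w1 w2)
  have := cubic_zero (c₀ := γ v * ρ v * η v) (c₁ := (γ v * ρ w + γ w * ρ v) * η v)
    (c₂ := γ w * ρ w * η v) (c₃ := 0) fun t => by
      have := h (v + t • w)
      simp only [map_add, map_smul, smul_eq_mul, hw] at this
      linear_combination this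
  exact (mul_eq_zero.1 this.2.2.1).resolve_left (mul_ne_zero w1 w2)

theorem singular_two [Infinite k] (μ : V →ₗ[k] V →ₗ[k] W) (bV : Basis (Fin 3) k V)
    (bW : Basis (Fin 3) k W) {a₀ : V} (h0 : μ a₀ (bV 0) = bW 0) (h1 : μ a₀ (bV 1) = bW 1)
    (h2 : μ a₀ (bV 2) = 0) (hs : ∀ a, ¬ Function.Surjective (μ a))
    (hr : ∀ v, (∀ a, μ a v = 0) → v = 0) {b v₀ : V} (hb : bW.repr (μ b v₀) 2 ≠ 0) :
    (∃ θ : V →ₗ[k] V, Function.Surjective θ ∧ ∀ v, μ v (θ v) = 0) ∨
      ∃ (u₁ u₂ : V) (l : W), (∀ s t : k, s • u₁ + t • u₂ = 0 → s = 0 ∧ t = 0) ∧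
        ∀ a, μ a u₁ ∈ (k ∙ l : Submodule k W) ∧ μ a u₂ ∈ (k ∙ l : Submodule k W) := by
  let m : Fin 3 → Fin 3 → V →ₗ[k] k := fun i j => bW.coord i ∘ₗ μ.flip (bV j)
  have hm : ∀ i j a, m i j a = bW.repr (μ a (bV j)) i := fun i j a => rfl
  have hμ : ∀ a j, μ a (bV j) = m 0 j a • bW 0 + m 1 j a • bW 1 + m 2 j a • bW 2 := fun a j => by
    conv_lhs => rw [← bW.sum_repr (μ a (bV j)), Fin.sum_univ_three]
    rfl
  have hW : ∀ s t u : k, s = 0 → t = 0 → u = 0 → s • bW 0 + t • bW 1 + u • bW 2 = 0 := by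
    rintro _ _ _ rfl rfl rfl; simp
  have a00 : m 0 0 a₀ = 1 := by simp [hm, h0]
  have a10 : m 1 0 a₀ = 0 := by simp [hm, h0]
  have a20 : m 2 0 a₀ = 0 := by simp [hm, h0]
  have a01 : m 0 1 a₀ = 0 := by simp [hm, h1]
  have a11 : m 1 1 a₀ = 1 := by simp [hm, h1]
  have a21 : m 2 1 a₀ = 0 := by simp [hm, h1]
  have a02 : m 0 2 a₀ = 0 := by simp [hm, h2]
  have a12 : m 1 2 a₀ = 0 := by simp [hm, h2]
  have a22 : m 2 2 a₀ = 0 := by simp [hm, h2]
  have hdet : ∀ a, m 0 0 a * m 1 1 a * m 2 2 a - m 0 0 a * m 1 2 a * m 2 1 a -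
      m 0 1 a * m 1 0 a * m 2 2 a + m 0 1 a * m 1 2 a * m 2 0 a + m 0 2 a * m 1 0 a * m 2 1 a -
      m 0 2 a * m 1 1 a * m 2 0 a = 0 := by
    intro a
    by_contra hne
    have : IsUnit (LinearMap.toMatrix bV bW (μ a)).det := by
      rw [Matrix.det_fin_three, isUnit_iff_ne_zero]
      simpa only [LinearMap.toMatrix_apply, ← hm] using hne
    exact hs a (by
      have h := (LinearEquiv.ofIsUnitDet this).surjective
      rwa [← LinearEquiv.coe_coe, LinearEquiv.coe_ofIsUnitDet] at h)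
  have hP : ∀ a, m 2 2 a = 0 ∧ m 0 2 a * m 2 0 a + m 1 2 a * m 2 1 a = 0 := by
    intro a
    obtain ⟨-, e1, e2, -⟩ := cubic_zero (c₀ := 0) (c₁ := m 0 0 a * m 2 2 a + m 1 1 a * m 2 2 a -
      m 0 2 a * m 2 0 a - m 1 2 a * m 2 1 a) (c₂ := m 2 2 a) (c₃ := 0) fun t => by
        have := hdet (a + t • a₀)
        simp only [map_add, map_smul, smul_eq_mul, a00, a10, a20, a01, a11, a21, a02, a12,
          a22] at this
        linear_combination this - hdet a
    exact ⟨e2, by rw [e2] at e1; linear_combination -e1⟩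
  have hb' : m 2 0 b ≠ 0 ∨ m 2 1 b ≠ 0 := by
    by_contra! e
    apply hb
    conv_lhs => rw [← bV.sum_repr v₀, Fin.sum_univ_three]
    simp only [map_add, map_smul, Finsupp.add_apply, Finsupp.smul_apply, ← hm, e.1, e.2, (hP b).1,
      smul_zero, add_zero]
  by_cases hA : ∃ x y, m 0 2 x = 1 ∧ m 1 2 x = 0 ∧ m 0 2 y = 0 ∧ m 1 2 y = 1
  · left
    obtain ⟨x, y, x1, x2, y1, y2⟩ := hA
    have hdec : ∀ v, ∃ s : k, v = s • a₀ + m 0 2 v • x + m 1 2 v • y := by
      have hli : LinearIndependent k ![a₀, x, y] := by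
        rw [Fintype.linearIndependent_iff]
        intro g hg
        rw [Fin.sum_univ_three] at hg
        have e1 := congrArg (m 0 2) hg
        have e2 := congrArg (m 1 2) hg
        simp [a02, a12, x1, x2, y1, y2] at e1 e2
        have e3 := congrArg (m 0 0) hg
        simp [e1, e2, a00] at e3
        intro i
        fin_cases i <;> assumption
      intro v
      have hsp := hli.span_eq_top_of_card_eq_finrank' (by rw [finrank_eq_card_basis bV])
      obtain ⟨g, hg⟩ := (mem_span_range_iff_exists_fun k).1 (hsp ▸ mem_top (x := v))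
      rw [Fin.sum_univ_three] at hg
      have e1 := congrArg (m 0 2) hg
      have e2 := congrArg (m 1 2) hg
      simp [a02, a12, x1, x2, y1, y2] at e1 e2
      exact ⟨g 0, by rw [← e1, ← e2]; exact hg.symm⟩
    have X31 : m 2 0 x = 0 := by simpa [x1, x2] using (hP x).2
    have Y32 : m 2 1 y = 0 := by simpa [y1, y2] using (hP y).2
    have Y31 : m 2 0 y = -m 2 1 x := by
      have := (hP (x + y)).2
      simp only [map_add, x1, x2, y1, y2, X31, Y32] at this
      linear_combination this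
    have hκ : m 2 1 x ≠ 0 := by
      intro e
      obtain ⟨s, hs⟩ := hdec b
      rcases hb' with e' | e' <;> apply e' <;> rw [hs] <;> simp [a20, a21, X31, Y32, Y31, e]
    obtain ⟨e0, e1, e2, e3⟩ := cubic_zero (c₀ := -m 0 1 y) (c₁ := m 1 1 y - m 0 0 y - m 0 1 x)
      (c₂ := m 1 0 y + m 1 1 x - m 0 0 x) (c₃ := m 1 0 x) fun t => by
        have := hdet (t • x + y)
        simp only [map_add, map_smul, smul_eq_mul, x1, x2, y1, y2, X31, Y32, Y31, (hP x).1,
          (hP y).1] at this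
        apply mul_left_cancel₀ hκ
        linear_combination this
    -- the coefficient of `a₀`
    let sc : V →ₗ[k] k := m 0 0 - m 0 0 x • m 0 2 - m 0 0 y • m 1 2
    let θ : V →ₗ[k] V := (m 0 2).smulRight (bV 0) + (m 1 2).smulRight (bV 1) -
      (sc + m 0 0 x • m 0 2 + m 1 1 y • m 1 2).smulRight (bV 2)
    have hθ : ∀ s p q : k, θ (s • a₀ + p • x + q • y) =
        p • bV 0 + q • bV 1 - (s + m 0 0 x * p + m 1 1 y * q) • bV 2 := by
      intro s p q
      simp only [θ, sc, LinearMap.sub_apply, LinearMap.add_apply, LinearMap.smulRight_apply,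
        LinearMap.smul_apply, map_add, map_smul, smul_eq_mul, a00, a02, a12, x1, x2, y1, y2]
      module
    refine ⟨θ, fun w => ?_, fun v => ?_⟩
    · refine ⟨(-bV.repr w 2 - m 0 0 x * bV.repr w 0 - m 1 1 y * bV.repr w 1) • a₀ +
        bV.repr w 0 • x + bV.repr w 1 • y, ?_⟩
      rw [hθ]
      conv_rhs => rw [← bV.sum_repr w, Fin.sum_univ_three]
      module
    · obtain ⟨s, hs⟩ := hdec v
      generalize m 0 2 v = p at hs
      generalize m 1 2 v = q at hs
      rw [hs, hθ, map_sub, map_add, map_smul, map_smul, map_smul, hμ, hμ, hμ]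
      simp only [map_add, map_smul, smul_eq_mul, a00, a10, a20, a01, a11, a21, a02, a12, a22, x1,
        x2, y1, y2, X31, Y32, Y31, (hP x).1, (hP y).1]
      rw [← hW (p * q * (m 0 0 y + m 0 1 x - m 1 1 y) + q ^ 2 * m 0 1 y)
        (p ^ 2 * m 1 0 x + p * q * (m 1 0 y + m 1 1 x - m 0 0 x)) 0
        (by linear_combination -p * q * e1 - q ^ 2 * e0) (by linear_combination p ^ 2 * e3 + p * q * e2)
        rfl]
      module
  · right
    obtain ⟨x, hx⟩ : ∃ x, m 0 2 x ≠ 0 ∨ m 1 2 x ≠ 0 := by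
      by_contra! e
      exact bV.ne_zero 2 (hr _ fun a => by rw [hμ, (e a).1, (e a).2, (hP a).1]; simp)
    set c₁ := m 0 2 x with hc₁
    set c₂ := m 1 2 x with hc₂
    have hΔ : ∀ v, c₁ * m 1 2 v - c₂ * m 0 2 v = 0 := by
      intro v
      by_contra e
      refine hA ⟨(c₁ * m 1 2 v - c₂ * m 0 2 v)⁻¹ • (m 1 2 v • x - c₂ • v),
        (c₁ * m 1 2 v - c₂ * m 0 2 v)⁻¹ • (c₁ • v - m 0 2 v • x), ?_, ?_, ?_, ?_⟩ <;>
      simp only [map_sub, map_smul, smul_eq_mul, ← hc₁, ← hc₂] <;> field_simp <;> ring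
    obtain ⟨d₁, d₂, hd⟩ : ∃ d₁ d₂ : k, d₁ * c₁ + d₂ * c₂ = 1 := by
      rcases hx with e | e
      · exact ⟨c₁⁻¹, 0, by simp [e]⟩
      · exact ⟨0, c₂⁻¹, by simp [e]⟩
    let γ : V →ₗ[k] k := d₁ • m 0 2 + d₂ • m 1 2
    let ρ : V →ₗ[k] k := d₁ • m 2 1 - d₂ • m 2 0
    let η : V →ₗ[k] k := c₁ • (c₁ • m 1 0 + c₂ • m 1 1) - c₂ • (c₁ • m 0 0 + c₂ • m 0 1)
    have hγ : ∀ v, γ v = d₁ * m 0 2 v + d₂ * m 1 2 v := fun v => rfl
    have hρ : ∀ v, ρ v = d₁ * m 2 1 v - d₂ * m 2 0 v := fun v => rfl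
    have hη : ∀ v, η v = c₁ * (c₁ * m 1 0 v + c₂ * m 1 1 v) -
      c₂ * (c₁ * m 0 0 v + c₂ * m 0 1 v) := fun v => rfl
    have g1 : ∀ v, m 0 2 v = γ v * c₁ := fun v => by
      rw [hγ]; linear_combination -m 0 2 v * hd - d₂ * hΔ v
    have g2 : ∀ v, m 1 2 v = γ v * c₂ := fun v => by
      rw [hγ]; linear_combination -m 1 2 v * hd + d₁ * hΔ v
    have gx : γ x = 1 := by rw [hγ]; exact hd
    have r0 : ∀ v, c₁ * m 2 0 v + c₂ * m 2 1 v = 0 := by
      have r1 : ∀ v, γ v ≠ 0 → c₁ * m 2 0 v + c₂ * m 2 1 v = 0 := fun v hv => by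
        have := (hP v).2
        rw [g1, g2] at this
        apply mul_left_cancel₀ hv
        linear_combination this
      intro v
      by_cases hv : γ v = 0
      · have := r1 (v + x) (by simp [hv, gx])
        simp only [map_add] at this
        linear_combination this - r1 x (by simp [gx])
      · exact r1 v hv
    have r1 : ∀ v, m 2 0 v = -(ρ v * c₂) := fun v => by
      rw [hρ]; linear_combination -m 2 0 v * hd + d₁ * r0 v
    have r2 : ∀ v, m 2 1 v = ρ v * c₁ := fun v => by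
      rw [hρ]; linear_combination -m 2 1 v * hd + d₂ * r0 v
    have rb : ρ b ≠ 0 := fun e => by
      rcases hb' with e' | e'
      · exact e' (by rw [r1, e]; simp)
      · exact e' (by rw [r2, e]; simp)
    have hη0 := lin_three (η := η) (show γ x ≠ 0 by simp [gx]) rb fun v => by
      have := hdet v
      rw [(hP v).1, g1 v, g2 v, r1 v, r2 v] at this
      rw [hη]
      linear_combination this
    refine ⟨bV 2, c₁ • bV 0 + c₂ • bV 1, c₁ • bW 0 + c₂ • bW 1, fun s t e => ?_, fun a => ⟨?_, ?_⟩⟩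
    · have e0 := congrArg (bV.repr · 0) e
      have e1 := congrArg (bV.repr · 1) e
      have e2 := congrArg (bV.repr · 2) e
      simp at e0 e1 e2
      refine ⟨e2, ?_⟩
      by_contra ht
      have := hd
      rw [e0.resolve_left ht, e1.resolve_left ht] at this
      simp at this
    · refine mem_span_singleton.2 ⟨γ a, ?_⟩
      rw [hμ, (hP a).1, g1 a, g2 a]
      module
    · refine mem_span_singleton.2 ⟨d₁ * (c₁ * m 0 0 a + c₂ * m 0 1 a) +
        d₂ * (c₁ * m 1 0 a + c₂ * m 1 1 a), ?_⟩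
      rw [map_add, map_smul, map_smul, hμ, hμ, eq_comm, ← sub_eq_zero]
      have e := hη0 a
      rw [hη] at e
      rw [← hW ((c₁ * m 0 0 a + c₂ * m 0 1 a) - (d₁ * (c₁ * m 0 0 a + c₂ * m 0 1 a) +
          d₂ * (c₁ * m 1 0 a + c₂ * m 1 1 a)) * c₁)
        ((c₁ * m 1 0 a + c₂ * m 1 1 a) - (d₁ * (c₁ * m 0 0 a + c₂ * m 0 1 a) +
          d₂ * (c₁ * m 1 0 a + c₂ * m 1 1 a)) * c₂) (c₁ * m 2 0 a + c₂ * m 2 1 a)
        (by linear_combination -(c₁ * m 0 0 a + c₂ * m 0 1 a) * hd - d₂ * e)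
        (by linear_combination -(c₁ * m 1 0 a + c₂ * m 1 1 a) * hd + d₁ * e) (r0 a)]
      module

theorem singular [Infinite k] (μ : V →ₗ[k] V →ₗ[k] W) (h3 : finrank k V = 3)
    (hW : finrank k W ≤ 3) (hr : ∀ v, (∀ a, μ a v = 0) → v = 0) :
    (∃ a, ∀ b v, μ b v ∈ LinearMap.range (μ a)) ∨
    (∃ θ : V →ₗ[k] V, Function.Surjective θ ∧ ∀ v, μ v (θ v) = 0) ∨
      ∃ (u₁ u₂ : V) (l : W), (∀ s t : k, s • u₁ + t • u₂ = 0 → s = 0 ∧ t = 0) ∧
        ∀ a, μ a u₁ ∈ (k ∙ l : Submodule k W) ∧ μ a u₂ ∈ (k ∙ l : Submodule k W) := by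
  by_cases hs : ∃ a, Function.Surjective (μ a)
  · obtain ⟨a, ha⟩ := hs
    exact Or.inl ⟨a, fun b v => ha _⟩
  push Not at hs
  have hlt : ∀ a, finrank k (LinearMap.range (μ a)) < finrank k W := fun a =>
    finrank_lt fun e => hs a (LinearMap.range_eq_top.1 e)
  by_cases h2 : ∃ a, finrank k (LinearMap.range (μ a)) = 2
  · obtain ⟨a₀, h2⟩ := h2
    by_cases h0 : ∀ b v, μ b v ∈ LinearMap.range (μ a₀)
    · exact Or.inl ⟨a₀, h0⟩
    right
    push Not at h0
    obtain ⟨b, v₀, hb⟩ := h0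
    have hW3 : finrank k W = 3 := by have := hlt a₀; omega
    have hk : 0 < finrank k (LinearMap.ker (μ a₀)) := by
      have := LinearMap.finrank_range_add_finrank_ker (μ a₀); omega
    obtain ⟨e₃, he, he0⟩ : ∃ e ∈ LinearMap.ker (μ a₀), e ≠ 0 := by
      rw [pos_iff_ne_zero, Ne, Submodule.finrank_eq_zero] at hk
      exact (Submodule.ne_bot_iff _).1 hk
    let f := finBasisOfFinrankEq k _ h2
    obtain ⟨e₁, h₁⟩ := (f 0).2
    obtain ⟨e₂, h₂⟩ := (f 1).2
    have hf : ∀ s t : k, s • (f 0 : W) + t • (f 1 : W) = 0 → s = 0 ∧ t = 0 := fun s t e => by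
      have := Fintype.linearIndependent_iff.1 f.linearIndependent ![s, t] (by
        rw [Fin.sum_univ_two]; exact Subtype.ext e)
      exact ⟨this 0, this 1⟩
    have l1 : LinearIndependent k ![e₁, e₂, e₃] := by
      rw [Fintype.linearIndependent_iff]
      intro g hg
      rw [Fin.sum_univ_three] at hg
      have e := congrArg (μ a₀) hg
      simp only [Matrix.cons_val_zero, Matrix.cons_val_one, Matrix.cons_val, map_add, map_smul,
        h₁, h₂, LinearMap.mem_ker.1 he, smul_zero, add_zero, map_zero] at e hg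
      obtain ⟨g0, g1⟩ := hf _ _ e
      rw [g0, g1, zero_smul, zero_smul, zero_add, zero_add, smul_eq_zero] at hg
      intro i
      fin_cases i
      exacts [g0, g1, hg.resolve_right he0]
    have l2 : LinearIndependent k ![(f 0 : W), f 1, μ b v₀] := by
      rw [Fintype.linearIndependent_iff]
      intro g hg
      rw [Fin.sum_univ_three] at hg
      simp only [Matrix.cons_val_zero, Matrix.cons_val_one, Matrix.cons_val] at hg
      have g2 : g 2 = 0 := by
        by_contra e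
        refine hb ((smul_mem_iff _ e).1 ?_)
        rw [eq_neg_of_add_eq_zero_right hg]
        exact neg_mem (add_mem (smul_mem _ _ (f 0).2) (smul_mem _ _ (f 1).2))
      rw [g2, zero_smul, add_zero] at hg
      obtain ⟨g0, g1⟩ := hf _ _ hg
      intro i
      fin_cases i
      exacts [g0, g1, g2]
    let bV := basisOfLinearIndependentOfCardEqFinrank l1 (by simp [h3])
    let bW := basisOfLinearIndependentOfCardEqFinrank l2 (by simp [hW3])
    have eV : ∀ i, bV i = ![e₁, e₂, e₃] i := fun i => by simp [bV]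
    have eW : ∀ i, bW i = ![(f 0 : W), f 1, μ b v₀] i := fun i => by simp [bW]
    refine singular_two μ bV bW (a₀ := a₀) (by rw [eV, eW]; exact h₁) (by rw [eV, eW]; exact h₂)
      (by rw [eV]; exact he) hs hr (b := b) (v₀ := v₀) ?_
    rw [show μ b v₀ = bW 2 by rw [eW]; rfl]
    simp
  push Not at h2
  have h1 : ∀ a u w, μ a u ≠ 0 → μ a w ∈ (k ∙ μ a u : Submodule k W) := fun a u w hu => by
    have e : finrank k (LinearMap.range (μ a)) ≤ finrank k (k ∙ μ a u : Submodule k W) := by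
      rw [finrank_span_singleton hu]; have := hlt a; have := h2 a; omega
    rw [eq_of_le_of_finrank_le ((span_singleton_le_iff_mem _ _).2 (LinearMap.mem_range_self _ u)) e]
    exact ⟨w, rfl⟩
  by_cases h0 : ∀ a w, μ a w = 0
  · exact Or.inl ⟨0, fun b v => by simp [h0]⟩
  push Not at h0
  obtain ⟨a₀, w, hw⟩ := h0
  have hk : 2 ≤ finrank k (LinearMap.ker (μ a₀)) := by
    have := LinearMap.finrank_range_add_finrank_ker (μ a₀); have := hlt a₀; have := h2 a₀; omega
  obtain ⟨f, hf⟩ := exists_linearIndependent_of_le_finrank hk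
  have key : ∀ a u, μ a₀ u = 0 → μ a u ∈ (k ∙ μ a₀ w : Submodule k W) := fun a u hu => by
    by_cases e : μ a u = 0
    · simp [e]
    have e1 := h1 (a₀ + a) u w (by simpa [hu] using e)
    simp only [map_add, LinearMap.add_apply, hu, zero_add] at e1
    obtain ⟨t, ht⟩ := mem_span_singleton.1 ((add_mem_cancel_right (h1 a u w e)).1 e1)
    have t0 : t ≠ 0 := by rintro rfl; exact hw (by simpa using ht.symm)
    exact mem_span_singleton.2 ⟨t⁻¹, by rw [← ht, inv_smul_smul₀ t0]⟩
  refine Or.inr (Or.inr ⟨f 0, f 1, μ a₀ w, fun s t e => ?_, fun a => ⟨key a _ (f 0).2, key a _ (f 1).2⟩⟩)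
  have := Fintype.linearIndependent_iff.1 hf ![s, t] (by
    rw [Fin.sum_univ_two]; exact Subtype.ext e)
  exact ⟨this 0, this 1⟩

end singular

end H21.SL5
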