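import Cfsg.Agent.H21.SL5a
import Cfsg.Agent.H21.SymLoc

/-!
Symmetric local algebras: annihilators of the powers of the radical (`H21.SL5.perp`, `Top`), and the
case of three generators (`Top.three`).
-/

set_option autoImplicit false
set_option linter.unusedSectionVars false
set_option linter.unusedVariables false

namespace H21.SL5
open Module Submodule

variable {k A : Type*} [Field k] [Ring A] [Algebra k A] [FiniteDimensional k A]

theorem mpow {J : Submodule k A} {i j n : ℕ} {x y : A} (hx : x ∈ J ^ i) (hy : y ∈ J ^ j)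
    (e : i + j = n := by omega) : x * y ∈ J ^ n := by
  rw [← e, pow_add]; exact mul_mem_mul hx hy

theorem bil {M : Type*} [AddCommGroup M] [Module k M] (B : A →ₗ[k] A →ₗ[k] M)
    {X Y X' Y' : Submodule k A} {S T : Set A} {U : Submodule k M} (hX : X ≤ X' ⊔ span k S)
    (hY : Y ≤ Y' ⊔ span k T) (h1 : ∀ x ∈ X', ∀ y ∈ Y, B x y ∈ U)
    (h2 : ∀ x ∈ S, ∀ y ∈ Y', B x y ∈ U) (h3 : ∀ x ∈ S, ∀ y ∈ T, B x y ∈ U) :
    ∀ x ∈ X, ∀ y ∈ Y, B x y ∈ U := fun x hx y hy =>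
  (hX.trans (sup_le (fun x hx => h1 x hx y hy) (span_le.2 fun x hx =>
    (hY.trans (sup_le (fun y hy => h2 x hx y hy) (span_le.2 fun y hy => h3 x hx y hy)) :
      _ ≤ U.comap (B x)) hy)) : _ ≤ U.comap (B.flip y)) hx

variable (k) in
/-- the commutator as a bilinear map -/
def cm : A →ₗ[k] A →ₗ[k] A := LinearMap.mul k A - (LinearMap.mul k A).flip

theorem cm_apply (x y : A) : cm k x y = x * y - y * x := rfl

/-- the orthogonal complement for the symmetrizing form -/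
def perp (lam : A →ₗ[k] k) (U : Submodule k A) : Submodule k A where
  carrier := {x | ∀ y ∈ U, lam (x * y) = 0}
  add_mem' := fun ha hb y hy => by rw [add_mul, map_add, ha y hy, hb y hy, add_zero]
  zero_mem' := fun y hy => by simp
  smul_mem' := fun c x hx y hy => by rw [smul_mul_assoc, map_smul, hx y hy, smul_zero]

variable {ε : A →ₐ[k] k} {lam : A →ₗ[k] k} {x y : A}

theorem rad_pow_anti {i j : ℕ} (e : i ≤ j := by omega) : rad ε ^ j ≤ rad ε ^ i ⊔ ⊥ ∨ i = 0 := by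
  rcases i with _ | i
  · exact Or.inr rfl
  left
  rw [sup_bot_eq]
  induction j, e using Nat.le_induction with
  | base => exact le_rfl
  | succ j hj ih =>
    rw [pow_succ, pow_succ _ i]
    refine (mul_le_mul_left ih _).trans ?_
    rw [pow_succ, mul_assoc]
    exact mul_le_mul_right rad_mul_le _

theorem anti {i j : ℕ} (hx : x ∈ rad ε ^ j) (e : i ≤ j := by omega) (e' : 0 < i := by omega) :
    x ∈ rad ε ^ i := by
  simpa using (rad_pow_anti e).resolve_right (by omega) hx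

theorem finrank_perp (h : SLA ε lam) (U : Submodule k A) :
    finrank k (perp lam U) + finrank k U = finrank k A := by
  let B : LinearMap.BilinForm k A := (LinearMap.mul k A).compr₂ lam
  have h1 := B.finrank_add_finrank_orthogonal' U
  have h2 : B.ker = ⊥ := eq_bot_iff.2 fun x hx => h.nd x fun y => LinearMap.congr_fun hx y
  have h3 : B.orthogonal U = perp lam U := by
    ext z
    exact forall₂_congr fun y _ => by rw [h.symm]; rfl
  rw [h2, h3, inf_bot_eq, finrank_bot, add_zero, add_comm] at h1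
  exact h1

theorem mem_center_of_perp (h : SLA ε lam) (hx : x ∈ perp lam (rad ε ^ 2)) (y : A) :
    y * x = x * y := sub_eq_zero.1 (h.nd _ fun z => by
  have := hx _ (by rw [pow_two]; exact kom_le_sq (comm_mem_kom z y))
  rw [sub_mul, map_sub, mul_assoc, h.symm y, mul_assoc, mul_assoc, ← map_sub, ← mul_sub, this])

theorem exists_iota (J U : Submodule k A) (hU : U ≤ J) {r : ℕ} (hr : finrank k J = finrank k U + r) :
    ∃ ι : (Fin r → k) →ₗ[k] A, (∀ v, ι v ∈ J) ∧ J ≤ U ⊔ LinearMap.range ι ∧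
      ∀ v, ι v ∈ U → v = 0 := by
  obtain ⟨C, hC⟩ := Submodule.exists_isCompl (U.comap J.subtype)
  have h1 := Submodule.finrank_add_eq_of_isCompl hC
  rw [(Submodule.comapSubtypeEquivOfLe hU).finrank_eq] at h1
  haveI : Module.Free k C := Module.Free.of_divisionRing k C
  let e := (finBasisOfFinrankEq k C (n := r) (by omega)).equivFun.symm
  refine ⟨J.subtype ∘ₗ C.subtype ∘ₗ e.toLinearMap, fun v => (e v).1.2, fun x hx => ?_, fun v hv => ?_⟩
  · obtain ⟨u, hu, c, hc, e'⟩ := mem_sup.1 (hC.sup_eq_top ▸ mem_top (x := (⟨x, hx⟩ : J)))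
    refine mem_sup.2 ⟨u, hu, c, ⟨e.symm ⟨c, hc⟩, by simp⟩, congrArg Subtype.val e'⟩
  · have : (e v).1 = 0 := (Submodule.disjoint_def.1 hC.disjoint) _ hv (e v).2
    exact e.injective (by rw [map_zero]; exact Subtype.ext this)

/-- `N` is the Loewy length minus one -/
structure Top (ε : A →ₐ[k] k) (lam : A →ₗ[k] k) (N : ℕ) : Prop extends SLA ε lam where
  ne : rad ε ^ N ≠ ⊥
  bot : rad ε ^ (N + 1) = ⊥

theorem exists_top (h : SLA ε lam) : ∃ N, Top ε lam N := by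
  classical
  haveI : Nontrivial A := ε.toRingHom.domain_nontrivial
  have := h.pow_eq_bot
  refine ⟨Nat.find this, h, ?_, Nat.find_spec this⟩
  rcases e : Nat.find this with _ | n
  · rw [pow_zero]
    exact fun e => one_ne_zero ((mem_bot k).1 (e ▸ Submodule.one_le.1 le_rfl : (1 : A) ∈ _))
  · exact Nat.find_min this (by omega)

theorem mul_perp (h : SLA ε lam) {i j n : ℕ} (hx : x ∈ rad ε ^ i) (hy : y ∈ perp lam (rad ε ^ n))
    (e : j + i = n := by omega) : x * y ∈ perp lam (rad ε ^ j) := fun z hz => by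
  rw [mul_assoc, h.symm, mul_assoc]; exact hy _ (mpow hz hx e)

theorem perp_mul {i j n : ℕ} (hy : y ∈ perp lam (rad ε ^ n)) (hx : x ∈ rad ε ^ i)
    (e : i + j = n := by omega) : y * x ∈ perp lam (rad ε ^ j) := fun z hz => by
  rw [mul_assoc]; exact hy _ (mpow hx hz e)

theorem perp_of_mul (h : SLA ε lam) {j : ℕ} (hx : ∀ a ∈ rad ε, a * x ∈ perp lam (rad ε ^ j)) :
    x ∈ perp lam (rad ε ^ (j + 1)) := fun z hz => by
  rw [pow_succ] at hz
  refine Submodule.mul_induction_on hz (fun y hy a ha => ?_) fun y z hy hz => ?_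
  · rw [← mul_assoc, h.symm, ← mul_assoc]; exact hx a ha y hy
  · rw [mul_add, map_add, hy, hz, add_zero]

namespace Top
variable {N : ℕ} (h : Top ε lam N)
include h

theorem eq_zero {i : ℕ} (hx : x ∈ rad ε ^ i) (e : N < i := by omega) : x = 0 :=
  (mem_bot k).1 (h.bot ▸ anti hx)

theorem mem_perp {i j : ℕ} (hx : x ∈ rad ε ^ i) (e : N < i + j := by omega) :
    x ∈ perp lam (rad ε ^ j) := fun z hz => by rw [h.eq_zero (mpow hx hz rfl), map_zero]

theorem exists_ne : ∃ x ∈ rad ε ^ N, lam x ≠ 0 :=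
  h.exists_lam_ne (by rw [← pow_succ, h.bot]; exact bot_le) h.ne

theorem not_le_perp {i j : ℕ} (e : i + j = N := by omega) : ¬ rad ε ^ i ≤ perp lam (rad ε ^ j) := by
  intro e'
  obtain ⟨x, x1, x2⟩ := h.exists_ne
  rw [← e, pow_add] at x1
  refine x2 (Submodule.mul_induction_on x1 (fun y hy z hz => e' hy z hz) fun y z hy hz => ?_)
  rw [map_add, hy, hz, add_zero]

theorem not_le {i : ℕ} (e : i ≤ N := by omega) (e' : 0 < i := by omega) :
    ¬ rad ε ^ i ≤ rad ε ^ (i + 1) := fun e'' => h.ne (eq_bot_iff.2 fun x hx => by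
  rw [← h.nak (by rwa [← pow_succ])]; exact anti hx)

theorem finrank_top : finrank k (rad ε ^ N : Submodule k A) = 1 := by
  have h1 := finrank_perp h.toSLA (rad ε ^ 1)
  have h2 := finrank_rad (ε := ε)
  have h3 := Submodule.finrank_mono (fun x hx => h.mem_perp hx : rad ε ^ N ≤ perp lam (rad ε ^ 1))
  have h4 := mt Submodule.finrank_eq_zero.1 h.ne
  rw [pow_one] at h1 h3
  omega

theorem perp_le_rad {j : ℕ} (hx : x ∈ perp lam (rad ε ^ j)) (e : j ≤ N := by omega)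
    (e' : 0 < j := by omega) : x ∈ rad ε := by
  obtain ⟨y, y1, y2⟩ := h.exists_ne
  have e1 := hx y (anti y1)
  have e2 := h.eq_zero (mpow (by rw [pow_one]; exact sub_mem_rad x) y1 rfl)
  rw [sub_mul, sub_eq_zero] at e2
  simpa [e2, y2, mem_rad] using e1

theorem finrank_sup : finrank k (rad ε ^ N ⊔ kom k A : Submodule k A) = finrank k (kom k A) + 1 := by
  have h1 := Submodule.finrank_lt_finrank_of_lt (h.kom_lt (N := rad ε ^ N)
    (by rw [← pow_succ, h.bot]; exact bot_le) h.ne)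
  have h2 := Submodule.finrank_add_le_finrank_add_finrank (rad ε ^ N) (kom k A)
  have := h.finrank_top
  omega

omit h in
theorem p1 (hx : x ∈ rad ε) : x ∈ rad ε ^ 1 := by rwa [pow_one]

omit h in
theorem kom_le_gen {S : Set A} {U : Submodule k A} (hS : ∀ x ∈ S, x ∈ rad ε)
    (hJ : rad ε ≤ rad ε ^ 2 ⊔ span k S) (h3 : ∀ x ∈ rad ε, ∀ y ∈ rad ε ^ 2, x * y - y * x ∈ U)
    (hc : ∀ x ∈ S, ∀ y ∈ S, x * y - y * x ∈ U) : kom k A ≤ U :=
  kom_le (ε := ε) (bil (cm k) hJ hJ (fun x hx y hy => by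
    rw [cm_apply, ← neg_sub]; exact neg_mem (h3 y hy x hx)) (fun x hx y hy => h3 x (hS x hx) y hy) hc)

end Top

theorem Top.three_sub {n : ℕ} (h : Top ε lam (n + 3))
    (hr : finrank k (rad ε) ≤ finrank k (rad ε ^ 2 : Submodule k A) + 3)
    (hK : rad ε ^ 2 ≤ rad ε ^ (n + 3) ⊔ kom k A) (hx : x ∈ perp lam (rad ε ^ (n + 2))) :
    x ∈ rad ε ^ 2 := by
  by_contra hx2
  have hx1 := h.perp_le_rad hx
  have b0 : rad ε ^ 2 ≤ rad ε := by rw [pow_two]; exact rad_mul_le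
  have b1 := sup_le b0 ((span_singleton_le_iff_mem _ _).2 hx1)
  have := Submodule.finrank_lt_finrank_of_lt (s := rad ε ^ 2) (t := rad ε ^ 2 ⊔ k ∙ x)
    (lt_of_le_of_ne le_sup_left fun e => hx2 (e ▸ mem_sup_right (mem_span_singleton_self x)))
  obtain ⟨a, a1, a2⟩ := exists_sup_span b1 (m := 1) (by omega)
  have b3 := sup_le b1 ((span_singleton_le_iff_mem _ _).2 a1)
  obtain ⟨b, b4, b5⟩ := exists_sup_span b3 (m := 0) a2
  have b6 := (eq_of_le_of_finrank_le (sup_le b3 ((span_singleton_le_iff_mem _ _).2 b4)) b5).ge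
  have hc : ∀ y ∈ rad ε, x * y - y * x ∈ perp lam (rad ε ^ (n + 1)) := fun y hy =>
    sub_mem (perp_mul hx (Top.p1 hy)) (mul_perp h.toSLA (Top.p1 hy) hx)
  have h3 : ∀ x ∈ rad ε, ∀ y ∈ rad ε ^ 2, x * y - y * x ∈ perp lam (rad ε ^ (n + 1)) :=
    fun x hx y hy => h.mem_perp (i := 3) (sub_mem (mpow (Top.p1 hx) hy) (mpow hy (Top.p1 hx)))
  have hN : rad ε ^ (n + 3) ≤ perp lam (rad ε ^ (n + 1)) := fun x hx => h.mem_perp hx
  have hk : kom k A ≤ perp lam (rad ε ^ (n + 1)) ⊔ k ∙ (a * b - b * a) := by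
    refine Top.kom_le_gen (ε := ε) (S := {x, a, b}) (by simp [hx1, a1, b4])
      (by rw [span_insert, span_insert, ← sup_assoc, ← sup_assoc]; exact b6) (fun x hx y hy => mem_sup_left (h3 x hx y hy)) ?_
    have hc' : ∀ y ∈ rad ε, y * x - x * y ∈ perp lam (rad ε ^ (n + 1)) := fun y hy => by
      rw [← neg_sub]; exact neg_mem (hc y hy)
    simp only [Set.mem_insert_iff, Set.mem_singleton_iff, forall_eq_or_imp, forall_eq, sub_self,
      zero_mem, true_and, and_true]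
    exact ⟨⟨mem_sup_left (hc a a1), mem_sup_left (hc b b4)⟩, ⟨mem_sup_left (hc' a a1),
      mem_sup_right (mem_span_singleton_self _)⟩, mem_sup_left (hc' b b4), mem_sup_right (by
        rw [← neg_sub (a * b), neg_mem_iff]; exact mem_span_singleton_self _)⟩
  refine h.not_le_perp (i := 2) (j := n + 1) (by omega) (hK.trans (sup_le hN (kom_le (ε := ε)
    fun a ha y hy => comm_mem_of_layer (j := 1) (U' := perp lam (rad ε ^ n))
      (hK.trans (sup_le (le_sup_of_le_left hN) hk)) (fun a ha y hy => mul_perp h.toSLA (Top.p1 ha) hy)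
      (fun a ha y hy => perp_mul hy (Top.p1 ha)) h.not_le_perp ha (Top.p1 hy))))

theorem alt4 {V : Type*} [AddCommGroup V] [Module k V] [FiniteDimensional k V] (h3 : finrank k V = 3)
    (f₁ f₂ f₃ f₄ : V →ₗ[k] A) (φ : A →ₗ[k] k)
    (h1 : ∀ a c d, φ (f₁ a * f₂ a * f₃ c * f₄ d) = 0) (h2 : ∀ a b d, φ (f₁ a * f₂ b * f₃ b * f₄ d) = 0)
    (h4 : ∀ a b c, φ (f₁ a * f₂ b * f₃ c * f₄ c) = 0) (a b c d : V) :
    φ (f₁ a * f₂ b * f₃ c * f₄ d) = 0 := by
  have s2 : ∀ a b c d, φ (f₁ a * f₂ b * f₃ c * f₄ d) = -φ (f₁ a * f₂ c * f₃ b * f₄ d) := by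
    intro a b c d
    have := h2 a (b + c) d
    simp only [map_add, mul_add, add_mul, h2] at this
    linear_combination this
  have s3 : ∀ a b c d, φ (f₁ a * f₂ b * f₃ c * f₄ d) = -φ (f₁ a * f₂ b * f₃ d * f₄ c) := by
    intro a b c d
    have := h4 a b (c + d)
    simp only [map_add, mul_add, add_mul, h4] at this
    linear_combination this
  have t1 : ∀ a b d, φ (f₁ a * f₂ b * f₃ a * f₄ d) = 0 := fun a b d => by rw [s2, h1, neg_zero]
  have t2 : ∀ a b c, φ (f₁ a * f₂ b * f₃ c * f₄ b) = 0 := fun a b d => by rw [s3, h2, neg_zero]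
  have t3 : ∀ a b c, φ (f₁ a * f₂ b * f₃ c * f₄ a) = 0 := fun a b d => by rw [s3, t1, neg_zero]
  obtain ⟨g, hg, i, hi⟩ := Fintype.not_linearIndependent_iff.1 fun e : LinearIndependent k ![a, b, c, d] => by
    have := e.fintype_card_le_finrank
    simp [h3] at this
  simp only [Fin.sum_univ_four, Matrix.cons_val_zero, Matrix.cons_val_one, Matrix.cons_val] at hg
  have e0 := congrArg (fun v => φ (f₁ v * f₂ b * f₃ c * f₄ d)) hg
  have e1 := congrArg (fun v => φ (f₁ a * f₂ v * f₃ c * f₄ d)) hg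
  have e2 := congrArg (fun v => φ (f₁ a * f₂ b * f₃ v * f₄ d)) hg
  have e3 := congrArg (fun v => φ (f₁ a * f₂ b * f₃ c * f₄ v)) hg
  simp only [map_add, map_smul, mul_add, add_mul, smul_mul_assoc, mul_smul_comm, h1, h2, h4, t1, t2,
    t3, smul_eq_mul, mul_zero, add_zero, zero_add, map_zero, zero_mul, mul_eq_zero] at e0 e1 e2 e3
  fin_cases i
  exacts [e0.resolve_left hi, e1.resolve_left hi, e2.resolve_left hi, e3.resolve_left hi]

theorem rank_one_ker {V : Type*} [AddCommGroup V] [Module k V] [FiniteDimensional k V]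
    (h3 : finrank k V = 3) {u₁ u₂ : V} (hu : ∀ s t : k, s • u₁ + t • u₂ = 0 → s = 0 ∧ t = 0)
    (β : V →ₗ[k] V →ₗ[k] k) (m l : V →ₗ[k] k) {v₀ : V} (h0 : l v₀ ≠ 0)
    (h : ∀ v, ∀ u ∈ span k {u₁, u₂}, ∀ u' ∈ span k {u₁, u₂}, β v u * m u' = β u u' * l v) :
    ∃ u ∈ span k {u₁, u₂}, u ≠ 0 ∧ ∀ v, β v u = 0 := by
  have m1 : u₁ ∈ span k {u₁, u₂} := subset_span (by simp)
  have m2 : u₂ ∈ span k {u₁, u₂} := subset_span (by simp)
  have ker2 : ∀ φ : V →ₗ[k] k, ∃ u ∈ span k {u₁, u₂}, u ≠ 0 ∧ φ u = 0 := fun φ => by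
    by_cases e : φ u₁ = 0
    · exact ⟨u₁, m1, fun e' => one_ne_zero (hu 1 0 (by simp [e'])).1, e⟩
    · exact ⟨(-φ u₂) • u₁ + φ u₁ • u₂, add_mem (smul_mem _ _ m1) (smul_mem _ _ m2),
        fun e' => e (hu _ _ e').2, by simp [mul_comm]⟩
  by_cases hm : ∃ u' ∈ span k {u₁, u₂}, m u' ≠ 0
  · obtain ⟨u', a1, a2⟩ := hm
    obtain ⟨u, b1, b2, b3⟩ := ker2 (β v₀)
    refine ⟨u, b1, b2, fun v => mul_right_cancel₀ a2 ?_⟩
    have := h v₀ u b1 u' a1
    rw [b3, zero_mul, eq_comm, mul_eq_zero] at this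
    rw [h v u b1 u' a1, this.resolve_right h0, zero_mul, zero_mul]
  push Not at hm
  have h2 : finrank k (span k {u₁, u₂}) = 2 := by
    have := finrank_span_eq_card ((LinearIndependent.pair_iff).2 hu)
    rwa [Matrix.range_cons, Matrix.range_cons, Matrix.range_empty, Set.union_empty,
      Set.singleton_union] at this
  obtain ⟨u₃, -, a2⟩ := exists_sup_span (le_top (a := span k {u₁, u₂})) (m := 0) (by simp [h2, h3])
  obtain ⟨u, b1, b2, b3⟩ := ker2 (β u₃)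
  refine ⟨u, b1, b2, fun v => ?_⟩
  obtain ⟨s, hs, _, ht, rfl⟩ := mem_sup.1 ((eq_of_le_of_finrank_le le_top a2).ge (mem_top (x := v)))
  obtain ⟨t, rfl⟩ := mem_span_singleton.1 ht
  have := h v₀ s hs u b1
  rw [hm u b1, mul_zero, eq_comm, mul_eq_zero] at this
  simp [b3, this.resolve_right h0]

theorem pow_le_gen {R : Submodule k A} (h1 : R ≤ rad ε) (h2 : rad ε ≤ rad ε ^ 2 ⊔ R) (i : ℕ) :
    rad ε ^ i ≤ rad ε ^ (i + 1) ⊔ R ^ i := by
  induction i with
  | zero => simp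
  | succ i ih =>
    rw [pow_succ _ i, pow_succ R]
    refine (mul_le_mul_right h2 _).trans ?_
    rw [Submodule.mul_sup, ← pow_add]
    refine sup_le le_sup_left ((mul_le_mul_left ih _).trans ?_)
    rw [Submodule.sup_mul, pow_succ _ (i + 1)]
    exact sup_le_sup_right (mul_le_mul_right h1 _) _

theorem exists_coord {U : Submodule k A} {w : A} (hw : w ∉ U) :
    ∃ f : A →ₗ[k] k, ∀ y ∈ U ⊔ k ∙ w, y - f y • w ∈ U := by
  obtain ⟨f', f1, f2⟩ := Submodule.exists_le_ker_of_notMem hw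
  refine ⟨(f' w)⁻¹ • f', fun y hy => ?_⟩
  obtain ⟨u, hu, _, hv, rfl⟩ := mem_sup.1 hy
  obtain ⟨t, rfl⟩ := mem_span_singleton.1 hv
  have : ((f' w)⁻¹ • f') (u + t • w) = t := by
    simp only [LinearMap.smul_apply, map_add, map_smul, smul_eq_mul, show f' u = 0 from f2 hu]
    field_simp
    ring
  rw [this, add_sub_cancel_right]; exact hu

theorem mul_le_ker {X R : Submodule k A} {φ : A →ₗ[k] k}
    (h : ∀ d ∈ R, X ≤ LinearMap.ker (φ ∘ₗ LinearMap.mulRight k d)) : X * R ≤ LinearMap.ker φ :=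
  mul_le.2 fun x hx d hd => h d hd hx

/-- three generators, Loewy length at least five -/
structure G3 {V : Type*} [AddCommGroup V] [Module k V] (ε : A →ₐ[k] k) (lam : A →ₗ[k] k) (n : ℕ)
    (ι : V →ₗ[k] A) : Prop extends Top ε lam (n + 4) where
  dim : finrank k V = 3
  mem : ∀ v, ι v ∈ rad ε ^ 1
  gen : rad ε ≤ rad ε ^ 2 ⊔ LinearMap.range ι
  inj : ∀ v, ι v ∈ perp lam (rad ε ^ (n + 3)) → v = 0
  sq : rad ε ^ 2 ≤ rad ε ^ (n + 4) ⊔ kom k A

namespace G3
variable {V : Type*} [AddCommGroup V] [Module k V] [FiniteDimensional k V] {n : ℕ} {ι : V →ₗ[k] A}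
  (h : G3 ε lam n ι)
include h

theorem noker {v : V} (hv : ∀ a, ι a * ι v ∈ perp lam (rad ε ^ (n + 2))) : v = 0 :=
  h.inj v (perp_of_mul h.toSLA fun a ha => by
    obtain ⟨u, hu, _, ⟨w, rfl⟩, rfl⟩ := mem_sup.1 (h.gen ha)
    rw [add_mul]
    exact add_mem (h.mem_perp (i := 3) (mpow hu (h.mem v))) (hv w))

theorem theta {θ : V →ₗ[k] V} (hθ : Function.Surjective θ)
    (hz : ∀ v, ι v * ι (θ v) ∈ perp lam (rad ε ^ (n + 2))) : False := by
  refine h.not_le_perp (i := 4) (j := n) (by omega) fun x hx y hy => ?_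
  have hR : LinearMap.range ι ≤ rad ε := by rintro _ ⟨v, rfl⟩; simpa using h.mem v
  obtain ⟨u, hu, r, hr, rfl⟩ := mem_sup.1 (pow_le_gen hR h.gen 4 hx)
  rw [add_mul, map_add, h.mem_perp hu (j := n) (by omega) y hy, zero_add]
  rw [pow_succ, pow_succ, pow_two] at hr
  refine (mul_le_ker (φ := lam ∘ₗ LinearMap.mulRight k y) ?_) hr
  rintro _ ⟨d, rfl⟩
  refine mul_le_ker ?_
  rintro _ ⟨c, rfl⟩
  refine mul_le_ker ?_
  rintro _ ⟨b, rfl⟩ _ ⟨a, rfl⟩
  obtain ⟨b, rfl⟩ := hθ b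
  obtain ⟨c, rfl⟩ := (hθ.comp hθ) c
  obtain ⟨d, rfl⟩ := (hθ.comp (hθ.comp hθ)) d
  refine alt4 h.dim ι (ι ∘ₗ θ) (ι ∘ₗ θ ∘ₗ θ) (ι ∘ₗ θ ∘ₗ θ ∘ₗ θ) (lam ∘ₗ LinearMap.mulRight k y)
    (fun a c d => ?_) (fun a b d => ?_) (fun a b c => ?_) a b c d
  · exact perp_mul (perp_mul (hz a) (h.mem _) (j := n + 1)) (h.mem _) (j := n) (by omega) y hy
  · have := perp_mul (mul_perp h.toSLA (h.mem a) (hz (θ b)) (j := n + 1)) (h.mem (θ (θ (θ d))))
      (j := n) (by omega) y hy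
    simpa [mul_assoc] using this
  · have := mul_perp h.toSLA (h.mem a) (mul_perp h.toSLA (h.mem (θ b)) (hz (θ (θ c))) (j := n + 1))
      (j := n) (by omega) y hy
    simpa [mul_assoc] using this

theorem line {u₁ u₂ : V} (hu : ∀ s t : k, s • u₁ + t • u₂ = 0 → s = 0 ∧ t = 0) {l : A}
    (hl : l ∈ rad ε ^ 2) (h1 : ∀ a, ι a * ι u₁ ∈ perp lam (rad ε ^ (n + 2)) ⊔ k ∙ l)
    (h2 : ∀ a, ι a * ι u₂ ∈ perp lam (rad ε ^ (n + 2)) ⊔ k ∙ l) : False := by
  have h3 : ∀ a, ∀ u ∈ span k {u₁, u₂}, ι a * ι u ∈ perp lam (rad ε ^ (n + 2)) ⊔ k ∙ l := by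
    intro a u hu
    obtain ⟨s, t, rfl⟩ := mem_span_pair.1 hu
    rw [map_add, map_smul, map_smul, mul_add, mul_smul_comm, mul_smul_comm]
    exact add_mem (smul_mem _ _ (h1 a)) (smul_mem _ _ (h2 a))
  by_cases hw : l ∈ perp lam (rad ε ^ (n + 2))
  · rw [sup_eq_left.2 ((span_singleton_le_iff_mem _ _).2 hw)] at h1
    exact one_ne_zero (hu 1 0 (by simp [h.noker h1])).1
  obtain ⟨f, hf⟩ := exists_coord hw
  obtain ⟨v₀, y, hy, h0⟩ : ∃ v₀, ∃ y ∈ rad ε ^ (n + 1), lam (ι v₀ * l * y) ≠ 0 := by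
    by_contra! e
    refine hw (perp_of_mul h.toSLA fun a ha => ?_)
    obtain ⟨u, hu, _, ⟨w, rfl⟩, rfl⟩ := mem_sup.1 (h.gen ha)
    rw [add_mul]
    exact add_mem (h.mem_perp (i := 4) (mpow hu hl)) (e w)
  obtain ⟨u, a1, a2, a3⟩ := rank_one_ker h.dim hu (((LinearMap.mul k A).compl₁₂ ι ι).compr₂ f)
    (lam ∘ₗ LinearMap.mulRight k y ∘ₗ LinearMap.mulLeft k l ∘ₗ ι)
    (lam ∘ₗ LinearMap.mulRight k y ∘ₗ LinearMap.mulRight k l ∘ₗ ι) (v₀ := v₀) h0
    fun v u hu u' hu' => by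
      have e1 := perp_mul (hf _ (h3 v u hu)) (h.mem u') (j := n + 1) (by omega) y hy
      have e2 := mul_perp h.toSLA (h.mem v) (hf _ (h3 u u' hu')) (j := n + 1) (by omega) y hy
      simp only [sub_mul, mul_sub, map_sub, smul_mul_assoc, mul_smul_comm, map_smul, smul_eq_mul,
        mul_assoc] at e1 e2
      change f (ι v * ι u) * lam (l * ι u' * y) = f (ι u * ι u') * lam (ι v * l * y)
      simp only [mul_assoc]
      linear_combination e2 - e1
  refine a2 (h.noker fun a => ?_)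
  have := hf _ (h3 a u a1)
  rwa [show f (ι a * ι u) = 0 from a3 a, zero_smul, sub_zero] at this

theorem exists_kappa : ∃ κ : (Fin 3 → k) →ₗ[k] A, rad ε ^ 2 ≤ rad ε ^ (n + 4) ⊔
    (map₂ (cm k) (rad ε) (rad ε ^ 2) ⊔ LinearMap.range κ) := by
  let e := finBasisOfFinrankEq k V h.dim
  let κ := Fintype.linearCombination k ![cm k (ι (e 0)) (ι (e 1)), cm k (ι (e 0)) (ι (e 2)),
    cm k (ι (e 1)) (ι (e 2))]
  have hκ : ∀ i j, cm k (ι (e i)) (ι (e j)) ∈ LinearMap.range κ := by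
    have m : ∀ i, ![cm k (ι (e 0)) (ι (e 1)), cm k (ι (e 0)) (ι (e 2)), cm k (ι (e 1)) (ι (e 2))] i ∈
      LinearMap.range κ := fun i => ⟨Pi.single i 1, by simp [κ]⟩
    have m' : ∀ x y, cm k x y ∈ LinearMap.range κ → cm k y x ∈ LinearMap.range κ := fun x y e => by
      rw [cm_apply, ← neg_sub]; exact neg_mem e
    have m0 : ∀ x, cm k x x ∈ LinearMap.range κ := fun x => by simp [cm_apply]
    intro i j
    fin_cases i <;> fin_cases j
    exacts [m0 _, m 0, m 1, m' _ _ (m 0), m0 _, m 2, m' _ _ (m 1), m' _ _ (m 2), m0 _]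
  refine ⟨κ, h.sq.trans (sup_le_sup_left (Top.kom_le_gen (ε := ε) (S := Set.range fun i => ι (e i))
    ?_ ?_ (fun x hx y hy => mem_sup_left (apply_mem_map₂ _ hx hy)) ?_) _)⟩
  · rintro _ ⟨i, rfl⟩; simpa using h.mem _
  · refine h.gen.trans (sup_le_sup_left ?_ _)
    rw [LinearMap.range_eq_map, ← e.span_eq, map_span, ← Set.range_comp]
    rfl
  · rintro _ ⟨i, rfl⟩ _ ⟨j, rfl⟩
    exact mem_sup_right (hκ i j)

theorem k3_le : map₂ (cm k) (rad ε) (rad ε ^ 2) ≤ rad ε ^ 3 :=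
  map₂_le.2 fun x hx y hy => sub_mem (mpow (Top.p1 hx) hy) (mpow hy (Top.p1 hx))

section onto
variable {a₀ : V} (h0 : ∀ b v, ∃ w, ι b * ι v - ι a₀ * ι w ∈ perp lam (rad ε ^ (n + 2)))
include h0

theorem sq_le : rad ε ^ 2 ≤ perp lam (rad ε ^ (n + 2)) ⊔
    LinearMap.range (LinearMap.mulLeft k (ι a₀) ∘ₗ ι) := by
  rw [pow_two]
  have hg := h.gen
  rw [← span_eq (LinearMap.range ι)] at hg
  refine mul_le.2 (bil (LinearMap.mul k A) hg hg (fun x hx y hy => mem_sup_left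
    (h.mem_perp (i := 3) (mpow hx (Top.p1 hy)))) ?_ ?_)
  · rintro _ ⟨x, rfl⟩ y hy
    exact mem_sup_left (h.mem_perp (i := 3) (mpow (h.mem x) hy))
  · rintro _ ⟨x, rfl⟩ _ ⟨y, rfl⟩
    obtain ⟨w, hw⟩ := h0 x y
    exact mem_sup.2 ⟨_, hw, _, ⟨w, rfl⟩, sub_add_cancel _ _⟩

theorem pow_le (i : ℕ) : ∀ j, i + j = n + 2 → rad ε ^ (i + 2) ≤ perp lam (rad ε ^ j) ⊔
    LinearMap.range (LinearMap.mulLeft k (ι a₀ ^ (i + 1)) ∘ₗ ι) := by
  induction i with
  | zero => intro j hj; rw [zero_add] at hj; simpa [hj] using h.sq_le h0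
  | succ i ih =>
    intro j hj
    rw [show i + 1 + 2 = i + 2 + 1 from rfl, pow_succ]
    refine mul_le.2 fun x hx b hb => ?_
    obtain ⟨u, hu, _, ⟨w, rfl⟩, rfl⟩ := mem_sup.1 (ih (j + 1) (by omega) hx)
    obtain ⟨u', hu', _, ⟨w', rfl⟩, e⟩ := mem_sup.1 (h.sq_le h0 (mpow (h.mem w) (Top.p1 hb)))
    refine mem_sup.2 ⟨u * b + ι a₀ ^ (i + 1) * u', add_mem (perp_mul hu (Top.p1 hb)) (mul_perp h.toSLA
      (pow_mem_pow _ (by simpa using h.mem a₀) _) hu'), _, ⟨w', rfl⟩, ?_⟩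
    simp only [LinearMap.comp_apply, LinearMap.mulLeft_apply] at e ⊢
    rw [add_mul, mul_assoc, ← e, mul_add, pow_succ _ (i + 1), mul_assoc, add_assoc]

theorem right_inj {v : V} (hv : ∀ w, lam (ι a₀ ^ (n + 2) * ι w * ι v) = 0) : v = 0 :=
  h.inj v fun z hz => by
    obtain ⟨u, hu, _, ⟨w, rfl⟩, rfl⟩ := mem_sup.1 (h.pow_le h0 (n + 1) 1 rfl hz)
    rw [h.symm, add_mul, map_add, hu _ (h.mem v), zero_add]
    exact hv w

theorem left_inj {w : V} (hw : ι a₀ ^ (n + 2) * ι w ∈ perp lam (rad ε ^ 1)) : w = 0 := by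
  let Φ : V →ₗ[k] V →ₗ[k] k :=
    ((LinearMap.mul k A).compl₁₂ (LinearMap.mulLeft k (ι a₀ ^ (n + 2)) ∘ₗ ι) ι).compr₂ lam
  have h1 : Function.Injective Φ.flip := (injective_iff_map_eq_zero _).2 fun v hv =>
    h.right_inj h0 fun w => LinearMap.congr_fun hv w
  have h2 := (LinearMap.injective_iff_surjective_of_finrank_eq_finrank
    (Subspace.dual_finrank_eq (K := k) (V := V)).symm).2 (LinearMap.flip_injective_iff₁.1 h1)
  exact (injective_iff_map_eq_zero _).1 h2 w (LinearMap.ext fun v => hw _ (h.mem v))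

theorem onto [IsAlgClosed k] : False := by
  set a := ι a₀ with ha
  have ma : a ∈ rad ε := by simpa using h.mem a₀
  have La : ∀ w, a * ι w ∈ perp lam (rad ε ^ (n + 2)) → w = 0 := fun w hw => h.left_inj h0 (by
    rw [pow_succ a, mul_assoc]; exact mul_perp h.toSLA (pow_mem_pow _ ma _) hw)
  have La2 : ∀ w, a * a * ι w ∈ perp lam (rad ε ^ (n + 1)) → w = 0 := fun w hw => h.left_inj h0 (by
    rw [pow_add a, pow_two, mul_assoc]; exact mul_perp h.toSLA (pow_mem_pow _ ma _) hw)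
  have Ra : ∀ u, ι u * a ∈ perp lam (rad ε ^ (n + 2)) → u = 0 := fun u hu => h.right_inj h0 fun w => by
    rw [h.symm, pow_succ' a, ← mul_assoc, ← mul_assoc, mul_assoc (ι u * a)]
    exact hu _ (mpow (pow_mem_pow _ ma _) (h.mem w))
  set U := perp lam (rad ε ^ (n + 2)) with hU
  let L : V →ₗ[k] A ⧸ U := U.mkQ ∘ₗ LinearMap.mulLeft k a ∘ₗ ι
  have hL : LinearMap.ker L = ⊥ := LinearMap.ker_eq_bot'.2 fun w hw =>
    La w ((Submodule.Quotient.mk_eq_zero U).1 hw)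
  obtain ⟨L', hL'⟩ := L.exists_leftInverse_of_injective hL
  let c : V →ₗ[k] V →ₗ[k] V := ((LinearMap.mul k A).compl₁₂ ι ι).compr₂ (L' ∘ₗ U.mkQ)
  have hc : ∀ u v, ι u * ι v - a * ι (c u v) ∈ U := fun u v => by
    obtain ⟨w, hw⟩ := h0 u v
    have : c u v = w := by
      change L' (U.mkQ (ι u * ι v)) = w
      rw [show U.mkQ (ι u * ι v) = L w from (Submodule.Quotient.eq U).2 hw]
      exact LinearMap.congr_fun hL' w
    rwa [this]
  have hl : ∀ {x y}, x ∈ rad ε ^ 1 → y ∈ U → x * y ∈ perp lam (rad ε ^ (n + 1)) := fun hx hy =>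
    mul_perp h.toSLA hx hy
  have hr : ∀ {x y}, y ∈ U → x ∈ rad ε ^ 1 → y * x ∈ perp lam (rad ε ^ (n + 1)) := fun hy hx =>
    perp_mul hy hx
  have h3U : rad ε ^ 3 ≤ U := fun x hx => h.mem_perp hx
  rcases twisted h.dim c (a := a₀) (fun w => (sub_eq_zero.1 (La _ (by
      rw [map_sub, mul_sub]; exact hc a₀ w))).symm)
    (fun u hu => Ra u (by simpa [hu] using hc u a₀)) (fun u v w => sub_eq_zero.1 (La2 _ (by
      have := add_mem (add_mem (add_mem (sub_mem (neg_mem (hl (h.mem a₀) (hc (c u v) w)))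
        (hr (hc u v) (h.mem w))) (hl (h.mem u) (hc v w))) (hr (hc u a₀) (h.mem (c v w))))
        (hl (h.mem a₀) (hc (c u a₀) (c v w)))
      convert this using 1
      rw [map_sub]
      noncomm_ring))) with ⟨τ, t0, t1⟩ | ⟨τ, t0, t1⟩
  · have hk : kom k A ≤ U ⊔ (LinearMap.ker τ).map (LinearMap.mulLeft k a ∘ₗ ι) := by
      refine Top.kom_le_gen (ε := ε) (S := LinearMap.range ι) ?_ (by rw [span_eq]; exact h.gen)
        (fun x hx y hy => mem_sup_left (h3U (sub_mem (mpow (Top.p1 hx) hy) (mpow hy (Top.p1 hx))))) ?_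
      · rintro _ ⟨v, rfl⟩; simpa using h.mem _
      · rintro _ ⟨u, rfl⟩ _ ⟨v, rfl⟩
        refine mem_sup.2 ⟨_, sub_mem (hc u v) (hc v u), _, ⟨c u v - c v u, by simp [t1 u v], rfl⟩, ?_⟩
        simp only [LinearMap.comp_apply, LinearMap.mulLeft_apply, map_sub]
        noncomm_ring
    refine t0 (LinearMap.ext fun w => ?_)
    obtain ⟨u, hu, _, ⟨w', hw', rfl⟩, e⟩ := mem_sup.1 (h.sq.trans (sup_le
      (le_sup_of_le_left fun x hx => h3U (anti hx)) hk) (mpow (h.mem a₀) (h.mem w)))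
    rw [sub_eq_zero.1 (La (w - w') (by rw [map_sub, mul_sub, ha, ← e]; simpa [ha] using hu))]
    exact hw'
  · obtain ⟨κ, hκ⟩ := h.exists_kappa
    have hκi : LinearMap.ker (U.mkQ ∘ₗ κ) = ⊥ := by
      have e1 : LinearMap.range L ≤ LinearMap.range (U.mkQ ∘ₗ κ) := by
        rintro _ ⟨w, rfl⟩
        obtain ⟨u, hu, _, ⟨t, rfl⟩, e⟩ := mem_sup.1 ((hκ.trans_eq (sup_assoc _ _ _).symm).trans
          (sup_le_sup_right (sup_le (fun x hx => h3U (anti hx)) (h.k3_le.trans h3U)) _)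
          (mpow (h.mem a₀) (h.mem w)))
        exact ⟨t, ((Submodule.Quotient.eq U).2 (by
          change a * ι w - κ t ∈ U
          rw [ha, ← e]; simpa using hu)).symm⟩
      have e2 := Submodule.finrank_mono e1
      have e3 := LinearMap.finrank_range_add_finrank_ker L
      have e4 := LinearMap.finrank_range_add_finrank_ker (U.mkQ ∘ₗ κ)
      rw [hL, finrank_bot, h.dim] at e3
      rw [← Submodule.finrank_eq_zero]
      simp only [finrank_fintype_fun_eq_card, Fintype.card_fin] at e4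
      omega
    have hk : map₂ (cm k) (rad ε) (rad ε ^ 2) ≤ perp lam (rad ε ^ (n + 1)) ⊔
        (LinearMap.ker τ).map (LinearMap.mulLeft k (a * a) ∘ₗ ι) := by
      refine map₂_le.2 (bil (cm k) (S := LinearMap.range ι) (by rw [span_eq]; exact h.gen)
        (T := LinearMap.range (LinearMap.mulLeft k a ∘ₗ ι)) (by rw [span_eq]; exact h.sq_le h0)
        (fun x hx y hy => mem_sup_left (h.mem_perp (i := 4) (sub_mem (mpow hx hy) (mpow hy hx))))
        ?_ ?_)
      · rintro _ ⟨v, rfl⟩ y hy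
        exact mem_sup_left (sub_mem (hl (h.mem v) hy) (hr hy (h.mem v)))
      · rintro _ ⟨u, rfl⟩ _ ⟨w, rfl⟩
        refine mem_sup.2 ⟨_, sub_mem (add_mem (hr (hc u a₀) (h.mem w)) (hl (h.mem a₀) (hc (c u a₀) w)))
          (hl (h.mem a₀) (hc w u)), _, ⟨c (c u a₀) w - c w u, by simp [t1 u w], rfl⟩, ?_⟩
        simp only [LinearMap.comp_apply, LinearMap.mulLeft_apply, map_sub, cm_apply]
        noncomm_ring
    refine t0 (LinearMap.ext fun w => ?_)
    have m3 : a * a * ι w ∈ rad ε ^ 3 := mpow (mpow (h.mem a₀) (h.mem a₀) rfl) (h.mem w)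
    obtain ⟨x, hx, _, hy', e⟩ := mem_sup.1 (hκ (anti m3))
    obtain ⟨y, hy, _, ⟨t, rfl⟩, rfl⟩ := mem_sup.1 hy'
    have ht : t = 0 := LinearMap.ker_eq_bot'.1 hκi t ((Submodule.Quotient.mk_eq_zero U).2 (h3U (by
      rw [show κ t = a * a * ι w - x - y by rw [← e]; abel]
      exact sub_mem (sub_mem m3 (anti hx)) (h.k3_le hy))))
    obtain ⟨u, hu, _, ⟨w', hw', rfl⟩, e'⟩ := mem_sup.1 (hk hy)
    rw [sub_eq_zero.1 (La2 (w - w') (by
      rw [map_sub, mul_sub, ← e, ← e', ht]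
      simpa [← add_assoc, mul_assoc] using add_mem (h.mem_perp hx) hu))]
    exact hw'

end onto

theorem false [IsAlgClosed k] : False := by
  set U := perp lam (rad ε ^ (n + 2)) with hU
  let W := (rad ε ^ 2).map U.mkQ
  have h3U : rad ε ^ 3 ≤ U := fun x hx => h.mem_perp hx
  obtain ⟨κ, hκ⟩ := h.exists_kappa
  have hW : finrank k W ≤ 3 := by
    have e1 : W ≤ LinearMap.range (U.mkQ ∘ₗ κ) := by
      rintro _ ⟨x, hx, rfl⟩
      obtain ⟨u, hu, _, ⟨t, rfl⟩, rfl⟩ := mem_sup.1 ((hκ.trans_eq (sup_assoc _ _ _).symm).trans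
        (sup_le_sup_right (sup_le (fun x hx => h3U (anti hx)) (h.k3_le.trans h3U)) _) hx)
      exact ⟨t, ((Submodule.Quotient.eq U).2 (by simpa using hu)).symm⟩
    simpa using (Submodule.finrank_mono e1).trans (LinearMap.finrank_range_le _)
  let μ : V →ₗ[k] V →ₗ[k] W := LinearMap.mk₂ k
    (fun u v => ⟨U.mkQ (ι u * ι v), _, mpow (h.mem u) (h.mem v), rfl⟩)
    (fun _ _ _ => Subtype.ext (by simp [add_mul])) (fun _ _ _ => Subtype.ext (by simp))
    (fun _ _ _ => Subtype.ext (by simp [mul_add])) (fun _ _ _ => Subtype.ext (by simp))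
  have hμ : ∀ u v, (μ u v : A ⧸ U) = U.mkQ (ι u * ι v) := fun u v => rfl
  have z : ∀ u v, μ u v = 0 → ι u * ι v ∈ U := fun u v e =>
    (Submodule.Quotient.mk_eq_zero U).1 (congrArg Subtype.val e)
  rcases singular μ h.dim hW (fun v hv => h.noker fun a => z _ _ (hv a)) with
    ⟨a, ha⟩ | ⟨θ, h1, h2⟩ | ⟨u₁, u₂, ⟨_, l, hl, rfl⟩, h1, h2⟩
  · exact h.onto (a₀ := a) fun b v => (ha b v).imp fun w e =>
      (Submodule.Quotient.eq U).1 (congrArg Subtype.val e).symm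
  · exact h.theta h1 fun v => z _ _ (h2 v)
  · have key : ∀ u v, μ u v ∈ (k ∙ ⟨U.mkQ l, l, hl, rfl⟩ : Submodule k W) → ι u * ι v ∈ U ⊔ k ∙ l := by
      intro u v e
      obtain ⟨t, ht⟩ := mem_span_singleton.1 e
      exact mem_sup.2 ⟨_, (Submodule.Quotient.eq U).1 (congrArg Subtype.val ht).symm, t • l,
        smul_mem _ _ (mem_span_singleton_self _), sub_add_cancel _ _⟩
    exact h.line h1 hl (fun a => key _ _ (h2 a).1) fun a => key _ _ (h2 a).2

end G3

theorem Top.three [IsAlgClosed k] {N : ℕ} (h : Top ε lam N) (hN : 3 ≤ N)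
    (hr : finrank k (rad ε) = finrank k (rad ε ^ 2 : Submodule k A) + 3)
    (hK : rad ε ^ 2 ≤ rad ε ^ N ⊔ kom k A) : finrank k A = 8 := by
  obtain ⟨n, rfl⟩ := Nat.exists_eq_add_of_le' hN
  rcases n with _ | n
  · have h1 := finrank_perp h.toSLA (rad ε ^ 2)
    have h2 := finrank_rad (ε := ε)
    have h3 : perp lam (rad ε ^ 2) = rad ε ^ 2 :=
      le_antisymm (fun x hx => h.three_sub hr.le hK hx) fun x hx => h.mem_perp hx
    rw [h3] at h1
    omega
  obtain ⟨ι, i1, i2, i3⟩ := exists_iota (rad ε) (rad ε ^ 2) (by rw [pow_two]; exact rad_mul_le) hr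
  exact (G3.false (n := n) ⟨h, by simp, fun v => Top.p1 (i1 v), i2,
    fun v hv => i3 v (h.three_sub hr.le hK hv), hK⟩).elim

end H21.SL5
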